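import Groth.Agent.H23.PicMul
import Groth.Prelude.Def_W4c5asymptcohfnACF
import Groth.Prelude.Def_ClSub2

/-!
# Products of integral powers of invertible modules, on isomorphism classes
-/

noncomputable section

set_option linter.style.haveILetI false
set_option linter.unusedSectionVars false

universe u

open CategoryTheory CategoryTheory.Limits AlgebraicGeometry
open scoped Groth.Agent.H23.PicMul

namespace Groth.Agent.Growth22

open Groth.Agent.H23 (PicMul.cl_tensor PicMul.cl_eq_iff PicMul.cl_tensorPow PicMul.one_def)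

variable {X : Scheme.{u}}

/-- Invertible modules with chosen inverses. -/
structure Pairs (X : Scheme.{u}) (r : ℕ) where
  /-- the modules -/
  L : Fin r → X.Modules
  /-- their inverses -/
  M : Fin r → X.Modules
  invL : ∀ j, PicF.IsInvertible (L j)
  inv : ∀ j, ClSub.IsInverseOf (L j) (M j)

theorem cl_mul_eq_one {L M : X.Modules} (h : ClSub.IsInverseOf L M) : PicF.cl L * PicF.cl M = 1 := by
  rw [← PicMul.cl_tensor]
  exact PicMul.cl_eq_iff.2 h

theorem cl_tensorList (l : List X.Modules) : PicF.cl (FGA.tensorList l) = (l.map PicF.cl).prod := by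
  induction l with
  | nil => rfl
  | cons M l ih => rw [List.map_cons, List.prod_cons, ← ih]; rfl

theorem cl_multiTwist {r : ℕ} (L : Fin r → X.Modules) (n : Fin r → ℕ) :
    PicF.cl (FGA.multiTwist L n) = ∏ j, PicF.cl (L j) ^ n j := by
  rw [Fin.prod_univ_def]
  unfold FGA.multiTwist
  rw [cl_tensorList, List.map_map]
  exact congrArg List.prod (List.map_congr_left fun j _ => PicMul.cl_tensorPow (L j) (n j))

variable {r : ℕ} (D : Pairs X r)

/-- The unit given by a module and its inverse. -/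
def Pairs.unit (j : Fin r) : (PicF.Cl X)ˣ :=
  ⟨PicF.cl (D.L j), PicF.cl (D.M j), cl_mul_eq_one (D.inv j), (mul_comm _ _).trans (cl_mul_eq_one (D.inv j))⟩

theorem Pairs.invM (j : Fin r) : PicF.IsInvertible (D.M j) := by
  obtain ⟨E, hE, e⟩ := H23.PicInv.exists_inverse (D.invL j)
  have h1 : PicF.cl (D.L j) * PicF.cl E = 1 := PicMul.cl_eq_iff.2 e
  have h2 : PicF.cl E = PicF.cl (D.M j) :=
    (D.unit j).isUnit.mul_left_cancel (h1.trans (cl_mul_eq_one (D.inv j)).symm)
  obtain ⟨φ⟩ := PicMul.cl_eq_iff.1 h2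
  exact H23.PicMul.isInvertible_of_iso φ hE

/-- `⊗ L_j^{a_j}`. -/
def Pairs.N (a : Fin r → ℤ) : X.Modules := W4c5asymptcohfn.ztwist X D.L D.M a

theorem Pairs.cl_N (a : Fin r → ℤ) : PicF.cl (D.N a) = ((∏ j, D.unit j ^ a j : (PicF.Cl X)ˣ) : PicF.Cl X) := by
  have h1 : PicF.cl (D.N a) =
      (∏ j, PicF.cl (D.L j) ^ (a j).toNat) * ∏ j, PicF.cl (D.M j) ^ (-(a j)).toNat := by
    rw [← cl_multiTwist, ← cl_multiTwist, ← PicMul.cl_tensor]
    rfl
  rw [h1, ← Finset.prod_mul_distrib, Units.coe_prod]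
  refine Finset.prod_congr rfl fun j _ => ?_
  obtain h | h := le_total 0 (a j)
  · obtain ⟨n, hn⟩ := Int.eq_ofNat_of_zero_le h
    rw [hn]
    simp [Pairs.unit]
  · obtain ⟨n, hn⟩ := Int.eq_ofNat_of_zero_le (neg_nonneg.2 h)
    have : a j = -(n : ℤ) := by omega
    rw [this]
    simp [zpow_neg, ← inv_pow, Pairs.unit]

theorem isInvertible_of_isInvertibleCl {M : X.Modules} (h : PicF.IsInvertibleCl (PicF.cl M)) : PicF.IsInvertible M := by
  obtain ⟨L, hcl, hL⟩ := h
  obtain ⟨e⟩ := (PicGrp.cl_eq_cl_iff L M).1 hcl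
  exact H23.PicMul.isInvertible_of_iso e hL

theorem Pairs.invN (a : Fin r → ℤ) : PicF.IsInvertible (D.N a) := by
  have hl : ∀ l : List X.Modules, (∀ M ∈ l, PicF.IsInvertible M) → PicF.IsInvertible (FGA.tensorList l) := fun l => by
    induction l with
    | nil => exact fun _ => PicLoc.isInvertible_structureModule X
    | cons M l ih => exact fun h => H23.PicMul.isInvertible_tensor (h M (by simp)) (ih fun N hN => h N (by simp [hN]))
  refine H23.PicMul.isInvertible_tensor (hl _ ?_) (hl _ ?_) <;> intro M hM <;>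
    obtain ⟨j, -, rfl⟩ := List.mem_map.1 hM
  · exact H23.PicMul.isInvertible_tensorPow (D.invL j) _
  · exact H23.PicMul.isInvertible_tensorPow (D.invM j) _

theorem Pairs.cl_N_add (a b : Fin r → ℤ) :
    PicF.cl (D.N (a + b)) = PicF.cl (D.N a) * PicF.cl (D.N b) := by
  rw [D.cl_N, D.cl_N, D.cl_N, ← Units.val_mul, ← Finset.prod_mul_distrib]
  congr 1
  exact Finset.prod_congr rfl fun j _ => by rw [Pi.add_apply, zpow_add]

theorem Pairs.cl_N_zero : PicF.cl (D.N 0) = 1 := by simp [D.cl_N]

theorem Pairs.cl_N_single (j : Fin r) : PicF.cl (D.N (Pi.single j 1)) = PicF.cl (D.L j) := by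
  rw [D.cl_N, Finset.prod_eq_single j (fun i _ hi => by simp [hi]) (by simp)]
  simp [Pairs.unit]

theorem Pairs.cl_N_bump (a : Fin r → ℤ) (j : Fin r) :
    PicF.cl (D.N (Function.update a j (a j + 1))) = PicF.cl (D.L j) * PicF.cl (D.N a) := by
  rw [show Function.update a j (a j + 1) = Pi.single j 1 + a by
    funext i
    by_cases hi : i = j
    · subst hi; simp [add_comm]
    · simp [hi], D.cl_N_add, D.cl_N_single]

theorem Pairs.cl_N_nsmul (m : ℕ) (a : Fin r → ℤ) :
    PicF.cl (D.N ((m : ℤ) • a)) = PicF.cl (D.N a) ^ m := by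
  induction m with
  | zero => simp [D.cl_N_zero]
  | succ m ih => rw [Nat.cast_succ, add_smul, one_smul, D.cl_N_add, ih, pow_succ]

/-- A single module with a chosen inverse. -/
def Pairs.single {L : X.Modules} (hL : PicF.IsInvertible L) : Pairs X 1 where
  L _ := L
  M _ := (H23.PicInv.exists_inverse hL).choose
  invL _ := hL
  inv _ := (H23.PicInv.exists_inverse hL).choose_spec.2

theorem Pairs.single_N {L : X.Modules} (hL : PicF.IsInvertible L) (m : ℕ) :
    PicF.cl ((Pairs.single hL).N (fun _ => (m : ℤ))) = PicF.cl (CohB1.tensorPow L m) := by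
  rw [PicMul.cl_tensorPow, Pairs.cl_N]
  simp [Pairs.unit, Pairs.single]

end Groth.Agent.Growth22
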