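import Groth.Agent.AmpleX.SemiAmple
import Groth.Agent.AmpleVan.AdicGen
import Groth.Agent.Lib.AVAmple

/-!
# Global generation of an invertible module by sections
-/

noncomputable section

set_option linter.style.haveILetI false
set_option linter.unusedSectionVars false
set_option maxHeartbeats 1000000
set_option backward.isDefEq.respectTransparency false
set_option backward.isDefEq.respectTransparency.types false

universe u

open CategoryTheory CategoryTheory.Limits AlgebraicGeometry TopologicalSpace

namespace Groth.Agent.Growth22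

open Groth.Agent

variable {X : Scheme.{u}} {M : X.Modules}

/-- An epimorphism from a free module gives generating sections. -/
theorem exists_generatedBy_of_isGloballyGenerated (hM : PicF.IsInvertible M) (h : Curv2.IsGloballyGenerated M) :
    ∃ (ι : Type u) (s : ι → Γ(M, ⊤)), ProjUP.GeneratedBy M s := by
  obtain ⟨ι, p, hp⟩ := h
  let p' : (∐ fun _ : ι => Coh.structureModule X) ⟶ M := p
  haveI : Epi p' := hp
  let s : ι → Γ(M, ⊤) := fun i => InvX.one (Sigma.ι (fun _ : ι => Coh.structureModule X) i ≫ p')
  refine ⟨ι, s, AVAmple.generatedBy_of_locus s fun x => ?_⟩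
  by_contra hcon
  push Not at hcon
  let j := X.fromSpecResidueField x
  let φ : M ⟶ (Scheme.Modules.pushforward j).obj ((Scheme.Modules.pullback j).obj M) :=
    (Scheme.Modules.pullbackPushforwardAdjunction j).unit.app M
  have hj : ∀ z, j z = x := fun z => by
    have hz : j z ∈ Set.range j := ⟨z, rfl⟩
    rwa [Scheme.range_fromSpecResidueField] at hz
  have hiM := PicClLib.isInvertible_pullback j hM
  have hzero : p' ≫ φ = 0 := Sigma.hom_ext _ _ fun i => by
    rw [comp_zero, ← Category.assoc]
    refine AmpleVan.one_inj ?_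
    show φ.app ⊤ (s i) = 0
    show (InvX.pullElt j (s i) : Γ((Scheme.Modules.pullback j).obj M, j ⁻¹ᵁ ⊤)) = 0
    refine AmpleX.eq_zero_of_locus_eq_bot hiM _ ?_
    rw [AmpleX.locus_pullElt hM, eq_bot_iff]
    intro z hz
    have hz' : x ∈ AmpleX.locus (s i) := hj z ▸ hz
    obtain ⟨V, ⟨hV, hVf⟩, hxV⟩ := Opens.mem_sSup.1 hz'
    exact absurd (H23.TrivBasic.mem_locus_iff.2 ⟨V, hxV, hVf⟩) (hcon i)
  have hφ0 : φ = 0 := by rw [← cancel_epi p', hzero, comp_zero]
  obtain ⟨U, hxU, e, he⟩ := InvX.exists_frame hM x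
  have hfr := InvX.isFrame_pullElt j he
  have he0 : InvX.pullElt j e = 0 := by
    show φ.app U e = 0
    rw [hφ0]
    rfl
  have h01 : (1 : Γ(Spec (X.residueField x), j ⁻¹ᵁ U)) = 0 := by
    refine (hfr _ le_rfl).1 ?_
    simp only [AModX.res_self, he0, smul_zero]
  obtain ⟨z⟩ : Nonempty (Spec (X.residueField x)) := inferInstance
  have hz : z ∈ j ⁻¹ᵁ U := by
    show j z ∈ U
    rw [hj]; exact hxU
  rw [← Scheme.basicOpen_of_isUnit (Spec (X.residueField x)) (U := j ⁻¹ᵁ U) isUnit_one, h01,
    Scheme.basicOpen_zero] at hz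
  exact hz

end Groth.Agent.Growth22
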