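import Groth.Agent.CurveCohLib.Proper
import Groth.Agent.Lib.Euler
import Groth.Agent.Snapper.IsoOn

/-!
# Inequalities between the dimensions of cohomology groups along maps of coherent modules
-/

noncomputable section

set_option linter.style.haveILetI false
set_option linter.unusedSectionVars false
set_option backward.isDefEq.respectTransparency false
set_option backward.isDefEq.respectTransparency.types false

universe u

open CategoryTheory CategoryTheory.Limits AlgebraicGeometry TopologicalSpace Opposite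
open Groth.Agent.PnCoh.Finite (mapLin deltaLin)

namespace Groth.Agent.Growth22

variable (k : Type u) [Field k] {X : Scheme.{u}} [X.Over (Spec (CommRingCat.of k))]

/-- `dim_k H^i(X, M)`. -/
def h (M : X.Modules) (i : ℕ) : ℕ := Module.finrank k (Coh.HH X M i)

/-- An isomorphism induces an isomorphism on cohomology. -/
def mapEquiv {M N : X.Modules} (e : M ≅ N) (i : ℕ) : Coh.HH X M i ≃ₗ[k] Coh.HH X N i :=
  LinearEquiv.ofBijective (mapLin k e.hom i) <| by
    have h : ∀ {P Q : X.Modules} (e : P ≅ Q) (y : Coh.HH X Q i),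
        mapLin k e.hom i (mapLin k e.inv i y) = y := fun e y =>
      (Groth.Agent.PnCoh.Finite.map_map (Y := X.toPresheafedSpace.carrier)
        (((QCoh.toAbFunctor X).map_comp e.inv e.hom).symm.trans
          (by rw [e.inv_hom_id, CategoryTheory.Functor.map_id]; rfl)) i y).trans (Sheaf.H.map_id_apply y)
    exact Function.bijective_iff_has_inverse.mpr ⟨mapLin k e.inv i, fun x => h e.symm x, h e⟩

theorem h_congr {M N : X.Modules} (e : M ≅ N) (i : ℕ) : h k M i = h k N i :=
  (mapEquiv k e i).finrank_eq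

theorem h_eq_zero_of_isZero {M : X.Modules} (hM : IsZero M) (i : ℕ) : h k M i = 0 := by
  haveI := Euler.subsingleton_HH_of_isZero hM i
  exact Module.finrank_zero_of_subsingleton

variable [IsProper (X ↘ Spec (CommRingCat.of k))]

theorem finite_HH {M : X.Modules} (hM : Coh.IsCoh M) (i : ℕ) : Module.Finite k (Coh.HH X M i) :=
  CurveCohLib.finite_HH (k := k) hM i

section SES

variable {S : ShortComplex X.Modules}

/-- The exact sequence in degree `i`, as identities between dimensions. -/
theorem key (hS : S.ShortExact) (h₁ : Coh.IsCoh S.X₁) (h₂ : Coh.IsCoh S.X₂) (h₃ : Coh.IsCoh S.X₃) (i : ℕ) :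
    h k S.X₁ i + h k S.X₃ i = h k S.X₂ i + Module.finrank k (LinearMap.ker (mapLin k S.f i)) +
      Module.finrank k (LinearMap.ker (mapLin k S.f (i + 1))) := by
  haveI := finite_HH k h₁ i
  haveI := finite_HH k h₂ i
  haveI := finite_HH k h₃ i
  have e1 := (mapLin k S.f i).finrank_range_add_finrank_ker
  have e2 := (mapLin k S.g i).finrank_range_add_finrank_ker
  have e3 := (deltaLin k hS i).finrank_range_add_finrank_ker
  rw [Euler.range_mapLin_f k hS i] at e1
  rw [Euler.range_mapLin_g k hS i] at e2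
  rw [Euler.range_deltaLin k hS i] at e3
  unfold h
  omega

theorem h_X₂_le (hS : S.ShortExact) (h₁ : Coh.IsCoh S.X₁) (h₂ : Coh.IsCoh S.X₂) (h₃ : Coh.IsCoh S.X₃)
    (i : ℕ) : h k S.X₂ i ≤ h k S.X₁ i + h k S.X₃ i := by
  have := key k hS h₁ h₂ h₃ i
  omega

theorem h_X₁_le (hS : S.ShortExact) (h₁ : Coh.IsCoh S.X₁) (h₂ : Coh.IsCoh S.X₂) (h₃ : Coh.IsCoh S.X₃)
    (i : ℕ) : h k S.X₁ i ≤ h k S.X₂ i + h k S.X₃ (i - 1) := by
  haveI := finite_HH k h₁ i
  haveI := finite_HH k h₂ i
  have e1 := (mapLin k S.f i).finrank_range_add_finrank_ker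
  have hr : Module.finrank k (LinearMap.range (mapLin k S.f i)) ≤ h k S.X₂ i := Submodule.finrank_le _
  rcases i with _ | j
  · rw [Euler.ker_mapLin_f_zero k hS, finrank_bot] at e1
    unfold h at hr ⊢
    omega
  · rw [show j + 1 - 1 = j from Nat.add_sub_cancel j 1]
    have := key k hS h₁ h₂ h₃ j
    haveI := finite_HH k h₁ j
    haveI := finite_HH k h₂ j
    have e2 := (mapLin k S.f j).finrank_range_add_finrank_ker
    have hr' : Module.finrank k (LinearMap.range (mapLin k S.f j)) ≤ h k S.X₂ j := Submodule.finrank_le _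
    unfold h at *
    omega

theorem h_X₃_le (hS : S.ShortExact) (h₁ : Coh.IsCoh S.X₁) (h₂ : Coh.IsCoh S.X₂) (h₃ : Coh.IsCoh S.X₃)
    (i : ℕ) : h k S.X₃ i ≤ h k S.X₂ i + h k S.X₁ (i + 1) := by
  have := key k hS h₁ h₂ h₃ i
  haveI := finite_HH k h₁ i
  haveI := finite_HH k h₁ (i + 1)
  have e1 := (mapLin k S.f i).finrank_range_add_finrank_ker
  have h2 : Module.finrank k (LinearMap.ker (mapLin k S.f (i + 1))) ≤ h k S.X₁ (i + 1) := Submodule.finrank_le _
  have h3 : Module.finrank k (LinearMap.ker (mapLin k S.f i)) ≤ h k S.X₁ i := Submodule.finrank_le _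
  unfold h at *
  omega

end SES

/-- A split sequence is additive. -/
theorem h_X₂_of_splitting {S : ShortComplex X.Modules} (s : S.Splitting) (hS : S.ShortExact)
    (h₁ : Coh.IsCoh S.X₁) (h₂ : Coh.IsCoh S.X₂) (h₃ : Coh.IsCoh S.X₃) (i : ℕ) :
    h k S.X₂ i = h k S.X₁ i + h k S.X₃ i := by
  have hker : ∀ j, LinearMap.ker (mapLin k S.f j) = ⊥ := fun j => by
    refine LinearMap.ker_eq_bot.2 fun x y hxy => ?_
    have hid : ∀ z, mapLin k s.r j (mapLin k S.f j z) = z := fun z =>
      (Groth.Agent.PnCoh.Finite.map_map (Y := X.toPresheafedSpace.carrier)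
        (((QCoh.toAbFunctor X).map_comp S.f s.r).symm.trans
          (by rw [s.f_r, CategoryTheory.Functor.map_id]; rfl)) j z).trans (Sheaf.H.map_id_apply z)
    rw [← hid x, hxy, hid y]
  have := key k hS h₁ h₂ h₃ i
  rw [hker i, hker (i + 1)] at this
  have e0 : Module.finrank k (⊥ : Submodule k (Coh.HH X S.X₁ i)) = 0 := finrank_bot k _
  have e1 : Module.finrank k (⊥ : Submodule k (Coh.HH X S.X₁ (i + 1))) = 0 := finrank_bot k _
  rw [e0, e1] at this
  omega

theorem isCoh_image [IsLocallyNoetherian X] {A B : X.Modules} (hA : Coh.IsCoh A) (hB : Coh.IsCoh B)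
    (φ : A ⟶ B) : Coh.IsCoh (Abelian.image φ) :=
  QCoh.isCoh_of_epi (Abelian.factorThruImage φ) hA
    (QCoh.isQCoh_kernel hB.1 (QCoh.isQCoh_cokernel hA.1 hB.1 φ) _)

theorem shortExact_kernel_image {A B : X.Modules} (φ : A ⟶ B) :
    (ShortComplex.mk (kernel.ι φ) (Abelian.factorThruImage φ)
      ((cancel_mono (Abelian.image.ι φ)).1
        (by rw [Category.assoc, Abelian.image.fac, kernel.condition, zero_comp]))).ShortExact :=
  { exact := ShortComplex.exact_of_f_is_kernel _ (KernelFork.IsLimit.ofι' _ _ fun {T} t ht =>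
      ⟨kernel.lift φ t (by rw [← Abelian.image.fac φ, reassoc_of% ht, zero_comp]), kernel.lift_ι _ _ _⟩)
    mono_f := inferInstance
    epi_g := inferInstance }

theorem shortExact_image_cokernel {A B : X.Modules} (φ : A ⟶ B) :
    (ShortComplex.mk (Abelian.image.ι φ) (cokernel.π φ) (kernel.condition _)).ShortExact :=
  { exact := ShortComplex.exact_of_f_is_kernel _ (kernelIsKernel (cokernel.π φ))
    mono_f := inferInstance
    epi_g := inferInstance }

/-- The error in comparing source and target of a map. -/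
def err {A B : X.Modules} (φ : A ⟶ B) (i : ℕ) : ℕ :=
  h k (kernel φ) i + h k (kernel φ) (i + 1) + h k (cokernel φ) i + h k (cokernel φ) (i - 1)

theorem h_map_le [IsLocallyNoetherian X] {A B : X.Modules} (hA : Coh.IsCoh A) (hB : Coh.IsCoh B)
    (φ : A ⟶ B) (i : ℕ) :
    h k A i ≤ h k B i + err k φ i ∧ h k B i ≤ h k A i + err k φ i := by
  have hK := QCoh.isCoh_kernel hA hB φ
  have hC := QCoh.isCoh_cokernel hA.1 hB φ
  have hI := isCoh_image hA hB φ
  have a1 := h_X₂_le k (shortExact_kernel_image φ) hK hA hI i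
  have a2 := h_X₁_le k (shortExact_image_cokernel φ) hI hB hC i
  have b1 := h_X₂_le k (shortExact_image_cokernel φ) hI hB hC i
  have b2 := h_X₃_le k (shortExact_kernel_image φ) hK hA hI i
  dsimp only at a1 a2 b1 b2
  unfold err
  omega

end Groth.Agent.Growth22
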