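import Groth.Agent.Lib.PnDualTwist
import Groth.Agent.Pic13Lib.Twist
import Groth.Agent.GrLib8.HilbertFn
import Groth.Agent.HilbPoly.Poly
import Groth.Agent.VarBase.Nakai
import Groth.Agent.S0844

/-!
# The Euler characteristic of `O(d)` on projective space
-/

noncomputable section

set_option linter.style.haveILetI false
set_option linter.unusedSectionVars false
set_option maxHeartbeats 1000000
set_option backward.isDefEq.respectTransparency false
set_option backward.isDefEq.respectTransparency.types false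

universe u

open CategoryTheory CategoryTheory.Limits AlgebraicGeometry TopologicalSpace Opposite
open Groth.Agent.H23.PicMul (cl_tensor cl_tensorPow cl_eq_iff)
open scoped Groth.Agent.H23.PicMul

attribute [local instance] HasDerivedCategory.standard

namespace Groth.Agent.Growth22

open Groth.Agent

variable (k : Type u) [Field k] (n : ℕ)

theorem finrank_homogeneous (j : ℕ) :
    Module.finrank k (MvPolynomial.homogeneousSubmodule (Fin (n + 1)) k j) = Nat.choose (n + j) n := by
  have h := (GrLib8.stdGr_piece (k := k) n (j : ℤ)).2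
  rwa [GrLib8.stdGr_natCast, if_pos (Int.natCast_nonneg j), Int.toNat_natCast] at h

theorem euler_twist_deg (j : ℕ) :
    Curv2.euler k (CohB1.ProjSpace n k) (Twist.twistProjSpace n k (PnDual.deg n j)) =
      (-1 : ℤ) ^ n * (Nat.choose (n + j) n : ℤ) := by
  rw [Euler.euler_eq_sum k _ (n + 1) fun i hi => S0844.result k n _ i (fun h => by omega) (fun h => by omega),
    Finset.sum_eq_single_of_mem n (by simp) fun i _ hne => ?_]
  · obtain ⟨E, -⟩ := PnDual.exists_equiv (m := n) (R := k) j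
    rw [← finrank_homogeneous k n j, ← E.finrank_eq]
  · haveI := S0844.result k n (PnDual.deg n j) i (fun h => by simp only [PnDual.deg] at h; omega) (fun h => hne h.1)
    simp [Module.finrank_zero_of_subsingleton]

theorem choose_deg (j : ℕ) :
    Ring.choose (PnDual.deg n j + n) n = (-1 : ℤ) ^ n * (Nat.choose (n + j) n : ℤ) := by
  rw [show PnDual.deg n j + (n : ℤ) = -((j : ℤ) + 1) by simp only [PnDual.deg]; ring, Ring.choose_neg,
    show ((j : ℤ) + 1 + n - 1) = ((n + j : ℕ) : ℤ) by push_cast; ring, Ring.choose_natCast]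
  rw [Units.smul_def, smul_eq_mul, Int.coe_negOnePow_natCast]

theorem pow_hyp_id (d : ℕ) :
    PicF.cl (Pic13Lib.hyp (𝟙 (CohB1.ProjSpace n k)) 1) ^ d = PicF.cl (Pic13Lib.hyp (𝟙 (CohB1.ProjSpace n k)) (d : ℤ)) := by
  induction d with
  | zero => rw [pow_zero, Nat.cast_zero, Pic13Lib.cl_hyp_zero]
  | succ d ih => rw [pow_succ, ih, Pic13Lib.cl_hyp_add, Nat.cast_succ]

theorem cl_hyp_id (d : ℤ) :
    PicF.cl (Pic13Lib.hyp (𝟙 (CohB1.ProjSpace n k)) d) = PicF.cl (Twist.twistProjSpace n k d) :=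
  cl_eq_iff.2 ⟨(Scheme.Modules.pullbackId _).app _⟩

/-- `χ(O(d)) = (d + n choose n)`. -/
theorem euler_twist (d : ℤ) :
    Curv2.euler k (CohB1.ProjSpace n k) (Twist.twistProjSpace n k d) = Ring.choose (d + n) n := by
  haveI : IsProper (CohB1.ProjSpace n k ↘ Spec (CommRingCat.of k)) := PnCoh.Chow.isProper_toSpec n k
  haveI := CurveCohLib.isNoetherian_of_proper (k := k) (X := CohB1.ProjSpace n k)
  obtain ⟨D, hD⟩ := VarBase.exists_dim_le (X := CohB1.ProjSpace n k) k
  obtain ⟨t, ht⟩ : ∃ t : ℕ, -((n : ℤ) + 1 + max D n + t) ≤ d := ⟨d.natAbs, by omega⟩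
  let d₀ : ℤ := -((n : ℤ) + 1 + max D n + t)
  let A := Pic13Lib.hyp (𝟙 (CohB1.ProjSpace n k)) 1
  have hG : Coh.IsCoh (Twist.twistProjSpace n k d₀) :=
    CurveDeg.isCoh_of_isInvertible (PnCoh.Finite.isInvertible_twist (ProjRegular.coords k n)
      ProjRegular.coords_mem ProjRegular.coords_cover d₀)
  obtain ⟨P, hP, hdeg, -⟩ := HilbPoly.exists_poly (HilbPoly.additive_euler k) (Pic13Lib.isInvertible_hyp (𝟙 _) 1) hG
    (d := max D n) (((topologicalKrullDim_subspace_le _ _).trans hD).trans (by exact_mod_cast le_max_left D n))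
  have hval : ∀ m : ℕ, (Curv2.euler k (CohB1.ProjSpace n k) (Twist.twistProjSpace n k (d₀ + m)) : ℚ) =
      P.eval (m : ℚ) := fun m => by
    rw [← hP m]
    refine congrArg _ ((HilbPoly.additive_euler k).iso _ _ (cl_eq_iff.1 ?_))
    rw [HilbPoly.pw, cl_tensor, cl_tensorPow, pow_hyp_id, cl_hyp_id, ← cl_hyp_id k n d₀, ← cl_hyp_id k n (m : ℤ),
      Pic13Lib.cl_hyp_add, cl_hyp_id]
  let Q : Polynomial ℚ := Polynomial.C ((n.factorial : ℚ)⁻¹) *
    ((descPochhammer ℚ n).comp (Polynomial.X + Polynomial.C ((d₀ : ℚ) + n)))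
  have hQ : ∀ m : ℕ, ((Ring.choose (d₀ + (m : ℤ) + n) n : ℤ) : ℚ) = Q.eval (m : ℚ) := fun m => by
    simp only [Q, Polynomial.eval_mul, Polynomial.eval_C, Polynomial.eval_comp, Polynomial.eval_add,
      Polynomial.eval_X]
    have h := Ring.choose_eq_smul (R := ℚ) (a := ((d₀ + (m : ℤ) + n : ℤ) : ℚ)) (n := n)
    rw [smul_eq_mul, ← Polynomial.aeval_eq_smeval, Polynomial.aeval_def, ← Polynomial.eval_map,
      descPochhammer_map] at h
    have hc : ((Ring.choose (d₀ + (m : ℤ) + n) n : ℤ) : ℚ) = Ring.choose ((d₀ + (m : ℤ) + n : ℤ) : ℚ) n :=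
      Ring.map_choose (Int.castRingHom ℚ) _ n
    rw [hc, h]
    congr 2
    push_cast
    ring
  have hQd : Q.natDegree ≤ max D n := by
    refine le_trans (Polynomial.natDegree_C_mul_le _ _) (le_trans Polynomial.natDegree_comp_le ?_)
    rw [descPochhammer_natDegree, Polynomial.natDegree_X_add_C, mul_one]
    exact le_max_right D n
  have hPQ : P = Q := by
    refine Polynomial.eq_of_natDegree_lt_card_of_eval_eq P Q (f := fun i : Fin (max D n + 1) => ((i : ℕ) : ℚ))
      (fun a b hab => Fin.ext (Nat.cast_injective (R := ℚ) hab)) (fun i => ?_) ?_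
    · obtain ⟨j, hj⟩ : ∃ j : ℕ, PnDual.deg n j = d₀ + (i : ℕ) := by
        have := i.2
        exact ⟨max D n + t - (i : ℕ), by simp only [PnDual.deg, d₀]; omega⟩
      rw [← hval, ← hQ, ← hj, euler_twist_deg, choose_deg]
    · rw [Fintype.card_fin]
      omega
  obtain ⟨m, hm⟩ := Int.eq_ofNat_of_zero_le (show 0 ≤ d - d₀ by simp only [d₀]; omega)
  have hd : d = d₀ + (m : ℤ) := by omega
  have h := hval m
  rw [hPQ, ← hQ, ← hd] at h
  exact_mod_cast h

end Groth.Agent.Growth22
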