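import Groth.Agent.Growth22.Num
import Mathlib.Order.LiminfLimsup
import Mathlib.Order.Filter.AtTopBot.Basic
import Mathlib.Topology.Algebra.Order.LiminfLimsup
import Mathlib.Analysis.SpecificLimits.Basic
import Mathlib.Algebra.Order.Floor.Semiring
import Mathlib.Analysis.Normed.Group.Continuity
import Mathlib.Analysis.Normed.Group.Real
import Mathlib.Analysis.SpecificLimits.Normed

/-!
# Upper limits of normalised sequences of polynomial growth
-/

open Filter Topology

namespace Groth.Agent.Growth22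

/-- `u m / m ^ n`, scaled. -/
noncomputable def nrm (K : ℝ) (n : ℕ) (u : ℕ → ℕ) (m : ℕ) : ℝ := (u m : ℝ) * K / (m : ℝ) ^ n

/-- Bounded by a polynomial of degree `< d` on the naturals. -/
def SmN : ℕ → (ℕ → ℕ) → Prop
  | 0, e => ∀ m, e m = 0
  | d + 1, e => ∃ c, ∀ m, e m ≤ c * (1 + m) ^ d

theorem SmN.tendsto {K : ℝ} {d : ℕ} {e : ℕ → ℕ} (h : SmN d e) : Tendsto (nrm K d e) atTop (𝓝 0) := by
  cases d with
  | zero => exact tendsto_const_nhds.congr fun m => by simp [nrm, h m]
  | succ d =>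
    obtain ⟨c, hc⟩ := h
    refine squeeze_zero_norm' (a := fun m : ℕ => (c * 2 ^ d * |K| : ℝ) / m) ?_
      (tendsto_const_div_atTop_nhds_zero_nat _)
    filter_upwards [eventually_ge_atTop 1] with m hm
    have hm' : (0 : ℝ) < m := by exact_mod_cast hm
    have h1 : (e m : ℝ) ≤ (c : ℝ) * 2 ^ d * (m : ℝ) ^ d := by
      have h2 : e m ≤ c * (2 * m) ^ d := (hc m).trans (Nat.mul_le_mul_left c (Nat.pow_le_pow_left (by omega) d))
      have h3 : (e m : ℝ) ≤ (c : ℝ) * (2 * m) ^ d := by exact_mod_cast h2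
      rw [mul_assoc, ← mul_pow]
      exact h3
    rw [nrm, Real.norm_eq_abs, abs_div, abs_mul, Nat.abs_cast, abs_of_pos (pow_pos hm' _), pow_succ,
      div_le_div_iff₀ (by positivity) hm']
    calc (e m : ℝ) * |K| * m ≤ (c * 2 ^ d * (m : ℝ) ^ d) * |K| * m := by gcongr
      _ = c * 2 ^ d * |K| * ((m : ℝ) ^ d * m) := by ring

theorem nrm_abs_le {K : ℝ} {d : ℕ} {u : ℕ → ℕ} (h : SmN (d + 1) u) :
    ∃ C : ℝ, ∀ᶠ m in atTop, |nrm K d u m| ≤ C := by
  obtain ⟨c, hc⟩ := h
  refine ⟨c * 2 ^ d * |K|, ?_⟩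
  filter_upwards [eventually_ge_atTop 1] with m hm
  have hm' : (0 : ℝ) < m := by exact_mod_cast hm
  have h2 : u m ≤ c * (2 * m) ^ d := (hc m).trans (Nat.mul_le_mul_left c (Nat.pow_le_pow_left (by omega) d))
  have h3 : (u m : ℝ) ≤ (c : ℝ) * (2 * m) ^ d := by exact_mod_cast h2
  rw [nrm, abs_div, abs_mul, Nat.abs_cast, abs_of_pos (pow_pos hm' _), div_le_iff₀ (pow_pos hm' _)]
  calc (u m : ℝ) * |K| ≤ (c * (2 * (m : ℝ)) ^ d) * |K| := by gcongr
    _ = _ := by rw [mul_pow]; ring

theorem bdd_of_abs {f : ℕ → ℝ} {C : ℝ} (h : ∀ᶠ m in atTop, |f m| ≤ C) :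
    IsBoundedUnder (· ≤ ·) atTop f ∧ IsBoundedUnder (· ≥ ·) atTop f :=
  ⟨⟨C, eventually_map.2 (h.mono fun _ hm => (abs_le.1 hm).2)⟩,
    ⟨-C, eventually_map.2 (h.mono fun _ hm => (abs_le.1 hm).1)⟩⟩

theorem limsup_le_of_sub_tendsto {f g : ℕ → ℝ} {C : ℝ} (hg : ∀ᶠ m in atTop, |g m| ≤ C)
    (h : Tendsto (fun m => f m - g m) atTop (𝓝 0)) : limsup f atTop ≤ limsup g atTop := by
  have hev : ∀ ε > 0, ∀ᶠ m in atTop, |f m - g m| < ε := fun ε hε => by
    have := Metric.tendsto_nhds.1 h ε hε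
    simpa [Real.dist_eq] using this
  have hf : ∀ᶠ m in atTop, |f m| ≤ C + 1 := by
    filter_upwards [hg, hev 1 one_pos] with m h1 h2
    have := abs_sub_abs_le_abs_sub (f m) (g m)
    linarith
  refine le_of_forall_pos_le_add fun ε hε => limsup_le_of_le (bdd_of_abs hf).2.isCoboundedUnder_le ?_
  filter_upwards [eventually_lt_of_limsup_lt (show limsup g atTop < limsup g atTop + ε / 2 by linarith)
    (bdd_of_abs hg).1, hev (ε / 2) (by linarith)] with m h1 h2
  have := abs_lt.1 h2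
  linarith

theorem limsup_eq_of_sub_tendsto {f g : ℕ → ℝ} {C : ℝ} (hg : ∀ᶠ m in atTop, |g m| ≤ C)
    (h : Tendsto (fun m => f m - g m) atTop (𝓝 0)) : limsup f atTop = limsup g atTop := by
  refine le_antisymm (limsup_le_of_sub_tendsto hg h) ?_
  have hf : ∀ᶠ m in atTop, |f m| ≤ C + 1 := by
    have := Metric.tendsto_nhds.1 h 1 one_pos
    filter_upwards [hg, this] with m h1 h2
    rw [Real.dist_eq, sub_zero] at h2
    have := abs_sub_abs_le_abs_sub (f m) (g m)
    linarith
  refine limsup_le_of_sub_tendsto hf ?_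
  simpa using h.neg

theorem tendsto_sub_of_err {K : ℝ} {n : ℕ} {u v e : ℕ → ℕ} (he : SmN n e)
    (h : ∀ m, u m ≤ v m + e m ∧ v m ≤ u m + e m) :
    Tendsto (fun m => nrm K n u m - nrm K n v m) atTop (𝓝 0) := by
  refine squeeze_zero_norm (fun m => ?_) (SmN.tendsto (K := |K|) he)
  have h1 : (u m : ℝ) ≤ v m + e m := by exact_mod_cast (h m).1
  have h2 : (v m : ℝ) ≤ u m + e m := by exact_mod_cast (h m).2
  have hd : (0 : ℝ) ≤ (m : ℝ) ^ n := by positivity
  rw [Real.norm_eq_abs, nrm, nrm, nrm, ← sub_div, ← sub_mul, abs_div, abs_mul, abs_of_nonneg hd]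
  refine div_le_div_of_nonneg_right (mul_le_mul_of_nonneg_right ?_ (abs_nonneg _)) hd
  exact abs_le.2 ⟨by linarith, by linarith⟩

theorem limsup_nrm_congr {K : ℝ} {n : ℕ} {u v e : ℕ → ℕ} (hv : SmN (n + 1) v) (he : SmN n e)
    (h : ∀ m, u m ≤ v m + e m ∧ v m ≤ u m + e m) : limsup (nrm K n u) atTop = limsup (nrm K n v) atTop :=
  let ⟨_, hC⟩ := nrm_abs_le (K := K) hv
  limsup_eq_of_sub_tendsto hC (tendsto_sub_of_err he h)

/-- Passing to the multiples of `a` does not change the upper limit. -/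
theorem tendsto_nrm_sub_mul_div {K : ℝ} {n a : ℕ} (ha : 0 < a) {u e : ℕ → ℕ} (hu : SmN (n + 1) u) (he : SmN n e)
    (h : ∀ m, u (m + 1) ≤ u m + e m ∧ u m ≤ u (m + 1) + e m) :
    Tendsto (fun m => nrm K n u m - nrm K n u (a * (m / a))) atTop (𝓝 0) := by
  have hq : Tendsto (fun m : ℕ => ((a * (m / a) : ℕ) : ℝ) / m) atTop (𝓝 1) := by
    have h0 : Tendsto (fun m : ℕ => 1 - (a : ℝ) / m) atTop (𝓝 1) := by
      simpa using (tendsto_const_div_atTop_nhds_zero_nat (a : ℝ)).const_sub 1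
    refine tendsto_of_tendsto_of_tendsto_of_le_of_le' h0 tendsto_const_nhds ?_ ?_
    · filter_upwards [eventually_ge_atTop 1] with m hm
      have hm' : (0 : ℝ) < m := by exact_mod_cast hm
      have h1 : m ≤ a * (m / a) + a := by have := Nat.div_add_mod m a; have := Nat.mod_lt m ha; omega
      have h2 : (m : ℝ) ≤ ((a * (m / a) : ℕ) : ℝ) + a := by exact_mod_cast h1
      rw [one_sub_div hm'.ne']
      exact div_le_div_of_nonneg_right (by linarith) hm'.le
    · filter_upwards [eventually_ge_atTop 1] with m hm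
      have hm' : (0 : ℝ) < m := by exact_mod_cast hm
      rw [div_le_one hm']
      exact_mod_cast Nat.mul_div_le m a
  -- the error accumulated from `a * (m / a)` to `m`
  let q : ℕ → ℕ := fun m => a * (m / a)
  let E : ℕ → ℕ := fun m => ∑ i ∈ Finset.Ico (q m) m, e i
  have hacc : ∀ p m, p ≤ m → u m ≤ u p + ∑ i ∈ Finset.Ico p m, e i ∧ u p ≤ u m + ∑ i ∈ Finset.Ico p m, e i := by
    intro p m hpm
    induction m, hpm using Nat.le_induction with
    | base => simp
    | succ m hpm ih =>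
      rw [Finset.sum_Ico_succ_top hpm]
      have := h m
      omega
  have hE : SmN n E := by
    cases n with
    | zero => exact fun m => Finset.sum_eq_zero fun i _ => he i
    | succ d =>
      obtain ⟨c, hc⟩ := he
      refine ⟨a * c, fun m => ?_⟩
      calc E m ≤ ∑ _i ∈ Finset.Ico (q m) m, c * (1 + m) ^ d := Finset.sum_le_sum fun i hi =>
            (hc i).trans (Nat.mul_le_mul_left c (Nat.pow_le_pow_left (by rw [Finset.mem_Ico] at hi; omega) d))
        _ ≤ a * (c * (1 + m) ^ d) := by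
            rw [Finset.sum_const, Nat.card_Ico, smul_eq_mul]
            refine Nat.mul_le_mul_right _ ?_
            show m - a * (m / a) ≤ a
            have := Nat.div_add_mod m a
            have := Nat.mod_lt m ha
            omega
        _ = a * c * (1 + m) ^ d := by ring
  have h1 : Tendsto (fun m => nrm K n u m - nrm K n (fun m => u (q m)) m) atTop (𝓝 0) :=
    tendsto_sub_of_err hE fun m => hacc (q m) m (Nat.mul_div_le m a)
  obtain ⟨C, hC⟩ := nrm_abs_le (K := K) hu
  have hqtop : Tendsto q atTop atTop :=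
    tendsto_atTop_atTop.2 fun b => ⟨b + a, fun m hm => by
      show b ≤ a * (m / a)
      have := Nat.div_add_mod m a
      have := Nat.mod_lt m ha
      omega⟩
  have h2 : Tendsto (fun m => nrm K n (fun m => u (q m)) m - nrm K n u (q m)) atTop (𝓝 0) := by
    have h3 : Tendsto (fun m : ℕ => C * |((q m : ℝ) / m) ^ n - 1|) atTop (𝓝 0) := by
      simpa [q] using (((hq.pow n).sub_const 1).abs).const_mul C
    refine squeeze_zero_norm' ?_ h3
    filter_upwards [hqtop.eventually hC, hqtop.eventually (eventually_ge_atTop 1), eventually_ge_atTop 1] with m hb hq1 hm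
    have hq' : (0 : ℝ) < q m := by exact_mod_cast hq1
    have hm' : (0 : ℝ) < m := by exact_mod_cast hm
    have : nrm K n (fun m => u (q m)) m - nrm K n u (q m) = nrm K n u (q m) * (((q m : ℝ) / m) ^ n - 1) := by
      have h4 : (m : ℝ) ^ n ≠ 0 := (pow_pos hm' n).ne'
      have h5 : (q m : ℝ) ^ n ≠ 0 := (pow_pos hq' n).ne'
      simp only [nrm, div_pow]
      field_simp
    rw [this, Real.norm_eq_abs, abs_mul]
    exact mul_le_mul_of_nonneg_right hb (abs_nonneg _)
  simpa [q] using h1.add h2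

theorem limsup_nrm_mul {K : ℝ} {n a : ℕ} (ha : 0 < a) {u e : ℕ → ℕ} (hu : SmN (n + 1) u) (he : SmN n e)
    (h : ∀ m, u (m + 1) ≤ u m + e m ∧ u m ≤ u (m + 1) + e m) :
    limsup (nrm K n (fun m => u (a * m))) atTop = (a : ℝ) ^ n * limsup (nrm K n u) atTop := by
  have ha' : (0 : ℝ) < a := by exact_mod_cast ha
  obtain ⟨C, hC⟩ := nrm_abs_le (K := K) hu
  have hmul : Tendsto (fun m => a * m) atTop atTop := tendsto_id.const_mul_atTop' ha
  have hdiv : Tendsto (fun m => m / a) atTop atTop :=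
    (Filter.map_div_atTop_eq_nat a ha).le
  have h1 : limsup (nrm K n u) atTop = limsup (fun m => nrm K n u (a * m)) atTop := by
    have hb : ∀ᶠ m in atTop, |nrm K n u (a * (m / a))| ≤ C := hdiv.eventually (hmul.eventually hC)
    rw [limsup_eq_of_sub_tendsto hb (tendsto_nrm_sub_mul_div ha hu he h)]
    show limsup ((fun m => nrm K n u (a * m)) ∘ fun m => m / a) atTop = _
    rw [limsup, limsup, ← Filter.map_map, Filter.map_div_atTop_eq_nat a ha]
  have h2 : nrm K n (fun m => u (a * m)) = fun m => (a : ℝ) ^ n * nrm K n u (a * m) := by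
    funext m
    simp only [nrm, Nat.cast_mul, mul_pow]
    field_simp
  rw [h1, h2]
  exact ((OrderIso.mulLeft₀ ((a : ℝ) ^ n) (pow_pos ha' n)).limsup_apply
    (bdd_of_abs (hmul.eventually hC)).1 (bdd_of_abs (hmul.eventually hC)).2.isCoboundedUnder_le
    (bdd_of_abs (show ∀ᶠ m in atTop, |(a : ℝ) ^ n * nrm K n u (a * m)| ≤ (a : ℝ) ^ n * C from
      (hmul.eventually hC).mono fun m hm => by
        rw [abs_mul, abs_of_pos (pow_pos ha' n)]
        exact mul_le_mul_of_nonneg_left hm (pow_pos ha' n).le)).1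
    (bdd_of_abs (show ∀ᶠ m in atTop, |(a : ℝ) ^ n * nrm K n u (a * m)| ≤ (a : ℝ) ^ n * C from
      (hmul.eventually hC).mono fun m hm => by
        rw [abs_mul, abs_of_pos (pow_pos ha' n)]
        exact mul_le_mul_of_nonneg_left hm (pow_pos ha' n).le)).2.isCoboundedUnder_le).symm

end Groth.Agent.Growth22
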