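import Groth.Agent.Growth22.Main
import Groth.Agent.Growth22.Lim

/-!
# The sequences `m ↦ h^i(F ⊗ L^m)` and their upper limits
-/

noncomputable section

set_option linter.style.haveILetI false
set_option linter.unusedSectionVars false
set_option maxHeartbeats 1000000
set_option backward.isDefEq.respectTransparency false
set_option backward.isDefEq.respectTransparency.types false

universe u

open CategoryTheory CategoryTheory.Limits AlgebraicGeometry TopologicalSpace Opposite Filter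
open scoped Groth.Agent.H23.PicMul

namespace Groth.Agent.Growth22

open Groth.Agent

variable (k : Type u) [Field k] {X : Scheme.{u}} [X.Over (Spec (CommRingCat.of k))]
  [IsProper (X ↘ Spec (CommRingCat.of k))]

/-- `m ↦ h^i(F ⊗ L^m)`. -/
def seq (F L : X.Modules) (i : ℕ) (m : ℕ) : ℕ := h k (CohB1.tensorMod F (CohB1.tensorPow L m)) i

theorem seq_eq_F₀ {L : X.Modules} (hL : PicF.IsInvertible L) (F : X.Modules) (i m : ℕ) :
    seq k F L i m = F₀ k (Pairs.single hL) F i (fun _ => (m : ℤ)) := by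
  refine h_congr k (H23.PicMul.cl_eq_iff.1 ?_).some i
  rw [H23.PicMul.cl_tensor, H23.PicMul.cl_tensor, Pairs.single_N]

theorem sz_const (m : ℕ) : sz (fun _ : Fin 1 => (m : ℤ)) = m := by simp [sz]

theorem smN_of_sm {d : ℕ} {g : (Fin 1 → ℤ) → ℕ} (hg : Sm d g) : SmN d (fun m => g fun _ => (m : ℤ)) := by
  cases d with
  | zero => exact fun m => hg _
  | succ d => exact hg.imp fun c hc m => (hc _).trans_eq (by rw [sz_const])

theorem small_top {n : ℕ} (hn : topologicalKrullDim X ≤ n) (M : X.Modules) : Small (n + 1) M :=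
  ⟨⊤, lt_of_le_of_lt ((topologicalKrullDim_subspace_le X Set.univ).trans hn)
    (by exact_mod_cast Nat.lt_succ_self n), fun _ _ => trivial⟩

include k in
theorem small_of_dim_lt {n : ℕ} {M : X.Modules} (hM : Coh.IsCoh M)
    (hd : topologicalKrullDim ↥(CohB1.support M) < (n : WithBot ℕ∞)) : Small n M :=
  haveI := CurveCohLib.isNoetherian_of_proper (k := k) (X := X)
  Small.of_subset (QCoh.isClosed_support_of_isFT hM.1 hM.2) hd subset_rfl

variable {L : X.Modules}

theorem seq_growth (hL : PicF.IsInvertible L) {F : X.Modules} (hF : Coh.IsCoh F) {d : ℕ} (hd : Small d F) (i : ℕ) :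
    SmN d (seq k F L i) := by
  rw [show seq k F L i = fun m : ℕ => F₀ k (Pairs.single hL) F i (fun _ => (m : ℤ)) from funext (seq_eq_F₀ k hL F i)]
  exact smN_of_sm (p_all k _ d F hF hd i)

theorem seq_step (hL : PicF.IsInvertible L) {F : X.Modules} (hF : Coh.IsCoh F) {d : ℕ} (hd : Small (d + 1) F) (i : ℕ) :
    ∃ e, SmN d e ∧ ∀ m, seq k F L i (m + 1) ≤ seq k F L i m + e m ∧ seq k F L i m ≤ seq k F L i (m + 1) + e m := by
  obtain ⟨e, he, h⟩ := near_bump k (Pairs.single hL) hF hd i 0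
  refine ⟨_, smN_of_sm he, fun m => ?_⟩
  have hb : bump (fun _ : Fin 1 => (m : ℤ)) 0 = fun _ => ((m + 1 : ℕ) : ℤ) := funext fun j => by
    rw [Fin.eq_zero j]; simp [bump]
  have h' : F₀ k (Pairs.single hL) F i (fun _ => (m : ℤ)) ≤ F₀ k (Pairs.single hL) F i (bump (fun _ => (m : ℤ)) 0) + _ ∧
      F₀ k (Pairs.single hL) F i (bump (fun _ => (m : ℤ)) 0) ≤ F₀ k (Pairs.single hL) F i (fun _ => (m : ℤ)) + _ :=
    h (fun _ => (m : ℤ))
  rw [hb] at h'
  rw [seq_eq_F₀ k hL, seq_eq_F₀ k hL]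
  exact ⟨h'.2, h'.1⟩

/-- Maps with small kernel and cokernel. -/
theorem seq_near (hL : PicF.IsInvertible L) {A B : X.Modules} (hA : Coh.IsCoh A) (hB : Coh.IsCoh B) (φ : A ⟶ B)
    {d : ℕ} (hk : Small d (kernel φ)) (hc : Small d (cokernel φ)) (i : ℕ) :
    ∃ e, SmN d e ∧ ∀ m, seq k A L i m ≤ seq k B L i m + e m ∧ seq k B L i m ≤ seq k A L i m + e m := by
  obtain ⟨e, he, h⟩ := near_of_map k (Pairs.single hL) (p_all k _ d) hA hB φ hk hc i
  exact ⟨_, smN_of_sm he, fun m => by rw [seq_eq_F₀ k hL, seq_eq_F₀ k hL]; exact h _⟩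

theorem limsup_seq_congr (hL : PicF.IsInvertible L) {A B : X.Modules} (hA : Coh.IsCoh A) (hB : Coh.IsCoh B)
    (φ : A ⟶ B) {n : ℕ} (hn : topologicalKrullDim X ≤ n) (hk : Small n (kernel φ)) (hc : Small n (cokernel φ))
    (i : ℕ) (K : ℝ) : limsup (nrm K n (seq k A L i)) atTop = limsup (nrm K n (seq k B L i)) atTop :=
  let ⟨_, he, h⟩ := seq_near k hL hA hB φ hk hc i
  limsup_nrm_congr (seq_growth k hL hB (small_top hn B) i) he h

theorem hhatF_eq (n i : ℕ) (F L : X.Modules) :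
    W4c5asymptcohfn.hhatF k X n i F L = limsup (nrm (n.factorial : ℝ) n (seq k F L i)) atTop := rfl

theorem seq_structure (L : X.Modules) (i m : ℕ) :
    seq k (Coh.structureModule X) L i m = h k (CohB1.tensorPow L m) i :=
  h_congr k (CurveTensor.structureTensorIso _) i

theorem hhat_eq (n i : ℕ) (L : X.Modules) :
    W4c5asymptcohfn.hhat k X n i L = limsup (nrm (n.factorial : ℝ) n (seq k (Coh.structureModule X) L i)) atTop := by
  rw [W4c5asymptcohfn.hhat]
  refine congrArg (limsup · atTop) (funext fun m => ?_)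
  rw [nrm, seq_structure]
  rfl

theorem hhat_congr {A B : X.Modules} (e : PicF.cl A = PicF.cl B) (n i : ℕ) :
    W4c5asymptcohfn.hhat k X n i A = W4c5asymptcohfn.hhat k X n i B := by
  rw [hhat_eq, hhat_eq]
  refine congrArg (limsup · atTop) (funext fun m => ?_)
  have : seq k (Coh.structureModule X) A i m = seq k (Coh.structureModule X) B i m :=
    h_congr k (H23.PicMul.cl_eq_iff.1 (by rw [H23.PicMul.cl_tensor, H23.PicMul.cl_tensor, H23.PicMul.cl_tensorPow,
      H23.PicMul.cl_tensorPow, e])).some i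
  rw [nrm, nrm, this]

include k in
theorem kernel_small {S : ShortComplex X.Modules} (hS : S.ShortExact) (h₁ : Coh.IsCoh S.X₁) (h₂ : Coh.IsCoh S.X₂)
    (h₃ : Coh.IsCoh S.X₃) {n : ℕ} (hd : Small n S.X₁) : Small n (kernel S.g) ∧ Small n (cokernel S.g) := by
  haveI := CurveCohLib.isNoetherian_of_proper (k := k) (X := X)
  haveI := hS.mono_f
  haveI := hS.epi_g
  obtain ⟨C, hC, hMC⟩ := hd
  have hk := QCoh.isCoh_kernel h₂ h₃ S.g
  refine ⟨⟨C, hC, fun x hx => hMC (QCoh.mem_support_of_mono hk.1 h₁.1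
    (IsLimit.conePointUniqueUpToIso (kernelIsKernel S.g) hS.fIsKernel).hom hx)⟩, ⟨C, hC, fun x hx => hMC ?_⟩⟩
  haveI : Mono (0 : cokernel S.g ⟶ S.X₁) :=
    ⟨fun a b _ => (isZero_cokernel_of_epi S.g).eq_of_tgt a b⟩
  exact QCoh.mem_support_of_mono (QCoh.isQCoh_cokernel h₂.1 h₃.1 S.g) h₁.1 (0 : cokernel S.g ⟶ S.X₁) hx

include k in
theorem cokernel_small {S : ShortComplex X.Modules} (hS : S.ShortExact) (h₁ : Coh.IsCoh S.X₁) (h₂ : Coh.IsCoh S.X₂)
    (h₃ : Coh.IsCoh S.X₃) {n : ℕ} (hd : Small n S.X₃) : Small n (kernel S.f) ∧ Small n (cokernel S.f) := by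
  haveI := CurveCohLib.isNoetherian_of_proper (k := k) (X := X)
  haveI := hS.mono_f
  haveI := hS.epi_g
  obtain ⟨C, hC, hMC⟩ := hd
  refine ⟨⟨C, hC, fun x hx => hMC ?_⟩, ⟨C, hC, fun x hx => hMC (QCoh.mem_support_of_mono
    (QCoh.isQCoh_cokernel h₁.1 h₂.1 S.f) h₃.1
    (IsColimit.coconePointUniqueUpToIso (cokernelIsCokernel S.f) hS.gIsCokernel).hom hx)⟩⟩
  haveI : Mono (0 : kernel S.f ⟶ S.X₃) := ⟨fun a b _ => (isZero_kernel_of_mono S.f).eq_of_tgt a b⟩
  exact QCoh.mem_support_of_mono (QCoh.isCoh_kernel h₁ h₂ S.f).1 h₃.1 (0 : kernel S.f ⟶ S.X₃) hx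

end Groth.Agent.Growth22
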