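import Groth.Agent.Growth22.CurveTest
import Groth.Agent.SurfInt.Curve
import Groth.Agent.SurfInt.Restrict
import Groth.Agent.CurveCohLib.Euler

/-!
# Nefness on integral closed curves and on maps from curves
-/

noncomputable section

set_option linter.style.haveILetI false
set_option linter.unusedSectionVars false
set_option maxHeartbeats 1000000
set_option backward.isDefEq.respectTransparency false
set_option backward.isDefEq.respectTransparency.types false

universe u

open CategoryTheory CategoryTheory.Limits AlgebraicGeometry TopologicalSpace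
open scoped Groth.Agent.H23.PicMul

namespace Groth.Agent.Growth22

open Groth.Agent

variable {k : Type u} [Field k] {X : Scheme.{u}} [X.Over (Spec (CommRingCat.of k))]
  [IsProper (X ↘ Spec (CommRingCat.of k))]

variable (k) in
/-- The structure of a closed subscheme over the base. -/
@[reducible] def subOver (C : X.IdealSheafData) : C.subscheme.Over (Spec (CommRingCat.of k)) :=
  ⟨C.subschemeι ≫ (X ↘ Spec (CommRingCat.of k))⟩

theorem isProper_sub (C : X.IdealSheafData) :
    letI := subOver k C
    IsProper (C.subscheme ↘ Spec (CommRingCat.of k)) :=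
  show IsProper (C.subschemeι ≫ (X ↘ Spec (CommRingCat.of k))) from inferInstance

theorem dim_sub (C : X.IdealSheafData) : topologicalKrullDim C.subscheme = topologicalKrullDim (C.support : Set X) := by
  rw [IsHomeomorph.topologicalKrullDim_eq _ C.subschemeι.isClosedEmbedding.isEmbedding.toHomeomorph.isHomeomorph,
    Scheme.IdealSheafData.range_subschemeι]

theorem euler_quot_eq_deg (C : X.IdealSheafData) {L : X.Modules} (hL : PicF.IsInvertible L) :
    letI := subOver k C
    Curv2.euler k X (CohB1.tensorMod (ClSub.quotMod C) L) - Curv2.euler k X (ClSub.quotMod C) =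
      Curv2.deg k C.subscheme ((Scheme.Modules.pullback C.subschemeι).obj L) 1 := by
  letI := subOver k C
  obtain ⟨e⟩ : Nonempty (ClSub.quotMod C ≅ (Coh.push C.subschemeι).obj (Coh.structureModule C.subscheme)) := by
    have h := SurfInt.nonempty_quotMod_ker C.subschemeι
    rwa [Scheme.IdealSheafData.ker_subschemeι] at h
  rw [SurfInt.euler_congr k (PicGrp.tensorModIso e (Iso.refl L)), SurfInt.euler_congr k e,
    SurfInt.euler_quot_tensor k C.subschemeι rfl (ProjUPX.isQCoh_of_isInvertible hL),
    SurfInt.euler_push k C.subschemeι rfl QCoh.isQCoh_structureModule, Curv2.deg]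
  push_cast
  ring

variable {L : X.Modules}

/-- Nef on integral closed curves implies nonnegative degree on every integral curve over `X`. -/
theorem deg_pullback_nonneg (hL : PicF.IsInvertible L)
    (hnef : ∀ C : X.IdealSheafData, IsIntegral C.subscheme → topologicalKrullDim (C.support : Set X) = 1 →
      0 ≤ Curv2.euler k X (CohB1.tensorMod (ClSub.quotMod C) L) - Curv2.euler k X (ClSub.quotMod C))
    {T : Scheme.{u}} [T.Over (Spec (CommRingCat.of k))] [IsProper (T ↘ Spec (CommRingCat.of k))] [IsIntegral T]
    (hT : topologicalKrullDim T = 1) (g : T ⟶ X)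
    (hg : g ≫ (X ↘ Spec (CommRingCat.of k)) = T ↘ Spec (CommRingCat.of k)) :
    0 ≤ Curv2.deg k T ((Scheme.Modules.pullback g).obj L) 1 := by
  rcases const_or_exists_curve hT g hg with ⟨x, hx⟩ | ⟨C, t, hC, hdim, ht, htg⟩
  · rw [deg_pullback_of_const g hL hx]
  · letI := subOver k C
    haveI := hC
    haveI := ht
    haveI := isProper_sub (k := k) C
    obtain ⟨d, -, hd⟩ := exists_deg_pullback_eq hT ((dim_sub C).trans hdim) t
      (show t ≫ C.subschemeι ≫ (X ↘ Spec (CommRingCat.of k)) = _ by rw [reassoc_of% htg, hg])
    subst htg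
    refine (le_of_le_of_eq ?_ (CurveRR.deg_congr (k := k) ((Scheme.Modules.pullbackComp t C.subschemeι).app L) 1))
    show 0 ≤ Curv2.deg k T ((Scheme.Modules.pullback t).obj ((Scheme.Modules.pullback C.subschemeι).obj L)) 1
    rw [hd _ (PicClLib.isInvertible_pullback _ hL), ← euler_quot_eq_deg C hL]
    exact mul_nonneg (Int.natCast_nonneg d) (hnef C hC hdim)

end Groth.Agent.Growth22
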