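import Groth.Agent.S1585
import Groth.Agent.S1666
import Groth.Agent.S7640
import Groth.Agent.Pic13Lib.PullNum
import Groth.Agent.CurveBC.FiniteDim
import Groth.Agent.H23.Isogeny
import Groth.Agent.FlatLoc6.SerreNormal
import Groth.Agent.CurveCohLib.SubBundle
import Groth.Agent.Lib.InvEnd
import Groth.Agent.ConsPropLib.Noetherian
import Groth.Agent.VarDim.Top
import Groth.Agent.CycLib.Finite
import Groth.Agent.FibDim.AffineSpaceFibre

/-!
# Testing degrees on normal curves
-/

noncomputable section

set_option linter.style.haveILetI false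
set_option linter.unusedSectionVars false
set_option maxHeartbeats 1000000
set_option backward.isDefEq.respectTransparency false
set_option backward.isDefEq.respectTransparency.types false

universe u

open CategoryTheory CategoryTheory.Limits AlgebraicGeometry TopologicalSpace
open scoped Groth.Agent.H23.PicMul

namespace Groth.Agent.Growth22

open Groth.Agent

variable (k : Type u) [Field k]

/-- An integral proper curve receives a regular curve with the same degrees. -/
theorem exists_normal_curve {T : Scheme.{u}} [T.Over (Spec (CommRingCat.of k))]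
    [IsProper (T ↘ Spec (CommRingCat.of k))] [IsIntegral T] (hdim : topologicalKrullDim T = 1) :
    ∃ (D : Scheme.{u}) (_ : D.Over (Spec (CommRingCat.of k))) (ν : D ⟶ T),
      IsProper (D ↘ Spec (CommRingCat.of k)) ∧ IsIntegral D ∧ topologicalKrullDim D = 1 ∧
      (∀ x : D, IsRegularLocalRing (D.presheaf.stalk x)) ∧
      ν ≫ (T ↘ Spec (CommRingCat.of k)) = D ↘ Spec (CommRingCat.of k) ∧
      ∀ M : T.Modules, PicF.IsInvertible M →
        Curv2.deg k D ((Scheme.Modules.pullback ν).obj M) 1 = Curv2.deg k T M 1 := by
  haveI : IsLocallyNoetherian T := LocallyOfFiniteType.isLocallyNoetherian (T ↘ Spec (CommRingCat.of k))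
  haveI : CompactSpace T := QuasiCompact.compactSpace_of_compactSpace (T ↘ Spec (CommRingCat.of k))
  haveI : T.IsSeparated := ⟨by
    rw [← terminal.comp_from (T ↘ Spec (CommRingCat.of k))]
    exact MorphismProperty.comp_mem @IsSeparated _ _ inferInstance inferInstance⟩
  haveI : QuasiCompact (T.fromSpecStalk (genericPoint T)) := inferInstance
  haveI : QuasiSeparated (T.fromSpecStalk (genericPoint T)) := inferInstance
  obtain ⟨hfin, hdom, ⟨V, hV, hiso⟩, hint, hnor⟩ := S1585.result k T
  let ν := Curv2.normalizationι T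
  letI : (Curv2.normalization T).Over (Spec (CommRingCat.of k)) := ⟨ν ≫ (T ↘ Spec (CommRingCat.of k))⟩
  haveI := hint
  haveI : IsFinite ν := hfin
  haveI : IsProper (Curv2.normalization T ↘ Spec (CommRingCat.of k)) :=
    show IsProper (ν ≫ (T ↘ Spec (CommRingCat.of k))) from inferInstance
  haveI : IsDominant ν := hdom
  haveI : Surjective ν := ⟨by
    rw [← Set.range_eq_univ, ← ν.isClosedMap.isClosed_range.closure_eq]
    exact ν.denseRange.closure_range⟩
  have hD := CurveBC.topologicalKrullDim_finite_cover ν hdim
  refine ⟨_, inferInstance, ν, inferInstance, hint, hD, fun x => ?_, rfl, fun M hM => ?_⟩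
  · haveI : IsLocallyNoetherian (Curv2.normalization T) :=
      LocallyOfFiniteType.isLocallyNoetherian (Curv2.normalization T ↘ Spec (CommRingCat.of k))
    obtain ⟨h1, h2⟩ := hnor x
    exact FlatLoc6.regular_of_normal _
      ((CurveCohLib.ringKrullDim_stalk_le_topologicalKrullDim x).trans hD.le)
  · exact S1666.result k T (Curv2.normalization T) hdim.le hD.le ν rfl V (V.isOpen.dense hV)
      ((ν ⁻¹ᵁ V).isOpen.dense (by
        obtain ⟨t, ht⟩ := hV
        obtain ⟨y, hy⟩ := ν.surjective t
        exact ⟨y, show ν y ∈ V by rw [hy]; exact ht⟩))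
      hiso 1 M (InvEnd.isFinLocFreeOfRank_one hM)

variable {k}

/-- A morphism from a reduced scheme factors through a closed immersion containing its image. -/
theorem exists_factor_closed {Z U Y : Scheme.{u}} (i : Z ⟶ U) [IsClosedImmersion i] (g : Y ⟶ U)
    [IsReduced Y] (h : Set.range g ⊆ Set.range i) : ∃ l, l ≫ i = g := by
  have hg : g.ker = (⊥ : Y.IdealSheafData).map g := (Scheme.IdealSheafData.map_bot g).symm
  have h2 : i.ker ≤ g.ker := by
    rw [hg, ← Y.nilradical_eq_bot, ← Scheme.IdealSheafData.vanishingIdeal_top,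
      Scheme.IdealSheafData.map_vanishingIdeal, ← Scheme.IdealSheafData.le_support_iff_le_vanishingIdeal,
      TopologicalSpace.Closeds.closure_le]
    rintro _ ⟨y, -, rfl⟩
    exact Scheme.Hom.range_subset_ker_support i (h ⟨y, rfl⟩)
  exact ⟨IsClosedImmersion.lift i g h2, IsClosedImmersion.lift_fac i g h2⟩

/-- The degree scales by a positive factor along surjective maps of integral curves. -/
theorem exists_deg_pullback_eq {C T : Scheme.{u}} [C.Over (Spec (CommRingCat.of k))] [T.Over (Spec (CommRingCat.of k))]
    [IsIntegral C] [IsIntegral T] [IsProper (C ↘ Spec (CommRingCat.of k))] [IsProper (T ↘ Spec (CommRingCat.of k))]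
    (hC : topologicalKrullDim C = 1) (hT : topologicalKrullDim T = 1) (g : C ⟶ T)
    (hg : g ≫ (T ↘ Spec (CommRingCat.of k)) = C ↘ Spec (CommRingCat.of k)) [Surjective g] :
    ∃ d : ℕ, 0 < d ∧ ∀ M : T.Modules, PicF.IsInvertible M →
      Curv2.deg k C ((Scheme.Modules.pullback g).obj M) 1 = (d : ℤ) * Curv2.deg k T M 1 := by
  haveI : IsLocallyNoetherian T := LocallyOfFiniteType.isLocallyNoetherian (T ↘ Spec (CommRingCat.of k))
  haveI hfin : IsFinite g := by
    refine (Pic13Lib.const_or_isFinite (C ↘ Spec (CommRingCat.of k)) hC g hg).resolve_left ?_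
    rintro ⟨t, ht⟩
    have h1 : ∀ y : T, y = t := fun y => by
      obtain ⟨x, rfl⟩ := g.surjective y
      exact ht x
    haveI : Subsingleton T := ⟨fun a b => (h1 a).trans (h1 b).symm⟩
    have h0 : topologicalKrullDim T ≤ 0 := topologicalKrullDim_zero_of_discreteTopology T
    rw [hT] at h0
    exact absurd h0 (by norm_num)
  have hξ : g (genericPoint C) = genericPoint T := by
    refine ((genericPoint_spec T).eq ?_).symm
    have h := (genericPoint_spec C).image g.continuous
    rwa [Set.image_univ, Set.range_eq_univ.2 g.surjective, closure_univ] at h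
  refine ⟨g.residueDegree (genericPoint C), ?_, fun M hM => S7640.result k C T hC hT g hg hξ 1 M
    (InvEnd.isFinLocFreeOfRank_one hM)⟩
  letI := (g.residueFieldMap (genericPoint C)).hom.toAlgebra
  haveI : Module.Finite (T.residueField (g (genericPoint C))) (C.residueField (genericPoint C)) :=
    CycLib.finite_residueFieldMap_of_rd_eq_zero g _ (FibDim.rd_eq_zero_of_quasiFinite g _)
  exact Module.finrank_pos

/-- The degree vanishes along constant maps. -/
theorem deg_pullback_of_const {T X : Scheme.{u}} [T.Over (Spec (CommRingCat.of k))] [IsIntegral T]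
    [IsProper (T ↘ Spec (CommRingCat.of k))] (g : T ⟶ X) {L : X.Modules} (hL : PicF.IsInvertible L) {x : X}
    (hx : ∀ z, g z = x) : Curv2.deg k T ((Scheme.Modules.pullback g).obj L) 1 = 0 := by
  obtain ⟨e⟩ := H23.PicMul.cl_eq_iff.1 ((Pic13Lib.cl_pullback_of_const g hL x hx).trans H23.PicMul.one_def)
  exact (CurveRR.deg_congr (k := k) e 1).trans (CurveDeg.deg_structureModule k)

variable {X Y : Scheme.{u}} [X.Over (Spec (CommRingCat.of k))] [IsProper (X ↘ Spec (CommRingCat.of k))]

/-- The image of a curve is a point or a curve dominated by it. -/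
theorem const_or_exists_curve {T : Scheme.{u}} [T.Over (Spec (CommRingCat.of k))]
    [IsProper (T ↘ Spec (CommRingCat.of k))] [IsIntegral T] (hT : topologicalKrullDim T = 1) (g : T ⟶ X)
    (hg : g ≫ (X ↘ Spec (CommRingCat.of k)) = T ↘ Spec (CommRingCat.of k)) :
    (∃ x : X, ∀ z, g z = x) ∨
      ∃ (C : X.IdealSheafData) (t : T ⟶ C.subscheme), IsIntegral C.subscheme ∧
        topologicalKrullDim (C.support : Set X) = 1 ∧ Surjective t ∧ t ≫ C.subschemeι = g := by
  refine or_iff_not_imp_left.2 fun hne => ?_
  haveI : IsFinite g := (Pic13Lib.const_or_isFinite (T ↘ Spec (CommRingCat.of k)) hT g hg).resolve_left hne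
  let η := g (genericPoint T)
  let Z : TopologicalSpace.Closeds X := ⟨closure {η}, isClosed_closure⟩
  let C := Scheme.IdealSheafData.vanishingIdeal Z
  have hr : Set.range C.subschemeι = closure {η} := DimFormula.range_vanishingIdeal Z
  haveI : IsReduced C.subscheme := H23.RedSub.isReduced_vanishingIdeal Z
  haveI : IrreducibleSpace ↥C.subscheme := by
    haveI : IrreducibleSpace ↥(Set.range C.subschemeι) := by
      rw [hr]; exact Subtype.irreducibleSpace isIrreducible_singleton.closure
    exact C.subschemeι.isClosedEmbedding.isEmbedding.toHomeomorph.symm.surjective.irreducibleSpace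
      C.subschemeι.isClosedEmbedding.isEmbedding.toHomeomorph.symm.continuous
  have hrange : Set.range g = closure {η} := by
    refine Eq.trans g.isClosedMap.isClosed_range.closure_eq.symm ?_
    rw [← Set.image_univ]
    exact ((genericPoint_spec T).image g.continuous).def.symm
  obtain ⟨t, ht⟩ := exists_factor_closed C.subschemeι g (hrange.trans hr.symm).le
  refine ⟨C, t, isIntegral_of_irreducibleSpace_of_isReduced _, ?_, ⟨fun c => ?_⟩, ht⟩
  · rw [← Scheme.IdealSheafData.range_subschemeι, hr,
      VarDim.topologicalKrullDim_closure_singleton (X ↘ Spec (CommRingCat.of k)) η]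
    have h1 : VarDim.deg (T ↘ Spec (CommRingCat.of k)) (genericPoint T) = 1 := by
      have h := VarDim.topologicalKrullDim_eq_deg_genericPoint (T ↘ Spec (CommRingCat.of k))
      rw [hT] at h
      exact_mod_cast h.symm
    rw [VarDim.deg_eq_add g _ hg (genericPoint T), H23.Isogeny.fdeg_eq_zero_of_finite g, add_zero] at h1
    rw [h1]; rfl
  · obtain ⟨z, hz⟩ : C.subschemeι c ∈ Set.range g := by rw [hrange, ← hr]; exact ⟨c, rfl⟩
    refine ⟨z, C.subschemeι.isClosedEmbedding.injective ?_⟩
    rw [← hz, ← ht]; rfl

end Groth.Agent.Growth22
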