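import Mathlib
import Groth.Agent.S4495

/-!
# Rings of formal functions along a connected closed subscheme
-/

universe u

open CategoryTheory CategoryTheory.Limits AlgebraicGeometry

namespace Groth.Agent.Growth22.FormalLocal

/-- In a connected ring which is integral over a field every element is a unit or nilpotent. -/
theorem isUnit_or_isNilpotent {k A : Type u} [Field k] [CommRing A] (f : k →+* A) (hf : f.IsIntegral)
    (hid : ∀ e : A, IsIdempotentElem e → e = 0 ∨ e = 1) (a : A) : IsUnit a ∨ IsNilpotent a := by
  algebraize [f]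
  obtain ⟨p, hp, hpa⟩ := hf a
  obtain ⟨q, hpq, hq⟩ := Polynomial.exists_eq_pow_rootMultiplicity_mul_and_not_dvd p hp.ne_zero 0
  rw [map_zero, sub_zero] at hpq hq
  set n := p.rootMultiplicity 0
  have h : a ^ n * Polynomial.aeval a q = 0 := by
    have : Polynomial.aeval a p = 0 := hpa
    rw [hpq] at this
    simpa using this
  rw [Polynomial.X_dvd_iff] at hq
  obtain ⟨u, hu⟩ := (isUnit_iff_ne_zero.2 hq).map (algebraMap k A)
  have hs : Polynomial.aeval a q = a * Polynomial.aeval a q.divX + u := by
    have := congrArg (Polynomial.aeval a) (Polynomial.X_mul_divX_add q)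
    rw [map_add, map_mul, Polynomial.aeval_X, Polynomial.aeval_C] at this
    rw [hu, this]
  rw [hs] at h
  set t : A := -(Polynomial.aeval a q.divX * ↑u⁻¹)
  have h1 : a ^ n = a ^ (n + 1) * t := by
    have : a ^ n * (a * Polynomial.aeval a q.divX + ↑u) * ↑u⁻¹ = 0 := by rw [h, zero_mul]
    rw [mul_add, add_mul, mul_assoc (a ^ n) (u : A), Units.mul_inv, mul_one] at this
    linear_combination this
  have hm : ∀ m, a ^ n = a ^ (n + m) * t ^ m := by
    intro m
    induction m with
    | zero => simp
    | succ m ih => linear_combination ih + (a ^ m * t ^ m) * h1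
  have he : IsIdempotentElem (a ^ n * t ^ n) := by
    show a ^ n * t ^ n * (a ^ n * t ^ n) = _
    linear_combination -(t ^ n) * hm n
  rcases Nat.eq_zero_or_pos n with hn | hn
  · exact Or.inl (IsUnit.of_mul_eq_one t (by simpa [hn] using h1.symm))
  rcases hid _ he with h0 | h0
  · exact Or.inr ⟨n, by linear_combination hm n + a ^ n * h0⟩
  · exact Or.inl ((isUnit_pow_iff hn.ne').1 (IsUnit.of_mul_eq_one _ h0))

/-- In a connected ring which is integral over an algebraically closed field every element differs
from a constant by a nilpotent. -/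
theorem exists_isNilpotent_sub {k A : Type u} [Field k] [IsAlgClosed k] [CommRing A] [Nontrivial A]
    (f : k →+* A) (hf : f.IsIntegral)
    (hid : ∀ e : A, IsIdempotentElem e → e = 0 ∨ e = 1) (a : A) : ∃ c : k, IsNilpotent (a - f c) := by
  obtain ⟨M, hM⟩ := Ideal.exists_maximal A
  let g := (Ideal.Quotient.mk M).comp f
  have hg : g.IsIntegral := RingHom.IsIntegral.trans f _ hf (RingHom.isIntegral_of_surjective _ Ideal.Quotient.mk_surjective)
  obtain ⟨c, hc⟩ := IsAlgClosed.ringHom_bijective_of_isIntegral g hg |>.2 (Ideal.Quotient.mk M a)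
  refine ⟨c, (isUnit_or_isNilpotent f hf hid _).resolve_left fun hu => hM.ne_top ?_⟩
  exact Ideal.eq_top_of_isUnit_mem _ (Ideal.Quotient.eq.1 hc.symm) hu

/-- An element of a limit of rings all of whose components are units is a unit. -/
theorem isUnit_of_forall_π {J : Type} [SmallCategory J] (F : J ⥤ CommRingCat.{u}) (a : ↑(limit F))
    (ha : ∀ j, IsUnit ((limit.π F j).hom a)) : IsUnit a := by
  let c : Cone F :=
    { pt := CommRingCat.of (Localization.Away a)
      π :=
        { app := fun j => CommRingCat.ofHom (IsLocalization.Away.lift a (g := (limit.π F j).hom) (ha j))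
          naturality := fun i j h => by
            refine CommRingCat.hom_ext ?_
            refine IsLocalization.ringHom_ext (Submonoid.powers a) (S := Localization.Away a) (RingHom.ext fun x => ?_)
            show IsLocalization.Away.lift a (g := (limit.π F j).hom) (ha j) (algebraMap _ (Localization.Away a) x) =
              (F.map h).hom (IsLocalization.Away.lift a (g := (limit.π F i).hom) (ha i) (algebraMap _ (Localization.Away a) x))
            rw [IsLocalization.Away.lift_eq, IsLocalization.Away.lift_eq]
            exact (congr(($(limit.w F h)).hom x)).symm } }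
  have h : CommRingCat.ofHom (algebraMap ↑(limit F) (Localization.Away a)) ≫ limit.lift F c = 𝟙 _ := by
    refine limit.hom_ext fun j => ?_
    rw [Category.assoc, limit.lift_π, Category.id_comp]
    exact CommRingCat.hom_ext (IsLocalization.Away.lift_comp a (ha j))
  have := (IsLocalization.Away.algebraMap_isUnit (S := Localization.Away a) a).map (limit.lift F c).hom
  rwa [show (limit.lift F c).hom (algebraMap _ _ a) = a from congr(($h).hom a)] at this

/-- A limit along `ℕᵒᵖ` of rings whose elements are units or nilpotent is local. -/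
theorem isLocalRing_limit {X : ℕ → CommRingCat.{u}} (t : ∀ n, X (n + 1) ⟶ X n) [∀ n, Nontrivial (X n)]
    (h : ∀ n (a : X n), IsUnit a ∨ IsNilpotent a) : IsLocalRing ↑(limit (Functor.ofOpSequence t)) := by
  let F := Functor.ofOpSequence t
  let p : ↑(limit F) →+* ↑(X 0) := (limit.π F (Opposite.op 0)).hom
  haveI : Nontrivial ↑(limit F) := p.domain_nontrivial
  have hu : ∀ a, IsUnit (p a) → IsUnit a := fun a ha => isUnit_of_forall_π F a fun ⟨m⟩ => by
    refine (h m _).resolve_right fun hm => ?_
    have hw : (F.map (homOfLE m.zero_le).op).hom ((limit.π F (Opposite.op m)).hom a) = p a :=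
      congr(($(limit.w F (homOfLE m.zero_le).op)).hom a)
    have h0 : IsNilpotent (p a) := hw ▸ hm.map _
    exact not_isNilpotent_one (R := X 0) (by
      obtain ⟨v, hv⟩ := ha
      have := Commute.isNilpotent_mul_right (Commute.all (p a) (↑v⁻¹ : X 0)) h0
      rwa [← hv, Units.mul_inv] at this)
  refine IsLocalRing.of_nonunits_add fun a b ha hb hab => ?_
  have ha' := (h 0 (p a)).resolve_left fun h => ha (hu a h)
  have hb' := (h 0 (p b)).resolve_left fun h => hb (hu b h)
  have := (Commute.all _ _).isNilpotent_add ha' hb'
  rw [← map_add] at this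
  exact this.not_isUnit (hab.map p)

/-- A nonempty connected scheme universally closed over a field has connected, integral global functions. -/
theorem globalFunctions (k : Type u) [Field k] {Y : Scheme.{u}} (g : Y ⟶ Spec (CommRingCat.of k))
    [UniversallyClosed g] [ConnectedSpace Y] :
    ((g.appTop.hom).comp (Scheme.ΓSpecIso (CommRingCat.of k)).inv.hom).IsIntegral ∧
      Nontrivial Γ(Y, ⊤) ∧ ∀ e : Γ(Y, ⊤), IsIdempotentElem e → e = 0 ∨ e = 1 := by
  refine ⟨RingHom.IsIntegral.trans _ _ (RingHom.isIntegral_of_surjective _ ?_) (isIntegral_appTop_of_universallyClosed g), ?_,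
    (S4495.result Y.toLocallyRingedSpace).1 (inferInstanceAs (PreconnectedSpace Y))⟩
  · exact (Scheme.ΓSpecIso (CommRingCat.of k)).symm.commRingCatIsoToRingEquiv.surjective
  · have y : Y := Classical.arbitrary _
    exact (Y.presheaf.germ ⊤ y trivial).hom.domain_nontrivial

end Groth.Agent.Growth22.FormalLocal
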