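import Mathlib.Algebra.MvPolynomial.PDeriv
import Mathlib.RingTheory.MvPolynomial.Homogeneous
import Mathlib.Algebra.CharZero.Defs
import Mathlib.LinearAlgebra.Span.Basic
import Mathlib.Tactic

/-! The weighted Gaussian map of `O(e)` on projective space is onto. -/

noncomputable section

set_option autoImplicit false

namespace Groth.Agent.Growth22.GaussP

open MvPolynomial Finsupp

variable {σ : Type*} [Fintype σ] [DecidableEq σ]

theorem exists_le_degree (δ : σ →₀ ℕ) : ∀ m : ℕ, m ≤ δ.degree → ∃ α, α ≤ δ ∧ α.degree = m := by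
  intro m
  induction m with
  | zero => exact fun _ => ⟨0, zero_le, map_zero _⟩
  | succ m ih =>
    intro h
    obtain ⟨α, hα, hm⟩ := ih (by omega)
    have hne : δ - α ≠ 0 := fun h0 => by
      have := congrArg Finsupp.degree (tsub_add_cancel_of_le hα)
      rw [h0, zero_add] at this
      omega
    obtain ⟨i, hi⟩ := Finsupp.ne_iff.1 hne
    simp only [Finsupp.coe_tsub, Pi.sub_apply, Finsupp.coe_zero, Pi.zero_apply] at hi
    refine ⟨α + single i 1, fun l => ?_, by rw [map_add, Finsupp.degree_single, hm]⟩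
    by_cases hl : l = i
    · subst hl; simp; omega
    · simp [Ne.symm hl, hα l]

variable {k : Type*} [Field k]

/-- The tuple `v_i X^(γ - e_i)`. -/
def T (γ : σ →₀ ℕ) (v : σ → k) : σ → MvPolynomial σ k := fun i => monomial (γ - single i 1) (v i)

theorem T_add (γ : σ →₀ ℕ) (v w : σ → k) : T γ (v + w) = T γ v + T γ w := by
  funext i; simp [T]

theorem T_smul (γ : σ →₀ ℕ) (c : k) (v : σ → k) : T γ (c • v) = c • T γ v := by
  funext i; simp [T, smul_monomial]

/-- `T` as a linear map. -/
def Tlin (γ : σ →₀ ℕ) : (σ → k) →ₗ[k] σ → MvPolynomial σ k where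
  toFun := T γ
  map_add' := T_add γ
  map_smul' := T_smul γ

theorem pair (a b : k) (α β : σ →₀ ℕ) :
    (fun i => b • (monomial β (1 : k) * pderiv i (monomial α (1 : k))) -
        a • (monomial α (1 : k) * pderiv i (monomial β (1 : k)))) =
      T (α + β) (fun i => b * (α i : k) - a * (β i : k)) := by
  funext i
  rw [T, pderiv_monomial, pderiv_monomial, monomial_mul, monomial_mul, map_sub, smul_monomial, smul_monomial]
  simp only [one_mul, smul_eq_mul]
  have h : ∀ p q : σ →₀ ℕ, ∀ c : k, monomial (q + (p - single i 1)) (c * (p i : k)) =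
      monomial (p + q - single i 1) (c * (p i : k)) := fun p q c => by
    by_cases hp : p i = 0
    · simp [hp]
    · congr 2
      ext l
      by_cases hl : l = i
      · subst hl; simp; omega
      · simp [Ne.symm hl, add_comm]
  rw [h α β b, h β α a, add_comm β α]

variable [CharZero k]

/-- The tuples of the Gaussian map span all tuples killed by the Euler map. -/
theorem mem_span (e a b : ℕ) (he : 0 < e) (ha : 0 < a) (hab : a < b)
    (f : σ → MvPolynomial σ k) (hf : ∀ i, (f i).IsHomogeneous ((a + b) * e - 1))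
    (hEuler : ∑ i, X i * f i = 0) :
    f ∈ Submodule.span k
      {g : σ → MvPolynomial σ k |
        ∃ p q : MvPolynomial σ k, p.IsHomogeneous (a * e) ∧ q.IsHomogeneous (b * e) ∧
          g = fun i => (b : k) • (q * pderiv i p) - (a : k) • (p * pderiv i q)} := by
  set S := Submodule.span k
      {g : σ → MvPolynomial σ k |
        ∃ p q : MvPolynomial σ k, p.IsHomogeneous (a * e) ∧ q.IsHomogeneous (b * e) ∧
          g = fun i => (b : k) • (q * pderiv i p) - (a : k) • (p * pderiv i q)} with hS
  -- the elementary tuples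
  have hel : ∀ (γ : σ →₀ ℕ) (i j : σ), γ.degree = (a + b) * e → γ i ≠ 0 → γ j ≠ 0 →
      Tlin (k := k) γ (Pi.single i 1 - Pi.single j 1) ∈ S := by
    intro γ i j hγ hi hj
    by_cases hij : i = j
    · subst hij; simp
    have hle : single i 1 + single j 1 ≤ γ := fun l => by
      by_cases h1 : l = i
      · subst h1; simp [Ne.symm hij]; omega
      · by_cases h2 : l = j
        · subst h2; simp [hij]; omega
        · simp [Ne.symm h1, Ne.symm h2]
    obtain ⟨δ, hδ⟩ : ∃ δ, γ = δ + (single i 1 + single j 1) := ⟨_, (tsub_add_cancel_of_le hle).symm⟩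
    have h1 : 1 ≤ a * e := Nat.mul_pos ha he
    have h2 : 1 ≤ b * e := Nat.mul_pos (by omega) he
    have hd : δ.degree + 2 = (a + b) * e := by
      rw [← hγ, hδ, map_add, map_add, Finsupp.degree_single, Finsupp.degree_single]
    obtain ⟨α₀, hα, hdeg⟩ := exists_le_degree δ (a * e - 1) (by rw [Nat.add_mul] at hd; omega)
    obtain ⟨β₀, hβ⟩ : ∃ β₀, δ = α₀ + β₀ := ⟨_, (add_tsub_cancel_of_le hα).symm⟩
    have hdegβ : β₀.degree = b * e - 1 := by
      have h3 := congrArg Finsupp.degree hβ
      rw [map_add, hdeg] at h3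
      rw [Nat.add_mul] at hd
      omega
    have hmem : ∀ p q : σ, p ≠ q → (p = i ∧ q = j ∨ p = j ∧ q = i) →
        T γ (fun l => (b : k) * ((α₀ + (single p 1 : σ →₀ ℕ) : σ →₀ ℕ) l : k) -
          (a : k) * ((β₀ + (single q 1 : σ →₀ ℕ) : σ →₀ ℕ) l : k)) ∈ S := by
      intro p q _ hpq
      refine Submodule.subset_span ⟨monomial (α₀ + single p 1) 1, monomial (β₀ + single q 1) 1, ?_, ?_, ?_⟩
      · exact isHomogeneous_monomial _ (by rw [map_add, Finsupp.degree_single, hdeg]; omega)
      · exact isHomogeneous_monomial _ (by rw [map_add, Finsupp.degree_single, hdegβ]; omega)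
      · rw [pair]
        congr 1
        rw [hδ, hβ]
        rcases hpq with ⟨rfl, rfl⟩ | ⟨rfl, rfl⟩ <;> abel
    have hA := hmem i j hij (Or.inl ⟨rfl, rfl⟩)
    have hB := hmem j i (Ne.symm hij) (Or.inr ⟨rfl, rfl⟩)
    have hne : (a : k) + (b : k) ≠ 0 := by
      rw [← Nat.cast_add, Nat.cast_ne_zero]; omega
    have h := Submodule.smul_mem S (((a : k) + (b : k))⁻¹) (Submodule.sub_mem S hA hB)
    refine (congrArg (· ∈ S) ?_).mp h
    change _ • (Tlin γ _ - Tlin γ _) = _
    rw [← map_sub, ← map_smul]
    congr 1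
    funext l
    simp only [Pi.smul_apply, Pi.sub_apply, Finsupp.coe_add, Pi.add_apply, Nat.cast_add, smul_eq_mul,
      Finsupp.single_apply, Pi.single_apply]
    rcases eq_or_ne l i with rfl | hl
    · simp [hij, Ne.symm hij]; field_simp; ring
    rcases eq_or_ne l j with rfl | hl'
    · simp [hl, Ne.symm hl]; field_simp; ring
    · simp [hl, hl', Ne.symm hl, Ne.symm hl']
  -- the decomposition of `f` along total exponents
  classical
  let G : Finset (σ →₀ ℕ) := Finset.univ.biUnion fun i => (f i).support.image fun δ => δ + single i 1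
  let v : (σ →₀ ℕ) → σ → k := fun γ i => if γ i = 0 then 0 else coeff (γ - single i 1) (f i)
  have hsum : f = ∑ γ ∈ G, Tlin γ (v γ) := by
    funext i
    rw [Finset.sum_apply]
    show f i = ∑ γ ∈ G, monomial (γ - single i 1) (v γ i)
    ext δ
    rw [coeff_sum]
    simp only [coeff_monomial]
    rw [Finset.sum_eq_single (δ + single i 1)]
    · simp [v]
    · intro γ _ hne
      split_ifs with h
      · by_cases h0 : γ i = 0
        · simp [v, h0]
        · refine absurd ?_ hne
          rw [← h]
          exact (tsub_add_cancel_of_le fun l => by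
            by_cases hl : l = i
            · subst hl; simp; omega
            · simp [Ne.symm hl]).symm
      · rfl
    · intro hG
      have h0 : coeff δ (f i) = 0 := by
        by_contra h
        exact hG (Finset.mem_biUnion.2 ⟨i, Finset.mem_univ i,
          Finset.mem_image.2 ⟨δ, MvPolynomial.mem_support_iff.2 h, rfl⟩⟩)
      simp [v, h0]
  rw [hsum]
  refine Submodule.sum_mem S fun γ hγ => ?_
  obtain ⟨i₀, -, hi₀⟩ := Finset.mem_biUnion.1 hγ
  obtain ⟨δ, hδ, rfl⟩ := Finset.mem_image.1 hi₀
  have hdeg : (δ + single i₀ 1).degree = (a + b) * e := by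
    have h1 := (hf i₀) (MvPolynomial.mem_support_iff.1 hδ)
    have h2 : δ.degree = Finsupp.weight 1 δ := DFunLike.congr_fun Finsupp.degree_eq_weight_one δ
    have h3 : 1 ≤ (a + b) * e := Nat.mul_pos (by omega) he
    rw [map_add, Finsupp.degree_single, h2, h1]
    omega
  set γ := δ + single i₀ 1 with hγdef
  have hv : ∑ i, v γ i = 0 := by
    have h := congrArg (coeff γ) hEuler
    rw [coeff_sum, coeff_zero] at h
    rw [← h]
    refine Finset.sum_congr rfl fun i _ => ?_
    rw [coeff_X_mul']
    by_cases h0 : γ i = 0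
    · simp [v, h0]
    · simp [v, h0]
  have hdec : v γ = ∑ i, v γ i • (Pi.single i (1 : k) - Pi.single i₀ (1 : k)) := by
    funext l
    simp only [Finset.sum_apply, Pi.smul_apply, Pi.sub_apply, smul_eq_mul, mul_sub, Finset.sum_sub_distrib,
      ← Finset.sum_mul, hv, zero_mul, sub_zero]
    simp [Pi.single_apply]
  rw [hdec, map_sum]
  refine Submodule.sum_mem S fun i _ => ?_
  by_cases h0 : γ i = 0
  · simp [v, h0]
  · rw [map_smul]
    exact Submodule.smul_mem S _ (hel γ i i₀ hdeg h0 (by simp [hγdef]))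

end Groth.Agent.Growth22.GaussP
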