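import Groth.Agent.Growth22.Sect

/-!
# Modules vanishing at the generic point
-/

noncomputable section

set_option linter.style.haveILetI false
set_option linter.unusedSectionVars false
set_option maxHeartbeats 1000000
set_option backward.isDefEq.respectTransparency false
set_option backward.isDefEq.respectTransparency.types false

universe u

open CategoryTheory CategoryTheory.Limits AlgebraicGeometry TopologicalSpace Opposite

namespace Groth.Agent.Growth22

open Groth.Agent

variable {X : Scheme.{u}} [IsIntegral X]

theorem small_of_generic [IsNoetherian X] {n : ℕ} (hn : topologicalKrullDim X ≤ n) {M : X.Modules}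
    (hM : Coh.IsCoh M) (h : genericPoint X ∉ CohB1.support M) : Small n M := by
  refine Small.of_subset (QCoh.isClosed_support_of_isFT hM.1 hM.2) ?_ subset_rfl
  have := dim_lt_of_irreducible (X := X) (IrreducibleSpace.isIrreducible_univ ↥X) (d := n)
    (lt_of_le_of_lt ((topologicalKrullDim_subspace_le _ _).trans hn) (by exact_mod_cast Nat.lt_succ_self n))
    (QCoh.isClosed_support_of_isFT hM.1 hM.2) fun hs => h (hs (Set.mem_univ _))
  rwa [Set.univ_inter] at this

/-- A monomorphism of invertible modules is an isomorphism at the generic point. -/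
theorem generic_notMem_cokernel {A B : X.Modules} (hA : PicF.IsInvertible A) (hB : PicF.IsInvertible B)
    (φ : A ⟶ B) [Mono φ] : genericPoint X ∉ CohB1.support (cokernel φ) := by
  let η := genericPoint X
  let F := DerSch.stalkFunctor X η
  obtain ⟨U, hU, e, he⟩ := InvX.exists_frame hA η
  obtain ⟨V, hV, e', he'⟩ := InvX.exists_frame hB η
  letI : Field (X.presheaf.stalk η) := inferInstanceAs (Field X.functionField)
  refine Snapper.notMem_support_cokernel φ ((ModuleCat.epi_iff_surjective _).2 fun q => ?_)
  haveI : Mono (F.map φ) := inferInstance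
  have hinj : Function.Injective (F.map φ) := (ModuleCat.mono_iff_injective _).1 inferInstance
  let p : F.obj A := A.presheaf.germ U η hU e
  let p' : F.obj B := B.presheaf.germ V η hV e'
  obtain ⟨c, hc⟩ : ∃ c : X.presheaf.stalk η, c • p' = F.map φ p := (he'.germ_bijective hV).2 _
  obtain ⟨d, hd⟩ : ∃ d : X.presheaf.stalk η, d • p' = q := (he'.germ_bijective hV).2 _
  have hc0 : c ≠ 0 := fun h0 => by
    rw [h0, zero_smul] at hc
    have hp : p = 0 := hinj (hc.symm.trans (map_zero (F.map φ).hom).symm)
    have : (1 : X.presheaf.stalk η) = 0 := (he.germ_bijective hU).1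
      (show (1 : X.presheaf.stalk η) • p = (0 : X.presheaf.stalk η) • p by rw [hp, smul_zero, smul_zero])
    exact one_ne_zero this
  refine ⟨(d * c⁻¹) • p, ?_⟩
  refine (map_smul (F.map φ).hom (d * c⁻¹) p).trans ?_
  show (d * c⁻¹) • (F.map φ p : F.obj B) = q
  rw [← hc, smul_smul, mul_assoc, inv_mul_cancel₀ hc0, mul_one]
  exact hd

variable (k : Type u) [Field k] [X.Over (Spec (CommRingCat.of k))] [IsProper (X ↘ Spec (CommRingCat.of k))]

include k in
/-- The cokernel of a map which is onto at the generic point is small. -/
theorem small_cokernel_of_mono {n : ℕ} (hn : topologicalKrullDim X ≤ n) {A B : X.Modules}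
    (hA : Coh.IsCoh A) (hB : Coh.IsCoh B) (φ : A ⟶ B) (h : genericPoint X ∉ CohB1.support (cokernel φ)) :
    Small n (cokernel φ) :=
  haveI := CurveCohLib.isNoetherian_of_proper (k := k) (X := X)
  small_of_generic hn (QCoh.isCoh_cokernel hA.1 hB φ) h

theorem generic_notMem_cokernel_twist {N P : X.Modules} (hN : PicF.IsInvertible N) (hP : PicF.IsInvertible P)
    (φ : (AmpleVan.tw P).obj (Coh.structureModule X) ⟶ (AmpleVan.tw P).obj N) [Mono φ] :
    genericPoint X ∉ CohB1.support (cokernel φ) :=
  generic_notMem_cokernel (A := CohB1.tensorMod (Coh.structureModule X) P) (B := CohB1.tensorMod N P)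
    (H23.PicMul.isInvertible_tensor (PicLoc.isInvertible_structureModule X) hP)
    (H23.PicMul.isInvertible_tensor hN hP) φ

end Groth.Agent.Growth22
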