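import Groth.Agent.CurveCohLib.Hopf
import Groth.Agent.CurveCohLib.HopfBilinear
import Groth.Agent.TorLib.Basic
import Groth.Agent.QCoh.LocFree
import Groth.Agent.SBBundle.Types
import Groth.Agent.SerreVan45.Main

/-!
# The lemma of Hopf for sections of vector bundles
-/

noncomputable section

set_option autoImplicit false
set_option linter.style.haveILetI false
set_option linter.unusedSectionVars false
set_option backward.isDefEq.respectTransparency false
set_option backward.isDefEq.respectTransparency.types false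

universe u

open CategoryTheory CategoryTheory.Limits AlgebraicGeometry TopologicalSpace Opposite
open scoped TensorProduct

namespace Groth.Agent.Growth22.HopfSect

open Groth.Agent MonoidalCategory

variable {X : Scheme.{u}}

theorem isTorsionFree_of_finLocFree {E : X.Modules} (h : FlatMod.IsFinLocFree E) : TorSh.IsTorsionFree E := fun x => by
  haveI := QCoh.free_stalk_of_isFinLocFree h x
  infer_instance

/-- A global section of a tensor product of nonzero sections is nonzero. -/
theorem tmul_ne_zero [IsIntegral X] {E₁ E₂ : X.Modules} (h₁ : FlatMod.IsFinLocFree E₁) (h₂ : FlatMod.IsFinLocFree E₂)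
    [IsLocallyNoetherian X]
    (σ : Γ(E₁, ⊤)) (τ : Γ(E₂, ⊤)) (h : InvX.tmul σ τ = 0) : σ = 0 ∨ τ = 0 := by
  let η := genericPoint X
  let P := CohB1.toPMod E₁
  let Q := CohB1.toPMod E₂
  let K := X.presheaf.stalk η
  let θ := (KFlatLib.stalkP η).map (KFlatLib.unitShP (P ⊗ Q))
  have hθ : Function.Injective θ.hom :=
    (ModuleCat.mono_iff_injective θ).1 inferInstance
  have h0 : KFlatLib.tensorStalkEquiv P Q (KFlatLib.germP (x := η) P ⊤ trivial σ ⊗ₜ KFlatLib.germP Q ⊤ trivial τ) = 0 := by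
    apply hθ
    rw [map_zero]
    refine ((congrArg θ.hom (KFlatLib.ofTensor_germ ⊤ trivial _ _)).trans
      (KFlatLib.stalkModMap_germ _ ⊤ trivial _)).trans ?_
    exact (congrArg ((CohB1.tensorMod E₁ E₂).presheaf.germ ⊤ η trivial) h).trans (map_zero _)
  rw [LinearEquiv.map_eq_zero_iff] at h0
  by_cases ha : KFlatLib.germP (x := η) P ⊤ trivial σ = 0
  · exact Or.inl (TorLib.eq_zero_of_germ_genericPoint (SerreVan45.isCoh_of_finLocFree h₁).1
      (isTorsionFree_of_finLocFree h₁) (U := ⊤) trivial σ ha)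
  · refine Or.inr (TorLib.eq_zero_of_germ_genericPoint (SerreVan45.isCoh_of_finLocFree h₂).1
      (isTorsionFree_of_finLocFree h₂) (U := ⊤) trivial τ ?_)
    by_contra hb
    haveI : Module.Free K (KFlatLib.stalkMod η P) := QCoh.free_stalk_of_isFinLocFree h₁ η
    haveI : Module.Free K (KFlatLib.stalkMod η Q) := QCoh.free_stalk_of_isFinLocFree h₂ η
    let bP := Module.Free.chooseBasis K (KFlatLib.stalkMod η P)
    let bQ := Module.Free.chooseBasis K (KFlatLib.stalkMod η Q)
    obtain ⟨i, hi⟩ := Finsupp.ne_iff.1 ((map_ne_zero_iff bP.repr bP.repr.injective).2 ha)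
    obtain ⟨j, hj⟩ := Finsupp.ne_iff.1 ((map_ne_zero_iff bQ.repr bQ.repr.injective).2 hb)
    have h1 := congrArg (TensorProduct.lift ((LinearMap.mul K K).compl₁₂ (bP.coord i) (bQ.coord j))) h0
    rw [map_zero, TensorProduct.lift.tmul] at h1
    exact (mul_ne_zero (show bP.coord i _ ≠ 0 from hi) (show bQ.coord j _ ≠ 0 from hj)) h1

end Groth.Agent.Growth22.HopfSect

namespace Groth.Agent.Growth22.HopfSect

open Groth.Agent

variable (k : Type u) [Field k] [IsAlgClosed k] {X : Scheme.{u}} [X.Over (Spec (CommRingCat.of k))]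
  [IsIntegral X] [IsProper (X ↘ Spec (CommRingCat.of k))]

/-- Hopf's inequality for sections of vector bundles. -/
theorem finrank_tensor_ge {E₁ E₂ : X.Modules} (h₁ : FlatMod.IsFinLocFree E₁) (h₂ : FlatMod.IsFinLocFree E₂)
    [Nontrivial (Coh.HH X E₁ 0)] [Nontrivial (Coh.HH X E₂ 0)] :
    Module.finrank k (Coh.HH X E₁ 0) + Module.finrank k (Coh.HH X E₂ 0) ≤
      Module.finrank k (Coh.HH X (CohB1.tensorMod E₁ E₂) 0) + 1 := by
  haveI := CurveCohLib.isNoetherian_of_proper (k := k) (X := X)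
  haveI := CurveCohLib.finite_HH (k := k) (SerreVan45.isCoh_of_finLocFree h₁) 0
  haveI := CurveCohLib.finite_HH (k := k) (SerreVan45.isCoh_of_finLocFree h₂) 0
  haveI := CurveCohLib.finite_HH (k := k)
    (SerreVan45.isCoh_of_finLocFree (SBBundle.isFinLocFree_tensorMod h₁ h₂)) 0
  let e : ∀ M : X.Modules, Coh.HH X M 0 → Γ(M, ⊤) := fun M t => Sheaf.H.equiv₀ (Coh.toAb M) isTerminalTop t
  let T : Coh.HH X E₁ 0 → Coh.HH X E₂ 0 → Coh.HH X (CohB1.tensorMod E₁ E₂) 0 := fun s t =>
    (Sheaf.H.equiv₀ (Coh.toAb (CohB1.tensorMod E₁ E₂)) isTerminalTop).symm (InvX.tmul (e E₁ s) (e E₂ t))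
  have hT : ∀ s t, e _ (T s t) = InvX.tmul (e E₁ s) (e E₂ t) := fun s t => AddEquiv.apply_symm_apply _ _
  have hinj : ∀ M, Function.Injective (e M) := fun M => (Sheaf.H.equiv₀ (Coh.toAb M) isTerminalTop).injective
  have hadd : ∀ (M : X.Modules) a b, e M (a + b) = e M a + e M b := fun M a b =>
    map_add (Sheaf.H.equiv₀ (Coh.toAb M) isTerminalTop) a b
  have hzero : ∀ M : X.Modules, e M 0 = 0 := fun M => map_zero (Sheaf.H.equiv₀ (Coh.toAb M) isTerminalTop)
  let r : k → Γ(X, ⊤) := fun a => Coh.resTop X (op ⊤) (Coh.toGlobal (X ↘ Spec (CommRingCat.of k)) a)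
  have hsmul : ∀ (M : X.Modules) (a : k) t, e M (a • t) = r a • e M t := fun M a t =>
    CurveCohLib.h0Equiv_smul M a t
  let B : Coh.HH X E₁ 0 →ₗ[k] Coh.HH X E₂ 0 →ₗ[k] Coh.HH X (CohB1.tensorMod E₁ E₂) 0 :=
    LinearMap.mk₂ k T
      (fun a b t => hinj _ (by
        simp only [hadd, hT]
        exact (congrArg _ (KFlatLib.tm_add_left _ _ _)).trans (map_add _ _ _)))
      (fun c s t => hinj _ (by simp only [hsmul, hT, InvX.tmul_smul_left]))
      (fun s a b => hinj _ (by
        simp only [hadd, hT]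
        exact (congrArg _ (KFlatLib.tm_add_right _ _ _)).trans (map_add _ _ _)))
      (fun c s t => hinj _ (by simp only [hsmul, hT, InvX.tmul_smul_right]))
  refine CurveCohLib.HopfBilinear.finrank_add_le B fun s t hst => ?_
  have h : InvX.tmul (e E₁ s) (e E₂ t) = 0 := by
    rw [← hT, show T s t = 0 from hst, hzero]
  exact (tmul_ne_zero h₁ h₂ _ _ h).imp (fun h => hinj _ (h.trans (hzero E₁).symm))
    (fun h => hinj _ (h.trans (hzero E₂).symm))

end Groth.Agent.Growth22.HopfSect
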