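import Groth.Agent.Growth22.Asymp
import Mathlib.Analysis.Normed.Group.Constructions
import Mathlib.Topology.Instances.ENNReal.Lemmas

/-!
# Lipschitz estimates for asymptotic cohomology, and the passage to extended reals
-/

noncomputable section

set_option linter.style.haveILetI false
set_option linter.unusedSectionVars false
set_option maxHeartbeats 1000000
set_option backward.isDefEq.respectTransparency false
set_option backward.isDefEq.respectTransparency.types false

universe u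

open CategoryTheory CategoryTheory.Limits AlgebraicGeometry Filter Topology
open scoped Groth.Agent.H23.PicMul ENNReal

namespace Groth.Agent.Growth22

open Groth.Agent

theorem sz_nsmul {r : ℕ} (m : ℕ) (a : Fin r → ℤ) : sz ((m : ℤ) • a) = m * sz a := by
  simp [sz, Finset.mul_sum, Int.natAbs_mul]

theorem sz_le_norm {r : ℕ} (a : Fin r → ℤ) : (sz a : ℝ) ≤ r * ‖(fun j => ((a j : ℤ) : ℝ))‖ := by
  calc (sz a : ℝ) = ∑ j, ((a j).natAbs : ℝ) := by simp [sz]
    _ ≤ ∑ _j : Fin r, ‖(fun j => ((a j : ℤ) : ℝ))‖ := Finset.sum_le_sum fun j _ => by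
        refine le_trans (le_of_eq ?_) (norm_le_pi_norm (fun j => ((a j : ℤ) : ℝ)) j)
        rw [Real.norm_eq_abs, Nat.cast_natAbs, Int.cast_abs]
    _ = r * ‖(fun j => ((a j : ℤ) : ℝ))‖ := by simp

theorem one_le_norm {r : ℕ} {a : Fin r → ℤ} (ha : a ≠ 0) : 1 ≤ ‖(fun j => ((a j : ℤ) : ℝ))‖ := by
  obtain ⟨j, hj⟩ := Function.ne_iff.1 ha
  refine le_trans ?_ (norm_le_pi_norm (fun j => ((a j : ℤ) : ℝ)) j)
  rw [Real.norm_eq_abs, ← Int.cast_abs]
  exact_mod_cast Int.one_le_abs hj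

/-- An eventual inequality up to a constant passes to upper limits. -/
theorem limsup_le_add {f g : ℕ → ℝ} {B C C' : ℝ} (hf : ∀ᶠ m in atTop, |f m| ≤ C) (hg : ∀ᶠ m in atTop, |g m| ≤ C')
    (h : ∀ᶠ m in atTop, f m ≤ g m + B) : limsup f atTop ≤ limsup g atTop + B :=
  le_of_forall_pos_le_add fun ε hε => limsup_le_of_le (bdd_of_abs hf).2.isCoboundedUnder_le <| by
    filter_upwards [eventually_lt_of_limsup_lt (show limsup g atTop < limsup g atTop + ε by linarith) (bdd_of_abs hg).1, h]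
      with m h1 h2
    linarith

variable (k : Type u) [Field k] {X : Scheme.{u}} [X.Over (Spec (CommRingCat.of k))]
  [IsProper (X ↘ Spec (CommRingCat.of k))] {r : ℕ} (D : Pairs X r)

theorem seq_N (a : Fin r → ℤ) (i m : ℕ) :
    seq k (Coh.structureModule X) (D.N a) i m = F₀ k D (Coh.structureModule X) i ((m : ℤ) • a) :=
  h_congr k (H23.PicMul.cl_eq_iff.1 (by
    rw [H23.PicMul.cl_tensor, H23.PicMul.cl_tensor, H23.PicMul.cl_tensorPow, D.cl_N_nsmul])).some i

include k in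
theorem isCoh_structure : Coh.IsCoh (Coh.structureModule X) :=
  haveI := CurveCohLib.isNoetherian_of_proper (k := k) (X := X)
  QCoh.isCoh_structureModule'

theorem abs_nrm_seq {n : ℕ} (hn : topologicalKrullDim X ≤ n) {L : X.Modules} (hL : PicF.IsInvertible L) (i : ℕ) (K : ℝ) :
    ∃ C, ∀ᶠ m in atTop, |nrm K n (seq k (Coh.structureModule X) L i) m| ≤ C :=
  nrm_abs_le (seq_growth k hL (isCoh_structure k) (small_top hn _) i)

theorem hhat_const (hn : topologicalKrullDim X ≤ (0 : ℕ)) (i : ℕ) (a b : Fin r → ℤ) :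
    W4c5asymptcohfn.hhat k X 0 i (D.N a) = W4c5asymptcohfn.hhat k X 0 i (D.N b) := by
  rw [hhat_eq, hhat_eq]
  refine congrArg (limsup · atTop) (funext fun m => ?_)
  rw [nrm, nrm, seq_N, seq_N,
    eq_of_near_zero (fun j => near_bump k D (isCoh_structure k) (small_top hn _) i j) ((m : ℤ) • a) ((m : ℤ) • b)]

/-- The Lipschitz estimate. -/
theorem exists_hhat_lipschitz {d : ℕ} (hn : topologicalKrullDim X ≤ ((d + 1 : ℕ) : WithBot ℕ∞)) (i : ℕ) :
    ∃ C : ℝ, 0 ≤ C ∧ ∀ a b : Fin r → ℤ,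
      |W4c5asymptcohfn.hhat k X (d + 1) i (D.N a) - W4c5asymptcohfn.hhat k X (d + 1) i (D.N b)| ≤
        C * (1 + sz a + sz b : ℝ) ^ d * sz (a - b) := by
  obtain ⟨c, hc⟩ := lipschitz (f := F₀ k D (Coh.structureModule X) i) (d := d)
    fun j => near_bump k D (isCoh_structure k) (small_top hn _) i j
  let K : ℝ := ((d + 1).factorial : ℝ)
  refine ⟨c * K, by positivity, fun a b => ?_⟩
  have key : ∀ a b : Fin r → ℤ, W4c5asymptcohfn.hhat k X (d + 1) i (D.N a) ≤
      W4c5asymptcohfn.hhat k X (d + 1) i (D.N b) + c * K * (1 + sz a + sz b : ℝ) ^ d * sz (a - b) := by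
    intro a b
    obtain ⟨C₁, h₁⟩ := abs_nrm_seq k hn (D.invN a) i K
    obtain ⟨C₂, h₂⟩ := abs_nrm_seq k hn (D.invN b) i K
    rw [hhat_eq, hhat_eq]
    refine limsup_le_add h₁ h₂ ?_
    filter_upwards [eventually_ge_atTop 1] with m hm
    have hm' : (0 : ℝ) < m := by exact_mod_cast hm
    have h := hc ((m : ℤ) • a) ((m : ℤ) • b)
    rw [← smul_sub, sz_nsmul] at h
    have hbox : 1 + box ((m : ℤ) • a) ((m : ℤ) • b) ≤ m * (1 + sz a + sz b) := by
      refine (Nat.add_le_add_left (box_le_add _ _) 1).trans ?_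
      rw [sz_nsmul, sz_nsmul, mul_add, mul_add, mul_one]
      omega
    have h' : F₀ k D (Coh.structureModule X) i ((m : ℤ) • a) ≤ F₀ k D (Coh.structureModule X) i ((m : ℤ) • b) +
        c * (m * (1 + sz a + sz b)) ^ d * (m * sz (a - b)) :=
      h.trans (Nat.add_le_add_left (Nat.mul_le_mul_right _ (Nat.mul_le_mul_left c (Nat.pow_le_pow_left hbox d))) _)
    rw [nrm, nrm, seq_N, seq_N, ← sub_le_iff_le_add', ← sub_div, ← sub_mul, div_le_iff₀ (pow_pos hm' _)]
    have h'' : (F₀ k D (Coh.structureModule X) i ((m : ℤ) • a) : ℝ) ≤ F₀ k D (Coh.structureModule X) i ((m : ℤ) • b) +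
        c * ((m : ℝ) * (1 + sz a + sz b)) ^ d * (m * sz (a - b)) := by exact_mod_cast h'
    calc _ ≤ (c * ((m : ℝ) * (1 + sz a + sz b)) ^ d * (m * sz (a - b))) * K :=
          mul_le_mul_of_nonneg_right (by linarith) (Nat.cast_nonneg _)
      _ = _ := by rw [mul_pow, pow_succ]; ring
  refine abs_le.2 ⟨?_, by linarith [key a b]⟩
  have := key b a
  rw [add_right_comm (1 : ℝ) (sz b : ℝ), show sz (b - a) = sz (a - b) from Finset.sum_congr rfl fun j _ => by
    simp only [Pi.sub_apply]; omega] at this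
  linarith

/-- The upper limit in extended reals. -/
theorem ennreal_limsup_eq {n : ℕ} {u : ℕ → ℕ} (hu : SmN (n + 1) u) :
    limsup (fun m : ℕ => (u m : ℝ≥0∞) / (m : ℝ≥0∞) ^ n) atTop = ENNReal.ofReal (limsup (nrm 1 n u) atTop) ∧
    liminf (fun m : ℕ => (u m : ℝ≥0∞) / (m : ℝ≥0∞) ^ n) atTop = ENNReal.ofReal (liminf (nrm 1 n u) atTop) := by
  obtain ⟨C, hC⟩ := nrm_abs_le (K := 1) hu
  have hev : (fun m : ℕ => (u m : ℝ≥0∞) / (m : ℝ≥0∞) ^ n) =ᶠ[atTop] fun m => ENNReal.ofReal (nrm 1 n u m) := by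
    filter_upwards [eventually_ge_atTop 1] with m hm
    have hm' : (0 : ℝ) < m := by exact_mod_cast hm
    rw [nrm, mul_one, ENNReal.ofReal_div_of_pos (pow_pos hm' n), ENNReal.ofReal_natCast,
      ENNReal.ofReal_pow hm'.le, ENNReal.ofReal_natCast]
  rw [limsup_congr hev, liminf_congr hev]
  exact ⟨(Monotone.map_limsup_of_continuousAt ENNReal.ofReal_mono _ ENNReal.continuous_ofReal.continuousAt
      (bdd_of_abs hC).1 (bdd_of_abs hC).2.isCoboundedUnder_le).symm,
    (Monotone.map_liminf_of_continuousAt ENNReal.ofReal_mono _ ENNReal.continuous_ofReal.continuousAt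
      (bdd_of_abs hC).1.isCoboundedUnder_ge (bdd_of_abs hC).2).symm⟩

end Groth.Agent.Growth22
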