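import Mathlib.Data.Int.Interval
import Mathlib.Algebra.BigOperators.Fin
import Mathlib.Algebra.Order.BigOperators.Group.Finset
import Mathlib.Tactic.Ring
import Mathlib.Tactic.Linarith
import Mathlib.Tactic.GCongr

/-!
# Functions on `ℤ^r` of polynomial growth with small increments
-/

namespace Groth.Agent.Growth22

variable {r : ℕ}

/-- The size of a multi-index. -/
def sz (a : Fin r → ℤ) : ℕ := ∑ j, (a j).natAbs

/-- The unit vector. -/
def bump (a : Fin r → ℤ) (j : Fin r) : Fin r → ℤ := Function.update a j (a j + 1)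

/-- Bounded by a polynomial of degree `< d`. -/
def Sm : ℕ → ((Fin r → ℤ) → ℕ) → Prop
  | 0, g => ∀ a, g a = 0
  | d + 1, g => ∃ c, ∀ a, g a ≤ c * (1 + sz a) ^ d

theorem Sm.mono {d : ℕ} {g g' : (Fin r → ℤ) → ℕ} (h : Sm d g') (hle : ∀ a, g a ≤ g' a) : Sm d g := by
  cases d with
  | zero => exact fun a => Nat.le_zero.1 ((hle a).trans (h a).le)
  | succ d => exact h.imp fun c hc a => (hle a).trans (hc a)

theorem Sm.add {d : ℕ} {g g' : (Fin r → ℤ) → ℕ} (h : Sm d g) (h' : Sm d g') : Sm d (fun a => g a + g' a) := by
  cases d with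
  | zero => exact fun a => by simp [h a, h' a]
  | succ d =>
    obtain ⟨c, hc⟩ := h
    obtain ⟨c', hc'⟩ := h'
    exact ⟨c + c', fun a => by rw [add_mul]; exact Nat.add_le_add (hc a) (hc' a)⟩

theorem Sm.zero (d : ℕ) : Sm d (fun _ : Fin r → ℤ => 0) := by
  cases d with
  | zero => exact fun _ => rfl
  | succ d => exact ⟨0, fun _ => Nat.zero_le _⟩

theorem Sm.succ {d : ℕ} {g : (Fin r → ℤ) → ℕ} (h : Sm d g) : Sm (d + 1) g := by
  cases d with
  | zero => exact ⟨0, fun a => by simp [h a]⟩
  | succ d =>
    obtain ⟨c, hc⟩ := h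
    exact ⟨c, fun a => (hc a).trans (Nat.mul_le_mul_left c (Nat.pow_le_pow_right (by omega) (Nat.le_succ d)))⟩

theorem Sm.of_le {d e : ℕ} (hde : d ≤ e) {g : (Fin r → ℤ) → ℕ} (h : Sm d g) : Sm e g := by
  induction hde with
  | refl => exact h
  | step _ ih => exact ih.succ

theorem Sm.sum {d : ℕ} {ι : Type*} (s : Finset ι) {g : ι → (Fin r → ℤ) → ℕ} (h : ∀ i ∈ s, Sm d (g i)) :
    Sm d (fun a => ∑ i ∈ s, g i a) := by
  classical
  induction s using Finset.induction with
  | empty => simpa using Sm.zero (r := r) d
  | insert i s hi ih =>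
    simp only [Finset.sum_insert hi]
    exact (h i (Finset.mem_insert_self i s)).add (ih fun j hj => h j (Finset.mem_insert_of_mem hj))

theorem sz_bump_le (a : Fin r → ℤ) (j : Fin r) : sz (bump a j) ≤ sz a + 1 := by
  calc sz (bump a j) ≤ ∑ i, ((a i).natAbs + if i = j then 1 else 0) :=
        Finset.sum_le_sum fun i _ => by
          by_cases hi : i = j
          · subst hi
            simp only [bump, Function.update_self, if_true]
            omega
          · simp [bump, hi]
    _ = sz a + 1 := by rw [Finset.sum_add_distrib, Finset.sum_ite_eq']; simp [sz]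

theorem Sm.shift {d : ℕ} {g : (Fin r → ℤ) → ℕ} (h : Sm d g) (j : Fin r) : Sm d (fun a => g (bump a j)) := by
  cases d with
  | zero => exact fun a => h _
  | succ d =>
    obtain ⟨c, hc⟩ := h
    refine ⟨c * 2 ^ d, fun a => (hc _).trans ?_⟩
    rw [mul_assoc, ← mul_pow]
    exact Nat.mul_le_mul_left c (Nat.pow_le_pow_left (by have := sz_bump_le a j; omega) d)

/-- Two functions differ by a polynomial of degree `< d`. -/
def Near (d : ℕ) (f g : (Fin r → ℤ) → ℕ) : Prop :=
  ∃ e, Sm d e ∧ ∀ a, f a ≤ g a + e a ∧ g a ≤ f a + e a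

theorem Near.refl (d : ℕ) (f : (Fin r → ℤ) → ℕ) : Near d f f := ⟨_, Sm.zero d, fun _ => by simp⟩

theorem Near.of_eq {d : ℕ} {f g : (Fin r → ℤ) → ℕ} (h : ∀ a, f a = g a) : Near d f g :=
  ⟨_, Sm.zero d, fun a => by simp [h a]⟩

theorem Near.symm {d : ℕ} {f g : (Fin r → ℤ) → ℕ} (h : Near d f g) : Near d g f :=
  let ⟨e, he, h⟩ := h; ⟨e, he, fun a => ⟨(h a).2, (h a).1⟩⟩

theorem Near.trans {d : ℕ} {f g l : (Fin r → ℤ) → ℕ} (h : Near d f g) (h' : Near d g l) : Near d f l := by
  obtain ⟨e, he, h⟩ := h
  obtain ⟨e', he', h'⟩ := h'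
  exact ⟨_, he.add he', fun a => by have := h a; have := h' a; omega⟩

theorem Near.add {d : ℕ} {f g f' g' : (Fin r → ℤ) → ℕ} (h : Near d f g) (h' : Near d f' g') :
    Near d (fun a => f a + f' a) (fun a => g a + g' a) := by
  obtain ⟨e, he, h⟩ := h
  obtain ⟨e', he', h'⟩ := h'
  exact ⟨_, he.add he', fun a => by have := h a; have := h' a; simp only; omega⟩

theorem Near.succ {d : ℕ} {f g : (Fin r → ℤ) → ℕ} (h : Near d f g) : Near (d + 1) f g :=
  let ⟨e, he, h⟩ := h; ⟨e, he.succ, h⟩

theorem Near.sm {d : ℕ} {f g : (Fin r → ℤ) → ℕ} (h : Near d f g) (hg : Sm d g) : Sm d f :=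
  let ⟨_, he, h⟩ := h; (hg.add he).mono fun a => (h a).1

theorem Near.shift {d : ℕ} {f g : (Fin r → ℤ) → ℕ} (h : Near d f g) (j : Fin r) :
    Near d (fun a => f (bump a j)) (fun a => g (bump a j)) :=
  let ⟨e, he, h⟩ := h; ⟨_, he.shift j, fun a => h _⟩

/-- The box spanned by two multi-indices. -/
def box (a b : Fin r → ℤ) : ℕ := ∑ j, max (a j).natAbs (b j).natAbs

theorem box_le_add (a b : Fin r → ℤ) : box a b ≤ sz a + sz b := by
  unfold box sz
  rw [← Finset.sum_add_distrib]
  exact Finset.sum_le_sum fun j _ => by omega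

/-- Small increments give a Lipschitz estimate. -/
theorem lipschitz {d : ℕ} {f : (Fin r → ℤ) → ℕ} (h : ∀ j, Near (d + 1) f (fun a => f (bump a j))) :
    ∃ c, ∀ a b, f a ≤ f b + c * (1 + box a b) ^ d * sz (a - b) := by
  choose e he hf using h
  obtain ⟨c, hc⟩ := Sm.sum Finset.univ fun j _ => he j
  have hej : ∀ j a, e j a ≤ c * (1 + sz a) ^ d := fun j a =>
    le_trans (Finset.single_le_sum (f := fun j => e j a) (fun _ _ => Nat.zero_le _) (Finset.mem_univ j)) (hc a)
  refine ⟨c, fun a b => ?_⟩
  induction hn : sz (a - b) using Nat.strong_induction_on generalizing a with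
  | _ n ih =>
    subst hn
    by_cases hab : a = b
    · subst hab; omega
    obtain ⟨j, hj⟩ := Function.ne_iff.1 hab
    -- one step towards `b`
    let t : ℤ := if b j < a j then -1 else 1
    let a' := Function.update a j (a j + t)
    have hdist : sz (a' - b) + 1 = sz (a - b) := by
      unfold sz
      rw [← Finset.sum_erase_add _ _ (Finset.mem_univ j), ← Finset.sum_erase_add (a := j) _ _ (Finset.mem_univ j),
        add_assoc]
      congr 1
      · refine Finset.sum_congr rfl fun i hi => ?_
        simp only [Finset.mem_erase] at hi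
        simp [a', hi.1]
      · simp only [a', Pi.sub_apply, Function.update_self, t]
        split_ifs <;> omega
    have hbox : box a' b ≤ box a b := Finset.sum_le_sum fun i _ => by
      by_cases hi : i = j
      · subst hi
        simp only [a', Function.update_self, t]
        split_ifs <;> omega
      · simp [a', hi]
    have hszb : ∀ p : Fin r → ℤ, (∀ i, (p i).natAbs ≤ max (a i).natAbs (b i).natAbs) → sz p ≤ box a b :=
      fun p hp => Finset.sum_le_sum fun i _ => hp i
    have hstep : f a ≤ f a' + c * (1 + box a b) ^ d := by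
      by_cases hlt : b j < a j
      · have hb : bump a' j = a := by
          funext i
          by_cases hi : i = j
          · subst hi; simp [bump, a', t, hlt]
          · simp [bump, a', hi]
        have hp : sz a' ≤ box a b := hszb a' fun i => by
          by_cases hi : i = j
          · subst hi; simp only [a', t, Function.update_self, if_pos hlt]; omega
          · simp [a', hi]
        have h1 : f (bump a' j) ≤ f a' + e j a' := (hf j a').2
        rw [hb] at h1
        exact h1.trans (Nat.add_le_add_left ((hej j a').trans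
          (Nat.mul_le_mul_left c (Nat.pow_le_pow_left (by omega) d))) _)
      · have hb : bump a j = a' := by
          funext i
          by_cases hi : i = j
          · subst hi; simp [bump, a', t, hlt]
          · simp [bump, a', hi]
        have hp : sz a ≤ box a b := hszb a fun i => by omega
        have h1 : f a ≤ f (bump a j) + e j a := (hf j a).1
        rw [hb] at h1
        exact h1.trans (Nat.add_le_add_left ((hej j a).trans
          (Nat.mul_le_mul_left c (Nat.pow_le_pow_left (by omega) d))) _)
    have hrec := ih (sz (a' - b)) (by omega) a' rfl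
    calc f a ≤ f a' + c * (1 + box a b) ^ d := hstep
      _ ≤ f b + c * (1 + box a' b) ^ d * sz (a' - b) + c * (1 + box a b) ^ d := by omega
      _ ≤ f b + c * (1 + box a b) ^ d * sz (a' - b) + c * (1 + box a b) ^ d := by gcongr
      _ = f b + c * (1 + box a b) ^ d * sz (a - b) := by rw [← hdist]; ring

theorem eq_of_near_zero {f : (Fin r → ℤ) → ℕ} (h : ∀ j, Near 0 f (fun a => f (bump a j))) (a b : Fin r → ℤ) :
    f a = f b := by
  have h1 : ∀ j, Near 1 f (fun a => f (bump a j)) := fun j => (h j).succ
  suffices ∀ n a, sz (a - b) = n → f a = f b from this _ a rfl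
  intro n
  induction n using Nat.strong_induction_on with
  | _ n ih =>
    intro a hn
    by_cases hab : a = b
    · rw [hab]
    obtain ⟨j, hj⟩ := Function.ne_iff.1 hab
    have hinv : ∀ p, f p = f (bump p j) := fun p => by
      obtain ⟨e, he, hf⟩ := h j
      have h0 : e p = 0 := he p
      have h1 : f p ≤ f (bump p j) + e p ∧ f (bump p j) ≤ f p + e p := hf p
      omega
    let t : ℤ := if b j < a j then -1 else 1
    let a' := Function.update a j (a j + t)
    have hdist : sz (a' - b) + 1 = sz (a - b) := by
      unfold sz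
      rw [← Finset.sum_erase_add _ _ (Finset.mem_univ j), ← Finset.sum_erase_add (a := j) _ _ (Finset.mem_univ j),
        add_assoc]
      congr 1
      · refine Finset.sum_congr rfl fun i hi => ?_
        simp only [Finset.mem_erase] at hi
        simp [a', hi.1]
      · simp only [a', Pi.sub_apply, Function.update_self, t]
        split_ifs <;> omega
    rw [← ih _ (by omega) a' rfl]
    by_cases hlt : b j < a j
    · rw [hinv a']
      congr 1
      funext i
      by_cases hi : i = j
      · subst hi; simp [bump, a', t, hlt]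
      · simp [bump, a', hi]
    · rw [hinv a]
      congr 1
      funext i
      by_cases hi : i = j
      · subst hi; simp [bump, a', t, hlt]
      · simp [bump, a', hi]

/-- Small increments give growth one degree higher. -/
theorem sm_of_steps {d : ℕ} {f : (Fin r → ℤ) → ℕ} (h : ∀ j, Near d f (fun a => f (bump a j))) :
    Sm (d + 1) f := by
  cases d with
  | zero => exact ⟨f 0, fun a => by rw [pow_zero, mul_one, eq_of_near_zero h a 0]⟩
  | succ d =>
    obtain ⟨c, hc⟩ := lipschitz h
    refine ⟨f 0 + c, fun a => (hc a 0).trans ?_⟩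
    have hb : box a 0 = sz a := Finset.sum_congr rfl fun i _ => by simp
    rw [hb, sub_zero, pow_succ (1 + sz a) d, add_mul]
    refine Nat.add_le_add (Nat.le_mul_of_pos_right _ (by positivity)) ?_
    rw [mul_assoc]
    exact Nat.mul_le_mul_left c (Nat.mul_le_mul_left _ (by omega))

end Groth.Agent.Growth22
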