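import Groth.Agent.Growth22.Ineq
import Groth.Agent.Growth22.Num
import Groth.Agent.Growth22.Twist
import Groth.Agent.Snapper.Main
import Groth.Agent.KZ.CohClass

/-!
# Growth of the cohomology of twists by products of powers of invertible modules

For a coherent module whose support has dimension at most `d`, every cohomology group of its twists
by `L_1^{a_1} ⊗ ⋯ ⊗ L_r^{a_r}` has dimension `O(|a|^d)`, and changing one exponent by one changes
the dimensions by `O(|a|^{d-1})` only.
-/

noncomputable section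

set_option linter.style.haveILetI false
set_option linter.unusedSectionVars false
set_option maxHeartbeats 1000000
set_option backward.isDefEq.respectTransparency false
set_option backward.isDefEq.respectTransparency.types false

universe u

open CategoryTheory CategoryTheory.Limits AlgebraicGeometry TopologicalSpace Opposite
open scoped Groth.Agent.H23.PicMul

namespace Groth.Agent.Growth22

open Groth.Agent

variable (k : Type u) [Field k] {X : Scheme.{u}} [X.Over (Spec (CommRingCat.of k))]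
  [IsProper (X ↘ Spec (CommRingCat.of k))] {r : ℕ} (D : Pairs X r)

/-- `a ↦ dim H^i(F ⊗ L^a)`. -/
def F₀ (F : X.Modules) (i : ℕ) (a : Fin r → ℤ) : ℕ := h k (CohB1.tensorMod F (D.N a)) i

theorem isCoh_twist [IsNoetherian X] {F : X.Modules} (hF : Coh.IsCoh F) (a : Fin r → ℤ) :
    Coh.IsCoh (CohB1.tensorMod F (D.N a)) :=
  AmpleVan.isCoh_tensor hF (AmpleVan.isCoh_invertible (D.invN a))

theorem F₀_congr {F G : X.Modules} (e : F ≅ G) (i : ℕ) (a : Fin r → ℤ) : F₀ k D F i a = F₀ k D G i a :=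
  h_congr k ((AmpleVan.tw (D.N a)).mapIso e) i

theorem F₀_isZero {F : X.Modules} (hF : IsZero F) (i : ℕ) (a : Fin r → ℤ) : F₀ k D F i a = 0 := by
  haveI := AmpleVan.isEquivalence_tw (D.invN a)
  exact h_eq_zero_of_isZero k ((AmpleVan.tw (D.N a)).map_isZero hF) i

/-- Supported in dimension `< d`. -/
def Small (d : ℕ) (M : X.Modules) : Prop :=
  ∃ C : Closeds X, topologicalKrullDim ↥(C : Set X) < (d : WithBot ℕ∞) ∧ CohB1.support M ⊆ C

theorem Small.of_subset {d : ℕ} {M : X.Modules} {S : Set X} (hS : IsClosed S)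
    (hd : topologicalKrullDim ↥S < (d : WithBot ℕ∞)) (hMS : CohB1.support M ⊆ S) : Small d M :=
  ⟨⟨S, hS⟩, hd, hMS⟩

theorem small_of_dim_le [IsNoetherian X] {d : ℕ} {M : X.Modules} (hM : Coh.IsCoh M)
    (hd : topologicalKrullDim ↥(CohB1.support M) ≤ d) : Small (d + 1) M :=
  Small.of_subset (QCoh.isClosed_support_of_isFT hM.1 hM.2)
    (lt_of_le_of_lt hd (by exact_mod_cast Nat.lt_succ_self d)) subset_rfl

theorem small_zero_isZero [IsNoetherian X] {M : X.Modules} (hM : Coh.IsCoh M) (h : Small 0 M) : IsZero M := by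
  obtain ⟨C, hC, hMC⟩ := h
  refine CurveCohLib.isZero_of_subsingleton_stalks fun x => not_not.1 fun hx => ?_
  haveI : Nonempty ↥(C : Set X) := ⟨⟨x, hMC hx⟩⟩
  haveI : Nonempty (IrreducibleCloseds ↥(C : Set X)) :=
    ⟨⟨closure {⟨x, hMC hx⟩}, isIrreducible_singleton.closure, isClosed_closure⟩⟩
  exact absurd hC (not_lt.2 (by exact_mod_cast Order.krullDim_nonneg))

/-- All twists of small modules have small cohomology. -/
def P (d : ℕ) : Prop :=
  ∀ M : X.Modules, Coh.IsCoh M → Small d M → ∀ i, Sm d (F₀ k D M i)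

theorem near_of_map {d : ℕ} (hP : P k D d) {A B : X.Modules} (hA : Coh.IsCoh A) (hB : Coh.IsCoh B)
    (φ : A ⟶ B) (hk : Small d (kernel φ)) (hc : Small d (cokernel φ)) (i : ℕ) :
    Near d (F₀ k D A i) (F₀ k D B i) := by
  haveI := CurveCohLib.isNoetherian_of_proper (k := k) (X := X)
  have hK := QCoh.isCoh_kernel hA hB φ
  have hC := QCoh.isCoh_cokernel hA.1 hB φ
  refine ⟨_, (((hP _ hK hk i).add (hP _ hK hk (i + 1))).add (hP _ hC hc i)).add (hP _ hC hc (i - 1)), fun a => ?_⟩
  let T := AmpleVan.tw (D.N a)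
  haveI := AmpleVan.isEquivalence_tw (D.invN a)
  haveI : T.Additive := Functor.additive_of_preserves_binary_products _
  have := h_map_le k (isCoh_twist D hA a) (isCoh_twist D hB a) (T.map φ) i
  have e1 : ∀ j, h k (kernel (T.map φ)) j = F₀ k D (kernel φ) j a :=
    fun j => h_congr k (PreservesKernel.iso T φ).symm j
  have e2 : ∀ j, h k (cokernel (T.map φ)) j = F₀ k D (cokernel φ) j a :=
    fun j => h_congr k (PreservesCokernel.iso T φ).symm j
  unfold err at this
  rw [e1, e1, e2, e2] at this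
  exact this

theorem near_of_isoOn {d : ℕ} (hP : P k D d) {A B : X.Modules} (hA : Coh.IsCoh A) (hB : Coh.IsCoh B)
    {C : Set X} (hC : IsClosed C) {U : X.Opens} (hd : topologicalKrullDim ↥(C \ U) < (d : WithBot ℕ∞))
    (hAC : CohB1.support A ⊆ C) (hBC : CohB1.support B ⊆ C) (φ : A ⟶ B) (hφ : Snapper.IsoOn U φ) (i : ℕ) :
    Near d (F₀ k D A i) (F₀ k D B i) := by
  haveI := CurveCohLib.isNoetherian_of_proper (k := k) (X := X)
  obtain ⟨hk, hc⟩ := Snapper.support_subset_compl hφ
  obtain ⟨hk', hc'⟩ := Snapper.support_sub_of_map hA hB φ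
  exact near_of_map k D hP hA hB φ
    (Small.of_subset (hC.sdiff U.2) hd fun x hx => ⟨hAC (hk' hx), hk hx⟩)
    (Small.of_subset (hC.sdiff U.2) hd fun x hx => ⟨hBC (hc' hx), hc hx⟩) i

theorem near_twist {d : ℕ} (hP : P k D d) {C : Set X} (hC : IsClosed C) {U : X.Opens}
    (hd : topologicalKrullDim ↥(C \ U) < (d : WithBot ℕ∞)) (j : Fin r) {e : Γ(D.L j, U)} (he : InvX.IsFrame e)
    {M : X.Modules} (hM : Coh.IsCoh M) (hMC : CohB1.support M ⊆ C) (i : ℕ) :
    Near d (F₀ k D M i) (fun a => F₀ k D M i (bump a j)) := by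
  haveI := CurveCohLib.isNoetherian_of_proper (k := k) (X := X)
  obtain ⟨K, I, p, q, s, hK, hI, hp, hq, hs⟩ := Snapper.exists_link_frame (D.invL j) he
  let T := AmpleVan.tw M
  have hsupp : ∀ A, CohB1.support (T.obj A) ⊆ C := fun A => fun x hx => hMC (CurveTensor.support_tensor_subset hx)
  have hcoh : ∀ {A}, Coh.IsCoh A → Coh.IsCoh (T.obj A) := fun h => AmpleVan.isCoh_tensor h hM
  have e1 := near_of_isoOn k D hP (hcoh hK) (hcoh QCoh.isCoh_structureModule') hC hd (hsupp _) (hsupp _) _ (hp.tensor M) i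
  have e2 := near_of_isoOn k D hP (hcoh hK) (hcoh hI) hC hd (hsupp _) (hsupp _) _ (hq.tensor M) i
  have e3 := near_of_isoOn k D hP (hcoh (AmpleVan.isCoh_invertible (D.invL j))) (hcoh hI) hC hd (hsupp _) (hsupp _) _
    (hs.tensor M) i
  refine (Near.of_eq fun a => ?_).trans (e1.symm.trans (e2.trans (e3.symm.trans (Near.of_eq fun a => ?_))))
  · exact F₀_congr k D (CurveTensor.structureTensorIso M).symm i a
  · refine h_congr k (H23.PicMul.cl_eq_iff.1 ?_).some i
    show PicF.cl (CohB1.tensorMod (CohB1.tensorMod (D.L j) M) (D.N a)) =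
      PicF.cl (CohB1.tensorMod M (D.N (Function.update a j (a j + 1))))
    simp only [H23.PicMul.cl_tensor, D.cl_N_bump]
    exact (mul_assoc _ _ _).trans (mul_left_comm _ _ _)

theorem F₀_biprod [IsNoetherian X] {A B : X.Modules} (hA : Coh.IsCoh A) (hB : Coh.IsCoh B) (hAB : Coh.IsCoh (A ⊞ B))
    (i : ℕ) (a : Fin r → ℤ) : F₀ k D (A ⊞ B) i a = F₀ k D A i a + F₀ k D B i a := by
  let T := AmpleVan.tw (D.N a)
  haveI := AmpleVan.isEquivalence_tw (D.invN a)
  haveI : T.Additive := Functor.additive_of_preserves_binary_products _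
  have s := (ShortComplex.Splitting.ofHasBinaryBiproduct A B).map T
  exact h_X₂_of_splitting k s s.shortExact (isCoh_twist D hA a) (isCoh_twist D hAB a) (isCoh_twist D hB a) i

/-- A module supported in `Z ∪ C` is close to the sum of its parts. -/
theorem exists_parts [IsNoetherian X] {M : X.Modules} (hM : Coh.IsCoh M) (Z C : Closeds X)
    (hsub : CohB1.support M ⊆ ↑Z ∪ ↑C) :
    ∃ (I J : X.Modules) (φ : M ⟶ I ⊞ J), Coh.IsCoh I ∧ Coh.IsCoh J ∧ Coh.IsCoh (I ⊞ J) ∧
      CohB1.support I ⊆ Z ∧ CohB1.support J ⊆ C ∧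
      CohB1.support (kernel φ) ⊆ CohB1.support M ∧
      CohB1.support (kernel φ) ⊆ ↑Z ∩ ↑C ∧ CohB1.support (cokernel φ) ⊆ ↑Z ∩ ↑C := by
  let V (E : Closeds X) : X.Opens := ⟨(E : Set X)ᶜ, E.isClosed.isOpen_compl⟩
  have hQ : ∀ E, Coh.IsQCoh ((Scheme.Modules.pushforward (V E).ι).obj (M.restrict (V E).ι)) := fun E =>
    QCoh.isQCoh_pushforward _ (QCoh.isQCoh_restrict _ hM.1)
  let im (E : Closeds X) := Abelian.image (Snapper.resMap (V E) M)
  let π (E : Closeds X) : M ⟶ im E := Abelian.factorThruImage _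
  have hIm : ∀ E, Coh.IsCoh (im E) := fun E =>
    QCoh.isCoh_of_epi (π E) hM (QCoh.isQCoh_kernel (hQ E) (QCoh.isQCoh_cokernel hM.1 (hQ E) _) _)
  have hsI : ∀ E E' : Closeds X, CohB1.support M ⊆ ↑E' ∪ ↑E → CohB1.support (im E) ⊆ E' := fun E E' h x hx => by
    by_contra hx1
    have hP := QCoh.mem_support_of_mono (hIm E).1 (hQ E) (Abelian.image.ι (Snapper.resMap (V E) M)) hx
    refine Snapper.notMem_support_push (W := V E') hx1 ?_ hP
    exact Set.disjoint_left.2 fun y hy hyM => (h hyM).elim hy.1 hy.2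
  have hiso : ∀ E, Snapper.IsoOn (V E) (π E) := fun E x hx => by
    let F := DerSch.stalkFunctor X x
    haveI := Snapper.isoOn_resMap (V E) M x hx
    have e : F.map (π E) ≫ F.map (Abelian.image.ι (Snapper.resMap (V E) M)) = F.map (Snapper.resMap (V E) M) := by
      rw [← F.map_comp, Abelian.image.fac]
    haveI : Mono (F.map (π E)) := by
      haveI : Mono (F.map (π E) ≫ F.map (Abelian.image.ι (Snapper.resMap (V E) M))) := e ▸ inferInstance
      exact mono_of_mono _ (F.map (Abelian.image.ι (Snapper.resMap (V E) M)))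
    exact isIso_of_mono_of_epi _
  have hbi : Coh.IsCoh (im C ⊞ im Z) := by
    have s := ShortComplex.Splitting.ofHasBinaryBiproduct (im C) (im Z)
    exact KZ.isCoh_X₂ s.shortExact (hIm C) (hIm Z)
  let φ := biprod.lift (π C) (π Z)
  have sI : CohB1.support (im C) ⊆ Z := hsI C Z hsub
  have sJ : CohB1.support (im Z) ⊆ C := hsI Z C (Set.union_comm (Z : Set X) C ▸ hsub)
  refine ⟨im C, im Z, φ, hIm C, hIm Z, hbi, sI, sJ, (Snapper.support_sub_of_map hM hbi φ).1, ?_⟩
  have hφ : Snapper.IsoOn ⟨((Z : Set X) ∩ C)ᶜ, (Z.isClosed.inter C.isClosed).isOpen_compl⟩ φ := fun x hx => by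
    let F := DerSch.stalkFunctor X x
    haveI : F.Additive := Functor.additive_of_preserves_binary_products _
    rcases not_and_or.1 (show ¬(x ∈ (Z : Set X) ∧ x ∈ (C : Set X)) from hx) with hx | hx
    · have h0 : IsZero (F.obj (im C)) := Snapper.notMem_support_iff.1 fun h => hx (sI h)
      haveI := hiso Z x hx
      have hid : F.map biprod.snd ≫ F.map biprod.inr = 𝟙 (F.obj (im C ⊞ im Z)) := by
        have := congrArg F.map (biprod.total (X := im C) (Y := im Z))
        rw [F.map_add, F.map_comp, F.map_comp, F.map_id, h0.eq_of_tgt (F.map biprod.fst) 0, zero_comp, zero_add] at this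
        exact this
      have hc : F.map φ ≫ F.map biprod.snd = F.map (π Z) := by rw [← F.map_comp, biprod.lift_snd]
      have : F.map φ = F.map (π Z) ≫ F.map biprod.inr := by rw [← hc, Category.assoc, hid, Category.comp_id]
      rw [this]
      haveI : IsIso (F.map (biprod.inr : im Z ⟶ im C ⊞ im Z)) :=
        ⟨F.map biprod.snd, by rw [← F.map_comp, biprod.inr_snd, F.map_id], hid⟩
      infer_instance
    · have h0 : IsZero (F.obj (im Z)) := Snapper.notMem_support_iff.1 fun h => hx (sJ h)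
      haveI := hiso C x hx
      have hid : F.map biprod.fst ≫ F.map biprod.inl = 𝟙 (F.obj (im C ⊞ im Z)) := by
        have := congrArg F.map (biprod.total (X := im C) (Y := im Z))
        rw [F.map_add, F.map_comp, F.map_comp, F.map_id, h0.eq_of_tgt (F.map biprod.snd) 0, zero_comp, add_zero] at this
        exact this
      have hc : F.map φ ≫ F.map biprod.fst = F.map (π C) := by rw [← F.map_comp, biprod.lift_fst]
      have : F.map φ = F.map (π C) ≫ F.map biprod.inl := by rw [← hc, Category.assoc, hid, Category.comp_id]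
      rw [this]
      haveI : IsIso (F.map (biprod.inl : im C ⟶ im C ⊞ im Z)) :=
        ⟨F.map biprod.fst, by rw [← F.map_comp, biprod.inl_fst, F.map_id], hid⟩
      infer_instance
  obtain ⟨hk, hc⟩ := Snapper.support_subset_compl hφ
  exact ⟨fun x hx => not_not.1 (hk hx), fun x hx => not_not.1 (hc hx)⟩

theorem lt_of_lt_succ {a b : WithBot ℕ∞} {d : ℕ} (h : a < b) (hb : b < ((d + 1 : ℕ) : WithBot ℕ∞)) :
    a < (d : WithBot ℕ∞) := by
  cases a with
  | bot => exact WithBot.bot_lt_coe _
  | coe a =>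
    cases b with
    | bot => exact absurd h not_lt_bot
    | coe b =>
      have h1 : a < b := WithBot.coe_lt_coe.1 h
      have h2 : b < ((d + 1 : ℕ) : ℕ∞) := WithBot.coe_lt_coe.1 hb
      refine WithBot.coe_lt_coe.2 (lt_of_lt_of_le h1 ?_)
      exact ENat.lt_add_one_iff (ENat.natCast_ne_top d) |>.1 (by exact_mod_cast h2)

/-- A proper closed subset of an irreducible closed set drops in dimension. -/
theorem dim_lt_of_irreducible {C Y : Set X} (hC : IsIrreducible C) {d : ℕ}
    (hd : topologicalKrullDim ↥C < ((d + 1 : ℕ) : WithBot ℕ∞)) (hY : IsClosed Y) (hne : ¬ C ⊆ Y) :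
    topologicalKrullDim ↥(C ∩ Y) < (d : WithBot ℕ∞) := by
  haveI : IrreducibleSpace ↥C := isIrreducible_iff_irreducibleSpace.1 hC
  have hlt := H23.TopDim.dim_lt_of_ssubset (X := ↥C) (fun h => by rw [h] at hd; exact not_top_lt hd)
    (Y := {y : ↥C | (y : X) ∈ Y}) (hY.preimage continuous_subtype_val)
    (fun h => hne fun x hx => (h.ge (Set.mem_univ (⟨x, hx⟩ : ↥C)) :))
  refine lt_of_lt_succ (lt_of_le_of_lt ?_ hlt) hd
  let g : ↥(C ∩ Y) → ↥{y : ↥C | (y : X) ∈ Y} := fun p => ⟨⟨p.1, p.2.1⟩, p.2.2⟩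
  have hcomp : Topology.IsInducing ((Subtype.val ∘ Subtype.val : ↥{y : ↥C | (y : X) ∈ Y} → X) ∘ g) :=
    show Topology.IsInducing (Subtype.val : ↥(C ∩ Y) → X) from Topology.IsInducing.subtypeVal
  exact ((Topology.IsInducing.subtypeVal.comp Topology.IsInducing.subtypeVal).of_comp_iff.1 hcomp).topologicalKrullDim_le

theorem near_step {d : ℕ} (hP : P k D d) :
    ∀ (C : Closeds X), topologicalKrullDim ↥(C : Set X) < ((d + 1 : ℕ) : WithBot ℕ∞) →
      ∀ M : X.Modules, Coh.IsCoh M → CohB1.support M ⊆ C → ∀ i j,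
        Near d (F₀ k D M i) (fun a => F₀ k D M i (bump a j)) := by
  haveI := CurveCohLib.isNoetherian_of_proper (k := k) (X := X)
  intro C
  induction C using WellFoundedLT.induction with
  | ind C IH =>
    intro hC M hM hMC i j
    rcases Set.eq_empty_or_nonempty (C : Set X) with h0 | hne
    · have hz : IsZero M := CurveCohLib.isZero_of_subsingleton_stalks fun x => not_not.1 fun hx =>
        (h0 ▸ hMC hx : x ∈ (∅ : Set X)).elim
      exact Near.of_eq fun a => by rw [F₀_isZero k D hz, F₀_isZero k D hz]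
    by_cases hirr : IsIrreducible (C : Set X)
    · obtain ⟨η, hη⟩ := QuasiSober.sober hirr C.isClosed
      obtain ⟨U, hηU, e, he⟩ := InvX.exists_frame (D.invL j) η
      exact near_twist k D hP C.isClosed (dim_lt_of_irreducible hirr hC U.2.isClosed_compl
        fun h => h hη.mem hηU) j he hM hMC i
    · obtain ⟨A, B, hA, hB, hsub, hnA, hnB⟩ : ∃ A B : Set X, IsClosed A ∧ IsClosed B ∧
          (C : Set X) ⊆ A ∪ B ∧ ¬ (C : Set X) ⊆ A ∧ ¬ (C : Set X) ⊆ B := by
        by_contra! hno
        exact hirr ⟨hne, isPreirreducible_iff_isClosed_union_isClosed.2 fun A B hA hB hs =>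
          or_iff_not_imp_left.2 fun hA' => hno A B hA hB hs hA'⟩
      -- one component and the rest
      haveI : NoetherianSpace ↥(C : Set X) := Topology.IsInducing.subtypeVal.noetherianSpace
      have hfin : (irreducibleComponents ↥(C : Set X)).Finite := NoetherianSpace.finite_irreducibleComponents
      haveI : Nonempty ↥(C : Set X) := hne.to_subtype
      obtain ⟨Z₀, hZ₀⟩ : (irreducibleComponents ↥(C : Set X)).Nonempty :=
        ⟨_, irreducibleComponent_mem_irreducibleComponents (Classical.arbitrary ↥(C : Set X))⟩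
      let R₀ : Set ↥(C : Set X) := ⋃₀ (irreducibleComponents ↥(C : Set X) \ {Z₀})
      have hR₀ : IsClosed R₀ := by
        rw [show R₀ = ⋃ W ∈ irreducibleComponents ↥(C : Set X) \ {Z₀}, W from Set.sUnion_eq_biUnion]
        exact (hfin.subset Set.sdiff_subset).isClosed_biUnion fun W hW => isClosed_of_mem_irreducibleComponents W hW.1
      have hcl : ∀ S : Set ↥(C : Set X), IsClosed S → IsClosed (Subtype.val '' S) := fun S hS =>
        C.isClosed.isClosedEmbedding_subtypeVal.isClosedMap S hS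
      let Z : Closeds X := ⟨Subtype.val '' Z₀, hcl _ (isClosed_of_mem_irreducibleComponents Z₀ hZ₀)⟩
      let R : Closeds X := ⟨Subtype.val '' R₀, hcl _ hR₀⟩
      have hcov : (C : Set X) ⊆ ↑Z ∪ ↑R := fun x hx => by
        have : (⟨x, hx⟩ : ↥(C : Set X)) ∈ ⋃₀ irreducibleComponents ↥(C : Set X) := by
          rw [sUnion_irreducibleComponents]; trivial
        obtain ⟨W, hW, hxW⟩ := this
        by_cases hWZ : W = Z₀
        · exact Or.inl ⟨⟨x, hx⟩, hWZ ▸ hxW, rfl⟩
        · exact Or.inr ⟨⟨x, hx⟩, ⟨W, ⟨hW, hWZ⟩, hxW⟩, rfl⟩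
      have hZirr : IsIrreducible (Z : Set X) := hZ₀.1.image _ continuous_subtype_val.continuousOn
      have hZC : Z ≤ C := fun _ ⟨y, _, hy⟩ => hy ▸ y.2
      have hRC : R ≤ C := fun _ ⟨y, _, hy⟩ => hy ▸ y.2
      have hZR : ¬ (Z : Set X) ⊆ R := fun h => by
        have h' : Z₀ ⊆ ⋃₀ (↑(hfin.subset (Set.sdiff_subset (t := {Z₀}))).toFinset) := fun y hy => by
          obtain ⟨y', hy', hyy⟩ := h ⟨y, hy, rfl⟩
          rw [Set.Finite.coe_toFinset]
          exact Subtype.val_injective hyy ▸ hy'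
        obtain ⟨W, hW, hZW⟩ := isIrreducible_iff_sUnion_isClosed.1 hZ₀.1 _
          (fun W hW => isClosed_of_mem_irreducibleComponents W ((Set.Finite.mem_toFinset _).1 hW).1) h'
        have hW' := (Set.Finite.mem_toFinset _).1 hW
        exact hW'.2 (Set.Subset.antisymm (hZ₀.2 hW'.1.1 hZW) hZW)
      have hZlt : Z < C := lt_of_le_of_ne hZC fun h => hirr (h ▸ hZirr)
      have hRlt : R < C := lt_of_le_of_ne hRC fun h => hZR (h ▸ hZC)
      have hdim : ∀ C' : Closeds X, C' ≤ C → topologicalKrullDim ↥(C' : Set X) < ((d + 1 : ℕ) : WithBot ℕ∞) :=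
        fun C' h => lt_of_le_of_lt (H23.TopDim.dim_le_dim_of_subset (show (C' : Set X) ⊆ C from h)) hC
      obtain ⟨I, J, φ, hI, hJ, hIJ, sI, sJ, -, sk, sc⟩ := exists_parts hM Z R (hMC.trans hcov)
      have hd' := dim_lt_of_irreducible hZirr (hdim Z hZC) R.isClosed hZR
      have hn := near_of_map k D hP hM hIJ φ (Small.of_subset (Z.isClosed.inter R.isClosed) hd' sk)
        (Small.of_subset (Z.isClosed.inter R.isClosed) hd' sc) i
      have hsplit : Near d (F₀ k D M i) (fun a => F₀ k D I i a + F₀ k D J i a) :=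
        hn.trans (Near.of_eq fun a => F₀_biprod k D hI hJ hIJ i a)
      exact hsplit.trans (((IH Z hZlt (hdim Z hZC) I hI sI i j).add (IH R hRlt (hdim R hRC) J hJ sJ i j)).trans
        (hsplit.shift j).symm)

/-- Every module supported in dimension `< d` has cohomology of growth below `d`. -/
theorem p_all : ∀ d, P k D d := by
  haveI := CurveCohLib.isNoetherian_of_proper (k := k) (X := X)
  intro d
  induction d with
  | zero => exact fun M hM hs i a => F₀_isZero k D (small_zero_isZero hM hs) i a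
  | succ d ih =>
    rintro M hM ⟨C, hC, hMC⟩ i
    exact sm_of_steps fun j => near_step k D ih C hC M hM hMC i j

/-- Changing an exponent changes the cohomology little. -/
theorem near_bump {d : ℕ} {M : X.Modules} (hM : Coh.IsCoh M) (hd : Small (d + 1) M) (i : ℕ) (j : Fin r) :
    Near d (F₀ k D M i) (fun a => F₀ k D M i (bump a j)) :=
  let ⟨C, hC, hMC⟩ := hd; near_step k D (p_all k D d) C hC M hM hMC i j

end Groth.Agent.Growth22
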