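import Groth.Agent.Calg46.NNIdeal
import Groth.Agent.EGA41Lib.IntDim
import Mathlib

/-!
Noether normalization adapted to a chain of primes.
-/

set_option autoImplicit false
set_option linter.style.haveILetI false

noncomputable section

universe u

open MvPolynomial

namespace Groth.Agent.Growth22.NNChain

variable {k : Type u} [Field k]

/-- The ideal of the first `h` variables. -/
def L (k : Type u) [Field k] (d h : ℕ) : Ideal (MvPolynomial (Fin d) k) :=
  Ideal.span (X '' {l : Fin d | (l : ℕ) < h})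

theorem L_zero (d : ℕ) : L k d 0 = ⊥ := by
  rw [L, Ideal.span_eq_bot]
  rintro _ ⟨l, hl, rfl⟩
  exact absurd hl (Nat.not_lt_zero _)

theorem L_mono {d a b : ℕ} (h : a ≤ b) : L k d a ≤ L k d b :=
  Ideal.span_mono (Set.image_mono fun _ hl => lt_of_lt_of_le (show _ < a from hl) h)

theorem X_mem_L {d h : ℕ} {l : Fin d} (hl : (l : ℕ) < h) : (X l : MvPolynomial (Fin d) k) ∈ L k d h :=
  Ideal.subset_span ⟨l, hl, rfl⟩

/-- Setting the first `h` variables to zero. -/
def π (k : Type u) [Field k] (d h : ℕ) : MvPolynomial (Fin d) k →ₐ[k] MvPolynomial {l : Fin d // ¬ (l : ℕ) < h} k :=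
  aeval fun l => if hl : (l : ℕ) < h then 0 else X ⟨l, hl⟩

theorem π_surjective (d h : ℕ) : Function.Surjective (π k d h) := fun p => by
  refine ⟨rename Subtype.val p, ?_⟩
  show ((π k d h).comp (rename Subtype.val)) p = AlgHom.id k _ p
  congr 1
  ext l
  simp [π, l.2]

theorem ker_π (d h : ℕ) : RingHom.ker (π k d h) = L k d h := by
  refine le_antisymm (fun p hp => ?_) (Ideal.span_le.2 ?_)
  · have hsub : ∀ p, p - rename Subtype.val (π k d h p) ∈ L k d h := fun p => by
      induction p using MvPolynomial.induction_on with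
      | C a => simp [π]
      | add p q hp hq => rw [map_add, map_add, add_sub_add_comm]; exact add_mem hp hq
      | mul_X p i hp =>
        by_cases hi : (i : ℕ) < h
        · simpa [π, hi] using Ideal.mul_mem_left _ p (X_mem_L hi)
        · rw [map_mul, map_mul, show rename Subtype.val (π k d h (X i)) = X i by simp [π, hi], ← sub_mul]
          exact Ideal.mul_mem_right _ _ hp
    have := hsub p
    rwa [RingHom.mem_ker.1 hp, map_zero, sub_zero] at this
  · rintro _ ⟨l, hl, rfl⟩
    show π k d h (X l) = 0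
    simp [π, show (l : ℕ) < h from hl]

/-- The quotient by the first `h` variables is a polynomial ring. -/
def quotEquiv (d h : ℕ) : (MvPolynomial (Fin d) k ⧸ L k d h) ≃+* MvPolynomial {l : Fin d // ¬ (l : ℕ) < h} k :=
  (Ideal.quotEquivOfEq (ker_π d h).symm).trans
    (RingHom.quotientKerEquivOfSurjective (f := (π k d h).toRingHom) (π_surjective d h))

theorem isPrime_L (d h : ℕ) : (L k d h).IsPrime := by
  rw [← ker_π]
  exact RingHom.ker_isPrime _

theorem ringKrullDim_quot {d h : ℕ} (hh : h ≤ d) :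
    ringKrullDim (MvPolynomial (Fin d) k ⧸ L k d h) = ((d - h : ℕ) : WithBot ℕ∞) := by
  classical
  rw [ringKrullDim_eq_of_ringEquiv (quotEquiv d h), MvPolynomial.ringKrullDim_of_isNoetherianRing,
    ringKrullDim_eq_zero_of_field, zero_add]
  congr 1
  rw [Nat.card_eq_fintype_card, Fintype.card_subtype_compl, Fintype.card_fin]
  congr 1
  rcases hh.eq_or_lt with rfl | hlt
  · simp
  · exact Fintype.card_fin_lt_of_le hh

theorem L_inj {d a b : ℕ} (ha : a ≤ d) (hb : b ≤ d) (h : L k d a = L k d b) : a = b := by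
  have := ringKrullDim_quot (k := k) ha
  rw [h, ringKrullDim_quot hb] at this
  have : d - b = d - a := by exact_mod_cast this
  omega

/-- A finite endomorphism of a polynomial ring is injective. -/
theorem injective_of_finite {n : ℕ} (φ : MvPolynomial (Fin n) k →ₐ[k] MvPolynomial (Fin n) k)
    (hφ : φ.toRingHom.Finite) : Function.Injective φ := by
  refine (injective_iff_map_eq_zero φ).2 fun x hx => by_contra fun hx0 => ?_
  let I : Ideal (MvPolynomial (Fin n) k) := RingHom.ker φ.toRingHom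
  let g : MvPolynomial (Fin n) k ⧸ I →+* MvPolynomial (Fin n) k := RingHom.kerLift φ.toRingHom
  have hg : g.IsIntegral := RingHom.IsIntegral.tower_top (Ideal.Quotient.mk I) g hφ.to_isIntegral
  letI : Algebra (MvPolynomial (Fin n) k ⧸ I) (MvPolynomial (Fin n) k) := g.toAlgebra
  haveI : Algebra.IsIntegral (MvPolynomial (Fin n) k ⧸ I) (MvPolynomial (Fin n) k) := ⟨hg⟩
  have h1 := EGA41Lib.ringKrullDim_eq_of_integral (A := MvPolynomial (Fin n) k ⧸ I) (B := MvPolynomial (Fin n) k)
    φ.toRingHom.kerLift_injective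
  have h2 : ringKrullDim (MvPolynomial (Fin n) k ⧸ I) ≤ ringKrullDim (MvPolynomial (Fin n) k ⧸ Ideal.span {x}) :=
    ringKrullDim_le_of_surjective (Ideal.Quotient.factor ((Ideal.span_singleton_le_iff_mem I).2 hx))
      (Ideal.Quotient.factor_surjective _)
  have h3 := ringKrullDim_quotient_succ_le_of_nonZeroDivisor (mem_nonZeroDivisors_of_ne_zero hx0)
  have h4 := le_trans (add_le_add_left (h1.le.trans h2) 1) h3
  rw [MvPolynomial.ringKrullDim_of_isNoetherianRing, ringKrullDim_eq_zero_of_field, zero_add] at h4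
  have : Nat.card (Fin n) + 1 ≤ Nat.card (Fin n) := by exact_mod_cast h4
  omega

/-- Normalization of the polynomial ring adapted to a chain of primes. -/
theorem exists_chain_normalization : ∀ (n : ℕ) {ι : Type} [LinearOrder ι] [Finite ι]
    (q : ι → Ideal (MvPolynomial (Fin n) k)), Monotone q → (∀ i, (q i).IsPrime) →
    ∃ (φ : MvPolynomial (Fin n) k →ₐ[k] MvPolynomial (Fin n) k) (h : ι → ℕ), φ.toRingHom.Finite ∧
      Function.Injective φ ∧ ∀ i, h i ≤ n ∧ (q i).comap φ = L k n (h i) := by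
  intro n
  induction n with
  | zero =>
    intro ι _ _ q hq hp
    refine ⟨AlgHom.id k _, fun _ => 0, RingHom.Finite.id _, Function.injective_id, fun i => ⟨le_rfl, ?_⟩⟩
    rw [L_zero, eq_bot_iff]
    intro x hx
    obtain ⟨c, rfl⟩ := MvPolynomial.C_surjective (Fin 0) x
    by_contra hne
    exact (hp i).ne_top (Ideal.eq_top_of_isUnit_mem _ hx
      (IsUnit.map C (isUnit_iff_ne_zero.2 fun h0 => hne (by simp [h0]))))
  | succ n ih =>
    intro ι _ _ q hq hp
    classical
    haveI := Fintype.ofFinite ι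
    by_cases hb : ∀ i, q i = ⊥
    · refine ⟨AlgHom.id k _, fun _ => 0, RingHom.Finite.id _, Function.injective_id, fun i => ⟨Nat.zero_le _, ?_⟩⟩
      rw [L_zero, hb i]
      exact Ideal.comap_bot_of_injective _ Function.injective_id
    push Not at hb
    obtain ⟨i₀, hi₀, hmin⟩ := Finset.exists_min_image (Finset.univ.filter fun i => q i ≠ ⊥) id
      (by obtain ⟨i, hi⟩ := hb; exact ⟨i, by simpa using hi⟩)
    simp only [Finset.mem_filter, Finset.mem_univ, true_and, id_eq] at hi₀ hmin
    obtain ⟨f, hfq, hne⟩ := Submodule.exists_mem_ne_zero_of_ne_bot hi₀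
    obtain ⟨ψ, hψ, hψ0⟩ := Calg46.NNIdeal.exists_finite_mapping_to f hne
      fun hu => (hp i₀).ne_top (Ideal.eq_top_of_isUnit_mem _ hfq hu)
    let σ : MvPolynomial (Fin n) k →ₐ[k] MvPolynomial (Fin (n + 1)) k := rename Fin.succ
    have hp' : ∀ i, ((q i).comap ψ).IsPrime := fun i => haveI := hp i; Ideal.IsPrime.comap _
    obtain ⟨χ, h', hχ, hχinj, hh'⟩ := ih (fun i => ((q i).comap ψ).comap σ)
      (fun a b hab => Ideal.comap_mono (Ideal.comap_mono (hq hab))) (fun i => haveI := hp' i; Ideal.IsPrime.comap _)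
    let Ξ : MvPolynomial (Fin (n + 1)) k →ₐ[k] MvPolynomial (Fin (n + 1)) k :=
      aeval (Fin.cases (X 0) fun i => σ (χ (X i)))
    have hΞσ : ∀ p, Ξ (σ p) = σ (χ p) := by
      intro p
      show (Ξ.comp σ) p = (σ.comp χ) p
      congr 1
      ext i
      simp [Ξ, σ]
    have hΞ0 : Ξ (X 0) = X 0 := by simp [Ξ]
    have hΞfin : Ξ.toRingHom.Finite := Calg46.NNIdeal.finite_of_integral_X Ξ fun j => by
      induction j using Fin.cases with
      | zero => rw [← hΞ0]; exact RingHom.isIntegralElem_map _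
      | succ i =>
        obtain ⟨p, hp, hpi⟩ := hχ.to_isIntegral (X i)
        refine ⟨p.map σ.toRingHom, hp.map _, ?_⟩
        rw [Polynomial.eval₂_map, show Ξ.toRingHom.comp σ.toRingHom = σ.toRingHom.comp χ.toRingHom from RingHom.ext hΞσ,
          show (X i.succ : MvPolynomial (Fin (n + 1)) k) = σ (X i) by simp [σ]]
        show Polynomial.eval₂ _ (σ.toRingHom (X i)) p = 0
        rw [← Polynomial.hom_eval₂, hpi, map_zero]
    have hfin : (ψ.comp Ξ).toRingHom.Finite := RingHom.Finite.comp hψ hΞfin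
    have hinj : Function.Injective (ψ.comp Ξ) := injective_of_finite _ hfin
    refine ⟨ψ.comp Ξ, fun i => if q i = ⊥ then 0 else h' i + 1, hfin, hinj, fun i => ?_⟩
    by_cases hi : q i = ⊥
    · simp only [if_pos hi]
      rw [L_zero, hi]
      exact ⟨Nat.zero_le _, Ideal.comap_bot_of_injective _ hinj⟩
    simp only [if_neg hi]
    refine ⟨Nat.succ_le_succ (hh' i).1, le_antisymm (fun p hp => ?_) (Ideal.span_le.2 ?_)⟩
    · let ρ : MvPolynomial (Fin (n + 1)) k →ₐ[k] MvPolynomial (Fin n) k := aeval (Fin.cases 0 X)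
      have hsub : ∀ p, p - σ (ρ p) ∈ L k (n + 1) 1 := fun p => by
        induction p using MvPolynomial.induction_on with
        | C a => simp [σ, ρ]
        | add p q hp hq => rw [map_add, map_add, add_sub_add_comm]; exact add_mem hp hq
        | mul_X p j hp =>
          induction j using Fin.cases with
          | zero => simpa [ρ] using Ideal.mul_mem_left _ p (X_mem_L (k := k) (l := (0 : Fin (n + 1))) Nat.one_pos)
          | succ j =>
            rw [map_mul, map_mul, show σ (ρ (X j.succ)) = X j.succ by simp [ρ, σ], ← sub_mul]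
            exact Ideal.mul_mem_right _ _ hp
      have hle : L k (n + 1) 1 ≤ (q i).comap (ψ.comp Ξ) := Ideal.span_le.2 (by
        rintro _ ⟨l, hl, rfl⟩
        obtain rfl : l = 0 := Fin.ext (Nat.lt_one_iff.1 hl)
        show ψ (Ξ (X 0)) ∈ q i
        rw [hΞ0, hψ0]
        exact hq (hmin i hi) hfq)
      have h1 : ρ p ∈ (((q i).comap ψ).comap σ).comap χ := by
        show ψ (σ (χ (ρ p))) ∈ q i
        rw [← hΞσ]
        have h2 := hle (hsub p)
        simp only [Ideal.mem_comap, map_sub, AlgHom.comp_apply] at h2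
        exact (Submodule.sub_mem_iff_right _ (show ψ (Ξ p) ∈ q i from hp)).1 h2
      rw [(hh' i).2] at h1
      have h3 : σ (ρ p) ∈ L k (n + 1) (h' i + 1) := by
        have : L k n (h' i) ≤ (L k (n + 1) (h' i + 1)).comap σ := Ideal.span_le.2 (by
          rintro _ ⟨l, hl, rfl⟩
          show σ (X l) ∈ L k (n + 1) (h' i + 1)
          simpa [σ] using X_mem_L (k := k) (l := l.succ) (Nat.succ_lt_succ hl))
        exact this h1
      have h4 := add_mem (L_mono (Nat.succ_le_succ (Nat.zero_le (h' i))) (hsub p)) h3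
      rwa [sub_add_cancel] at h4
    · rintro _ ⟨l, hl, rfl⟩
      show ψ (Ξ (X l)) ∈ q i
      induction l using Fin.cases with
      | zero => rw [hΞ0, hψ0]; exact hq (hmin i hi) hfq
      | succ j =>
        have h1 : X j ∈ (((q i).comap ψ).comap σ).comap χ :=
          (hh' i).2 ▸ X_mem_L (Nat.lt_of_succ_lt_succ hl)
        rw [show (X j.succ : MvPolynomial (Fin (n + 1)) k) = σ (X j) by simp [σ], hΞσ]
        exact h1

/-- Normalization of a domain adapted to a chain of primes. -/
theorem exists_adapted {A : Type u} [CommRing A] [IsDomain A] [Algebra k A] [Algebra.FiniteType k A] {d : ℕ}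
    (hd : ringKrullDim A = (d : WithBot ℕ∞)) {r : ℕ} (q : Fin r → Ideal A) (hq : Monotone q)
    (hp : ∀ i, (q i).IsPrime) (h : Fin r → ℕ) (hh : ∀ i, h i ≤ d)
    (hdim : ∀ i, ringKrullDim (A ⧸ q i) = ((d - h i : ℕ) : WithBot ℕ∞)) :
    ∃ φ : MvPolynomial (Fin d) k →ₐ[k] A, φ.toRingHom.Finite ∧ Function.Injective φ ∧
      ∀ i, (q i).comap φ = L k d (h i) := by
  obtain ⟨s, g, hginj, hgfin⟩ := exists_finite_inj_algHom_of_fg k A
  obtain rfl : s = d := by
    letI : Algebra (MvPolynomial (Fin s) k) A := g.toRingHom.toAlgebra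
    haveI : Algebra.IsIntegral (MvPolynomial (Fin s) k) A := ⟨RingHom.Finite.to_isIntegral hgfin⟩
    rw [EGA41Lib.ringKrullDim_eq_of_integral (A := MvPolynomial (Fin s) k) hginj,
      MvPolynomial.ringKrullDim_of_isNoetherianRing, ringKrullDim_eq_zero_of_field, zero_add,
      Nat.card_eq_fintype_card, Fintype.card_fin] at hd
    exact_mod_cast hd
  obtain ⟨ψ, h', hψfin, hψinj, hψ⟩ := exists_chain_normalization s (fun i => (q i).comap g)
    (fun a b hab => Ideal.comap_mono (hq hab)) (fun i => haveI := hp i; Ideal.IsPrime.comap _)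
  have hfin : (g.comp ψ).toRingHom.Finite := RingHom.Finite.comp hgfin hψfin
  refine ⟨g.comp ψ, hfin, hginj.comp hψinj, fun i => ?_⟩
  letI : Algebra (MvPolynomial (Fin s) k) A := (g.comp ψ).toRingHom.toAlgebra
  haveI : Algebra.IsIntegral (MvPolynomial (Fin s) k) A := ⟨hfin.to_isIntegral⟩
  haveI : (q i).LiesOver (L k s (h' i)) := ⟨(hψ i).2.symm⟩
  have h1 := EGA41Lib.ringKrullDim_eq_of_integral (A := MvPolynomial (Fin s) k ⧸ L k s (h' i)) (B := A ⧸ q i)
    (FaithfulSMul.algebraMap_injective _ _)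
  rw [hdim, ringKrullDim_quot (hψ i).1] at h1
  have h2 : s - h i = s - h' i := by exact_mod_cast h1
  have h3 : h i = h' i := by have := hh i; have := (hψ i).1; omega
  rw [h3]
  exact (hψ i).2

/-- Extending a chain to a complete chain over the chain of coordinate primes. -/
theorem exists_chain_over {A : Type u} [CommRing A] [IsDomain A] [Algebra k A] {d : ℕ}
    (φ : MvPolynomial (Fin d) k →ₐ[k] A) (hfin : φ.toRingHom.Finite) (hinj : Function.Injective φ)
    {r : ℕ} (q : Fin r → PrimeSpectrum A) (hq : StrictMono q) (h : Fin r → ℕ) (hh : ∀ i, h i ≤ d)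
    (hcomap : ∀ i, (q i).asIdeal.comap φ = L k d (h i)) :
    ∃ Q : ℕ → PrimeSpectrum A, (∀ j, j ≤ d → (Q j).asIdeal.comap φ = L k d j) ∧
      (∀ j, j < d → Q j < Q (j + 1)) ∧ ∀ i, Q (h i) = q i := by
  classical
  letI : Algebra (MvPolynomial (Fin d) k) A := φ.toRingHom.toAlgebra
  haveI : Algebra.IsIntegral (MvPolynomial (Fin d) k) A := ⟨hfin.to_isIntegral⟩
  have hle : ∀ a b, h a ≤ h b → a ≤ b := fun a b hab => by
    by_contra hlt
    have h1 := Ideal.IsIntegral.comap_lt_comap (R := MvPolynomial (Fin d) k) (I := (q b).asIdeal)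
      (hq (lt_of_not_ge hlt))
    have h2 : L k d (h b) < L k d (h a) := by rw [← hcomap, ← hcomap]; exact h1
    exact (not_lt_of_ge (L_mono hab)) h2
  have hbase : ∀ j, ∃ (a : ℕ) (P : Ideal A), P.IsPrime ∧ a ≤ d ∧ a ≤ j ∧ P.comap φ = L k d a ∧
      (P = ⊥ ∨ ∃ i, h i ≤ j ∧ P = (q i).asIdeal) ∧ ∀ i, h i ≤ j → (q i).asIdeal ≤ P := fun j => by
    by_cases hne : (Finset.univ.filter fun i => h i ≤ j).Nonempty
    · obtain ⟨i₀, hi₀, hmax⟩ := Finset.exists_max_image _ h hne
      simp only [Finset.mem_filter, Finset.mem_univ, true_and] at hi₀ hmax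
      exact ⟨h i₀, (q i₀).asIdeal, (q i₀).2, hh i₀, hi₀, hcomap i₀, Or.inr ⟨i₀, hi₀, rfl⟩,
        fun i hi => hq.monotone (hle i i₀ (hmax i hi))⟩
    · refine ⟨0, ⊥, Ideal.isPrime_bot, Nat.zero_le _, Nat.zero_le _, ?_, Or.inl rfl,
        fun i hi => absurd ⟨i, by simpa using hi⟩ hne⟩
      rw [L_zero]
      exact Ideal.comap_bot_of_injective _ hinj
  let Good : ℕ → PrimeSpectrum A → Prop := fun j Q =>
    Q.asIdeal.comap φ = L k d j ∧ ∀ i, h i ≤ j → (q i).asIdeal ≤ Q.asIdeal
  have top : ∃ Q, Good d Q := by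
    obtain ⟨a, P, hP, had, -, hPc, -, hPq⟩ := hbase d
    haveI := isPrime_L (k := k) d d
    obtain ⟨Q, hPQ, hQ, hQc⟩ := Ideal.exists_ideal_over_prime_of_isIntegral (R := MvPolynomial (Fin d) k)
      (L k d d) P (le_of_eq_of_le hPc (L_mono had))
    exact ⟨⟨Q, hQ⟩, hQc, fun i hi => (hPq i hi).trans hPQ⟩
  have step : ∀ j (Q : PrimeSpectrum A), Good (j + 1) Q → ∃ Q', Good j Q' ∧ Q' ≤ Q := by
    rintro j Q ⟨hQc, hQq⟩
    obtain ⟨a, P, hP, had, haj, hPc, hPor, hPq⟩ := hbase j
    have hPQ : P ≤ Q.asIdeal := by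
      rcases hPor with rfl | ⟨i, hi, rfl⟩
      · exact bot_le
      · exact hQq i (by omega)
    haveI : P.LiesOver (L k d a) := ⟨hPc.symm⟩
    haveI := isPrime_L (k := k) d a
    haveI := isPrime_L (k := k) d j
    haveI := isPrime_L (k := k) d (j + 1)
    haveI : IsIntegrallyClosed (MvPolynomial (Fin d) k ⧸ L k d a) :=
      IsIntegrallyClosed.of_equiv (quotEquiv d a).symm
    haveI : Algebra.HasGoingDown (MvPolynomial (Fin d) k ⧸ L k d a) (A ⧸ P) := inferInstance
    let mR := Ideal.Quotient.mk (L k d a)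
    let mA := Ideal.Quotient.mk P
    haveI hp1 : ((L k d j).map mR).IsPrime :=
      Ideal.map_isPrime_of_surjective Ideal.Quotient.mk_surjective (by rw [Ideal.mk_ker]; exact L_mono haj)
    haveI hp2 : ((L k d (j + 1)).map mR).IsPrime :=
      Ideal.map_isPrime_of_surjective Ideal.Quotient.mk_surjective
        (by rw [Ideal.mk_ker]; exact L_mono (haj.trans j.le_succ))
    haveI hQ' : (Q.asIdeal.map mA).IsPrime :=
      Ideal.map_isPrime_of_surjective Ideal.Quotient.mk_surjective (by rw [Ideal.mk_ker]; exact hPQ)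
    haveI : (Q.asIdeal.map mA).LiesOver ((L k d (j + 1)).map mR) := by
      refine ⟨(Ideal.comap_injective_of_surjective mR Ideal.Quotient.mk_surjective ?_).symm⟩
      rw [Ideal.under_def, Ideal.comap_comap, Ideal.comap_map_of_surjective' _ Ideal.Quotient.mk_surjective,
        Ideal.mk_ker, sup_eq_left.2 (L_mono (haj.trans j.le_succ))]
      show (Q.asIdeal.map mA).comap (mA.comp (algebraMap _ A)) = _
      rw [← Ideal.comap_comap, Ideal.comap_map_of_surjective' _ Ideal.Quotient.mk_surjective, Ideal.mk_ker,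
        sup_eq_left.2 hPQ]
      exact hQc
    obtain ⟨R', hR'Q, hR', hR'o⟩ := Ideal.exists_ideal_le_liesOver_of_le (p := (L k d j).map mR)
      (q := (L k d (j + 1)).map mR) (Q.asIdeal.map mA) (Ideal.map_mono (L_mono j.le_succ))
    refine ⟨⟨R'.comap mA, Ideal.IsPrime.comap _⟩, ⟨?_, fun i hi => (hPq i hi).trans ?_⟩, ?_⟩
    · show (R'.comap mA).comap φ.toRingHom = _
      rw [Ideal.comap_comap, show mA.comp φ.toRingHom = (algebraMap _ (A ⧸ P)).comp mR from rfl,
        ← Ideal.comap_comap, ← Ideal.under_def, ← hR'o.over,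
        Ideal.comap_map_of_surjective' _ Ideal.Quotient.mk_surjective, Ideal.mk_ker, sup_eq_left.2 (L_mono haj)]
    · exact fun x hx => by
        show mA x ∈ R'
        rw [show mA x = 0 from Ideal.Quotient.eq_zero_iff_mem.2 hx]; exact zero_mem _
    · show R'.comap mA ≤ Q.asIdeal
      refine (Ideal.comap_mono hR'Q).trans_eq ?_
      rw [Ideal.comap_map_of_surjective' _ Ideal.Quotient.mk_surjective, Ideal.mk_ker, sup_eq_left.2 hPQ]
  obtain ⟨Qd, hQd⟩ := top
  choose! f hf hfle using step
  let R : ℕ → PrimeSpectrum A := fun m => Nat.rec Qd (fun m Q => f (d - (m + 1)) Q) m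
  have hR : ∀ m, m ≤ d → Good (d - m) (R m) := by
    intro m
    induction m with
    | zero => exact fun _ => hQd
    | succ m ih =>
      intro hm
      exact hf _ _ (by rw [show d - (m + 1) + 1 = d - m by omega]; exact ih (by omega))
  have hG : ∀ j, j ≤ d → Good j (R (d - j)) := fun j hj => by
    have := hR (d - j) (by omega)
    rwa [show d - (d - j) = j by omega] at this
  refine ⟨fun j => R (d - j), fun j hj => (hG j hj).1, fun j hj => lt_of_le_of_ne ?_ ?_, fun i => ?_⟩
  · show R (d - j) ≤ R (d - (j + 1))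
    rw [show R (d - j) = f (d - (d - (j + 1) + 1)) (R (d - (j + 1))) by rw [show d - j = d - (j + 1) + 1 by omega]]
    refine hfle _ _ ?_
    rw [show d - (d - (j + 1) + 1) + 1 = j + 1 by omega]
    exact hG _ hj
  · intro he
    have := (hG j (le_of_lt hj)).1
    rw [show R (d - j) = R (d - (j + 1)) from he, (hG (j + 1) hj).1] at this
    have := L_inj hj (le_of_lt hj) this
    omega
  · refine le_antisymm ?_ ((hG _ (hh i)).2 i le_rfl) |> fun e => PrimeSpectrum.ext e
    by_contra hne
    have h1 := Ideal.IsIntegral.comap_lt_comap (R := MvPolynomial (Fin d) k) (I := (q i).asIdeal)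
      (J := (R (d - h i)).asIdeal) (lt_of_le_not_ge ((hG _ (hh i)).2 i le_rfl) hne)
    exact h1.ne ((hcomap i).trans (hG _ (hh i)).1.symm)

end Groth.Agent.Growth22.NNChain
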