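import Groth.Agent.Growth22.CurveNef
import Groth.Agent.S17287

/-!
# Nefness of bundles tested on curves
-/

noncomputable section

set_option linter.style.haveILetI false
set_option linter.unusedSectionVars false
set_option maxHeartbeats 1000000
set_option backward.isDefEq.respectTransparency false
set_option backward.isDefEq.respectTransparency.types false

universe u

open CategoryTheory CategoryTheory.Limits AlgebraicGeometry TopologicalSpace
open scoped Groth.Agent.H23.PicMul

namespace Groth.Agent.Growth22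

open Groth.Agent

variable (k : Type u) [Field k]

/-- Invertible quotients on regular curves over `X` have nonnegative degree. -/
abbrev CurveNef (X : Scheme.{u}) [X.Over (Spec (CommRingCat.of k))] (E : X.Modules) : Prop :=
  ∀ (C : Scheme.{u}) [C.Over (Spec (CommRingCat.of k))] [IsProper (C ↘ (Spec (CommRingCat.of k)))] [IsIntegral C],
    topologicalKrullDim C = 1 → (∀ x : C, IsRegularLocalRing (C.presheaf.stalk x)) →
    ∀ (f : C ⟶ X), f ≫ (X ↘ (Spec (CommRingCat.of k))) = C ↘ (Spec (CommRingCat.of k)) →
    ∀ (M : C.Modules), PicF.IsInvertible M →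
    ∀ (q : (Scheme.Modules.pullback f).obj E ⟶ M), Epi q → 0 ≤ Curv2.deg k C M 1

variable {k} {X : Scheme.{u}} [X.Over (Spec (CommRingCat.of k))] {E : X.Modules}

/-- The test extends to arbitrary integral proper curves. -/
theorem CurveNef.deg_nonneg (hE : CurveNef k X E) {T : Scheme.{u}} [T.Over (Spec (CommRingCat.of k))]
    [IsProper (T ↘ Spec (CommRingCat.of k))] [IsIntegral T] (hT : topologicalKrullDim T = 1) (g : T ⟶ X)
    (hg : g ≫ (X ↘ Spec (CommRingCat.of k)) = T ↘ Spec (CommRingCat.of k)) {M : T.Modules}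
    (hM : PicF.IsInvertible M) (q : (Scheme.Modules.pullback g).obj E ⟶ M) [Epi q] :
    0 ≤ Curv2.deg k T M 1 := by
  obtain ⟨D, oD, ν, hD, hDi, hDd, hreg, hν, hdeg⟩ := exists_normal_curve k hT
  haveI := hD
  haveI := hDi
  rw [← hdeg M hM]
  haveI : (Scheme.Modules.pullback ν).PreservesEpimorphisms :=
    Functor.preservesEpimorphisms_of_adjunction (Scheme.Modules.pullbackPushforwardAdjunction ν)
  exact hE D hDd hreg (ν ≫ g) (by rw [Category.assoc, hg, hν]) _ (PicClLib.isInvertible_pullback ν hM)
    (((Scheme.Modules.pullbackComp ν g).app E).inv ≫ (Scheme.Modules.pullback ν).map q) inferInstance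

/-- Nefness descends along surjective proper morphisms. -/
theorem CurveNef.of_surjective {Y : Scheme.{u}} [Y.Over (Spec (CommRingCat.of k))]
    [IsProper (X ↘ Spec (CommRingCat.of k))] [IsProper (Y ↘ Spec (CommRingCat.of k))] (f : Y ⟶ X)
    (hf : f ≫ (X ↘ Spec (CommRingCat.of k)) = Y ↘ Spec (CommRingCat.of k)) [Surjective f]
    (hE : CurveNef k Y ((Scheme.Modules.pullback f).obj E)) : CurveNef k X E := by
  intro C _ _ _ hC _ g hg M hM q hq
  haveI : IsProper f := by
    haveI : IsProper (f ≫ (X ↘ Spec (CommRingCat.of k))) := by rw [hf]; infer_instance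
    exact IsProper.of_comp f (X ↘ Spec (CommRingCat.of k))
  let P := pullback f g
  let s : P ⟶ C := pullback.snd f g
  haveI : IsProper s := MorphismProperty.pullback_snd _ _ inferInstance
  haveI : Surjective s := MorphismProperty.pullback_snd _ _ inferInstance
  letI : P.Over (Spec (CommRingCat.of k)) := ⟨s ≫ (C ↘ Spec (CommRingCat.of k))⟩
  haveI : IsProper (P ↘ Spec (CommRingCat.of k)) :=
    show IsProper (s ≫ (C ↘ Spec (CommRingCat.of k))) from inferInstance
  haveI : IsIntegral (⊥ : C.IdealSheafData).subscheme := IsIntegral.of_isIso (inv (⊥ : C.IdealSheafData).subschemeι)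
  obtain ⟨C', hC', hdim', himg⟩ := S17287.result k C P s rfl ⊥ (by
    rw [Scheme.IdealSheafData.support_bot, TopologicalSpace.Closeds.coe_top]
    exact ((Homeomorph.Set.univ ↥C).isHomeomorph.topologicalKrullDim_eq).trans hC)
  letI := subOver k C'
  haveI := hC'
  haveI := isProper_sub (k := k) C'
  let t : C'.subscheme ⟶ C := C'.subschemeι ≫ s
  haveI : Surjective t := ⟨fun c => by
    obtain ⟨y, hy, hyc⟩ := himg.ge (show c ∈ ((⊥ : C.IdealSheafData).support : Set C) by
      rw [Scheme.IdealSheafData.support_bot]; trivial)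
    obtain ⟨z, hz⟩ := (Scheme.IdealSheafData.range_subschemeι C').ge hy
    exact ⟨z, by rw [← hyc, ← hz]; rfl⟩⟩
  obtain ⟨d, hd, hdeg⟩ := exists_deg_pullback_eq ((dim_sub C').trans hdim') hC t
    (show (C'.subschemeι ≫ s) ≫ (C ↘ Spec (CommRingCat.of k)) = C'.subscheme ↘ Spec (CommRingCat.of k) by
      rw [Category.assoc]; rfl)
  let g' : C'.subscheme ⟶ Y := C'.subschemeι ≫ pullback.fst f g
  have hg' : g' ≫ f = t ≫ g := by simp only [g', t, s, Category.assoc, pullback.condition]
  haveI : (Scheme.Modules.pullback t).PreservesEpimorphisms :=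
    Functor.preservesEpimorphisms_of_adjunction (Scheme.Modules.pullbackPushforwardAdjunction t)
  haveI := hq
  have h := hE.deg_nonneg ((dim_sub C').trans hdim') g'
    (show g' ≫ _ = C'.subschemeι ≫ s ≫ (C ↘ Spec (CommRingCat.of k)) by
      rw [← hf, reassoc_of% hg', hg]; simp [t])
    (PicClLib.isInvertible_pullback t hM)
    (((Scheme.Modules.pullbackComp g' f).app E).hom ≫ ((Scheme.Modules.pullbackCongr hg').app E).hom ≫
      ((Scheme.Modules.pullbackComp t g).app E).inv ≫ (Scheme.Modules.pullback t).map q)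
  rw [hdeg M hM] at h
  exact nonneg_of_mul_nonneg_right h (by exact_mod_cast hd)

end Groth.Agent.Growth22
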