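import Groth.Agent.Growth22.Sect
import Groth.Agent.Pic13Lib.NumAmple
import Groth.Agent.Pic13Lib.ChowNum
import Groth.Agent.ProjUPX.Iso

/-!
# Uniform vanishing for numerically trivial twists of a power of an ample module
-/

noncomputable section

set_option linter.style.haveILetI false
set_option linter.unusedSectionVars false
set_option maxHeartbeats 1000000
set_option backward.isDefEq.respectTransparency false
set_option backward.isDefEq.respectTransparency.types false

universe u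

open CategoryTheory CategoryTheory.Limits AlgebraicGeometry TopologicalSpace Opposite Filter
open scoped Groth.Agent.H23.PicMul

attribute [local instance] HasDerivedCategory.standard

namespace Groth.Agent.Growth22

open Groth.Agent

variable (k : Type u) [Field k] {X : Scheme.{u}} [X.Over (Spec (CommRingCat.of k))]
  [IsProper (X ↘ Spec (CommRingCat.of k))]

/-- A power of an ample module is `O(1)` for a closed embedding into a projective space. -/
theorem exists_embedding_pow {L : X.Modules} (hL : CohB1.IsAmple L) :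
    ∃ a : ℕ, 0 < a ∧ ∃ (n : ℕ) (j : X ⟶ CohB1.ProjSpace n k), IsClosedImmersion j ∧
      j ≫ CohB1.ProjSpace.toSpec n k = X ↘ Spec (CommRingCat.of k) ∧
      PicF.cl (Pic13Lib.hyp j 1) = PicF.cl L ^ a := by
  obtain ⟨a, ha, n, i, hi, hiq, ⟨e⟩⟩ := Ega2Va.exists_pow_veryAmple (X ↘ Spec (CommRingCat.of k)) hL
  let p₁ := pullback.fst (CohB1.ProjSpace.toSpec n (ULift.{u} ℤ)) (specULiftZIsTerminal.from (Spec (CommRingCat.of k)))
  let ψ : X ⟶ Proj (CohB1.polyGrading n (ULift.{u} ℤ)) := i ≫ p₁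
  refine ⟨a, ha, n, PnCoh.Chow.relMap ψ (X ↘ Spec (CommRingCat.of k)), ?_, PnCoh.Chow.relMap_toSpec ψ _, ?_⟩
  · refine Pic13Lib.isClosedImmersion_relMap_of_joint ψ (X ↘ Spec (CommRingCat.of k)) ?_
      ((Int.castRingHom k).comp (ULift.ringEquiv : ULift.{u} ℤ ≃+* ℤ).toRingHom) (specULiftZIsTerminal.hom_ext _ _)
    intro T a b h1 h2
    haveI := hi
    refine (cancel_mono i).1 (pullback.hom_ext ?_ ?_)
    · simpa only [Category.assoc] using h1
    · rw [Category.assoc, Category.assoc, hiq]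
      exact h2
  · rw [← H23.PicMul.cl_tensorPow]
    exact H23.PicMul.cl_eq_iff.2 ⟨(PnCoh.Chow.relData ψ (X ↘ Spec (CommRingCat.of k))).iso ≪≫
      ((Scheme.Modules.pullbackComp i p₁).app _).symm ≪≫ e.symm⟩

variable {k}

theorem cl_hyp_natCast {n : ℕ} (j : X ⟶ CohB1.ProjSpace n k) {a : ℕ} {L : X.Modules}
    (hj : PicF.cl (Pic13Lib.hyp j 1) = PicF.cl L ^ a) (d : ℕ) :
    PicF.cl (Pic13Lib.hyp j (d : ℤ)) = PicF.cl L ^ (a * d) := by
  induction d with
  | zero => rw [Nat.cast_zero, Pic13Lib.cl_hyp_zero, Nat.mul_zero, pow_zero]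
  | succ d ih => rw [Nat.cast_succ, ← Pic13Lib.cl_hyp_add, ih, hj, ← pow_add, Nat.mul_succ]

/-- High powers of an ample module have no higher cohomology after numerically trivial twists. -/
theorem exists_uniform_vanishing {L : X.Modules} (hL : CohB1.IsAmple L) :
    ∃ m₀ : ℕ, ∀ m : ℕ, m₀ ≤ m → ∀ N : X.Modules, Pic13Lib.NumTriv k N →
      ∀ q : ℕ, 1 ≤ q → Subsingleton (Coh.HH X (CohB1.tensorMod (CohB1.tensorPow L m) N) q) := by
  obtain ⟨a, ha, n, j, hj, hjk, hcl⟩ := exists_embedding_pow k hL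
  haveI := hj
  haveI := Pic13Lib.isNoetherian j
  have hgood : ∀ r : Fin a, ∃ m₀ : ℤ, ∀ N : X.Modules, Pic13Lib.NumTriv k N →
      Pic13Lib.Vanish j (CohB1.tensorMod (CohB1.tensorPow L r) N) m₀ := fun r =>
    (Pic13Lib.good_of_isCoh j hjk (AmpleVan.isCoh_invertible (InvX.isInvertible_tensorPow hL.1 r))).van
  choose m₁ hm₁ using hgood
  refine ⟨a * (Finset.univ.sup fun r => (m₁ r).toNat) + a, fun m hm N hN q hq => ?_⟩
  have hr : m % a < a := Nat.mod_lt _ ha
  have hd : (m₁ ⟨m % a, hr⟩).toNat ≤ m / a := by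
    refine le_trans (Finset.le_sup (f := fun r => (m₁ r).toNat) (Finset.mem_univ (⟨m % a, hr⟩ : Fin a))) ?_
    exact (Nat.le_div_iff_mul_le ha).2 (by rw [mul_comm]; omega)
  refine QCoh.subsingleton_HH_of_iso (H23.PicMul.cl_eq_iff.1 ?_).some q
    (hm₁ ⟨m % a, hr⟩ N hN q hq ((m / a : ℕ) : ℤ) (by omega))
  rw [Pic13Lib.cl_twistOn, cl_hyp_natCast j hcl, H23.PicMul.cl_tensor, H23.PicMul.cl_tensor,
    H23.PicMul.cl_tensorPow, H23.PicMul.cl_tensorPow, mul_right_comm, ← pow_add, Nat.mod_add_div]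

/-- `h⁰` of high powers of an ample module is unchanged by numerically trivial twists. -/
theorem exists_h_zero_tensor_eq {L : X.Modules} (hL : CohB1.IsAmple L) :
    ∃ m₀ : ℕ, ∀ m : ℕ, m₀ ≤ m → ∀ N : X.Modules, Pic13Lib.NumTriv k N →
      h k (CohB1.tensorMod (CohB1.tensorPow L m) N) 0 = h k (CohB1.tensorPow L m) 0 := by
  haveI := CurveCohLib.isNoetherian_of_proper (k := k) (X := X)
  obtain ⟨m₀, hv⟩ := exists_uniform_vanishing (k := k) hL
  refine ⟨m₀, fun m hm N hN => ?_⟩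
  have hLm := InvX.isInvertible_tensorPow hL.1 m
  obtain ⟨u⟩ : Nonempty (CohB1.tensorMod (CohB1.tensorPow L m) (Coh.structureModule X) ≅ CohB1.tensorPow L m) :=
    H23.PicMul.cl_eq_iff.1 (by rw [H23.PicMul.cl_tensor, ← H23.PicMul.one_def, mul_one])
  have hz := Pic13Lib.dEuler_eq_zero hN (AmpleVan.isCoh_invertible hLm)
  rw [Pic13Lib.dEuler, sub_eq_zero,
    Euler.euler_eq_sum k _ 1 fun i hi => hv m hm N hN i hi,
    Euler.euler_eq_sum k _ 1 fun i hi =>
      QCoh.subsingleton_HH_of_iso u i (hv m hm _ Pic13Lib.numTriv_structure i hi)] at hz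
  simpa [h] using hz

/-- Eventually, sections exist after every numerically trivial twist. -/
theorem exists_h_zero_pos [Nonempty X] {L : X.Modules} (hL : CohB1.IsAmple L) {d : ℕ} (hd : topologicalKrullDim X = d) :
    ∃ m₀ : ℕ, ∀ m : ℕ, m₀ ≤ m → ∀ N : X.Modules, Pic13Lib.NumTriv k N →
      h k (CohB1.tensorMod (CohB1.tensorPow L m) N) 0 = h k (CohB1.tensorPow L m) 0 ∧
        0 < h k (CohB1.tensorPow L m) 0 := by
  obtain ⟨m₀, hm₀⟩ := exists_h_zero_tensor_eq (k := k) hL
  obtain ⟨c, hc, hlow⟩ := exists_ample_lower k hL hd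
  obtain ⟨m₁, hm₁⟩ := eventually_atTop.1 hlow
  refine ⟨max m₀ (max m₁ 1), fun m hm N hN => ⟨hm₀ m (by omega) N hN, ?_⟩⟩
  have h1 := hm₁ m (by omega)
  have h2 : (0 : ℝ) < c * (m : ℝ) ^ d :=
    mul_pos hc (pow_pos (by exact_mod_cast (show 0 < m by omega)) d)
  exact_mod_cast h2.trans_le h1

end Groth.Agent.Growth22
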