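import Groth.Agent.Growth22.PushRank

/-!
# Asymptotic cohomology of pullbacks
-/

noncomputable section

set_option linter.style.haveILetI false
set_option linter.unusedSectionVars false
set_option maxHeartbeats 1000000
set_option backward.isDefEq.respectTransparency false
set_option backward.isDefEq.respectTransparency.types false

universe u

open CategoryTheory CategoryTheory.Limits AlgebraicGeometry TopologicalSpace Opposite Filter Topology
open scoped Groth.Agent.H23.PicMul

namespace Groth.Agent.Growth22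

open Groth.Agent

variable (k : Type u) [Field k] {X Y : Scheme.{u}} [X.Over (Spec (CommRingCat.of k))]
  [Y.Over (Spec (CommRingCat.of k))] [IsProper (X ↘ Spec (CommRingCat.of k))]
  [IsProper (Y ↘ Spec (CommRingCat.of k))] (f : Y ⟶ X) [IsIntegral Y]

/-- The rank of an invertible module. -/
theorem finrank_generic_invertible {G : Y.Modules} (hG : PicF.IsInvertible G) :
    Module.finrank (Y.presheaf.stalk (genericPoint Y)) (G.presheaf.stalk (genericPoint Y)) = 1 := by
  let ξ := genericPoint Y
  letI : Field (Y.presheaf.stalk ξ) := inferInstanceAs (Field Y.functionField)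
  obtain ⟨U, hU, e, he⟩ := InvX.exists_frame hG ξ
  let l : Y.presheaf.stalk ξ ≃ₗ[Y.presheaf.stalk ξ] G.presheaf.stalk ξ :=
    LinearEquiv.ofBijective (LinearMap.toSpanSingleton (Y.presheaf.stalk ξ) (G.presheaf.stalk ξ)
      (G.presheaf.germ U ξ hU e)) (he.germ_bijective hU)
  rw [← l.finrank_eq]
  exact Module.finrank_self _

omit [IsIntegral Y] in
/-- In degree zero no acyclicity is needed. -/
theorem h_pullback_twist_zero (hf : f ≫ (X ↘ Spec (CommRingCat.of k)) = Y ↘ Spec (CommRingCat.of k))
    (G : Y.Modules) {L : X.Modules} (hL : PicF.IsInvertible L) (m : ℕ) :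
    seq k G ((Scheme.Modules.pullback f).obj L) 0 m = seq k ((Coh.push f).obj G) L 0 m := by
  haveI : IsProper f := isProper_of_over k f hf
  have hP := InvX.isInvertible_tensorPow hL m
  have e1 : seq k G ((Scheme.Modules.pullback f).obj L) 0 m =
      h k (CohB1.tensorMod ((Scheme.Modules.pullback f).obj (CohB1.tensorPow L m)) G) 0 := by
    refine h_congr k (H23.PicMul.cl_eq_iff.1 ?_).some 0
    have hc : ∀ M, PicF.cl ((Scheme.Modules.pullback f).obj M) = PicF.pullCl f (PicF.cl M) := fun M => rfl
    simp only [H23.PicMul.cl_tensor, H23.PicMul.cl_tensorPow, hc, H23.PicMul.pullCl_pow]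
    rw [mul_comm]
  obtain ⟨l⟩ := PnCoh.nonempty_linearEquiv_of_natPushEquiv k f hf
    (CohB1.tensorMod ((Scheme.Modules.pullback f).obj (CohB1.tensorPow L m)) G) 0
    ⟨PnCoh.pushH0 f.base _, fun φ x => PnCoh.pushH0_natural f.base φ x⟩
  rw [e1, h, l.finrank_eq]
  haveI := KFlatLib.hasInjectiveResolutions_modules (X := Y)
  haveI := SpObjSS.enoughInjectives_of_hasInjectiveResolutions (C := Y.Modules)
  haveI := QCoh.preservesFiniteLimits_push f
  obtain ⟨e⟩ := KFlatLib.nonempty_rpush_tensor_finLocFree f G (CohB1.tensorPow L m)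
    (fun x => let ⟨U, hx, e⟩ := InvEnd.isFinLocFreeOfRank_one hP x; ⟨U, 1, hx, e⟩) 0
  obtain ⟨e'⟩ := H23.PicMul.comm (CohB1.tensorPow L m) ((Coh.push f).obj G)
  let z := (Scheme.Modules.pushforward f).rightDerivedZeroIsoSelf
  let T : X.Modules ⥤ X.Modules := DCoh.tensorBi.obj (CohB1.tensorPow L m)
  exact (h_congr k ((z.app _).symm ≪≫ e.symm ≪≫ T.mapIso (z.app G) ≪≫ e') 0)

/-- The sequence of a pullback is, up to terms below the top degree, that of a coherent module. -/
theorem exists_push_near (hf : f ≫ (X ↘ Spec (CommRingCat.of k)) = Y ↘ Spec (CommRingCat.of k))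
    {B : Y.Modules} (hB : CohB1.IsAmple B) {n : ℕ} (hn : topologicalKrullDim Y ≤ n)
    {L : X.Modules} (hL : PicF.IsInvertible L) :
    ∃ G : Y.Modules, PicF.IsInvertible G ∧ Coh.IsCoh ((Coh.push f).obj G) ∧ ∀ i, ∃ e, SmN n e ∧ ∀ m,
      seq k (Coh.structureModule Y) ((Scheme.Modules.pullback f).obj L) i m ≤ seq k ((Coh.push f).obj G) L i m + e m ∧
      seq k ((Coh.push f).obj G) L i m ≤ seq k (Coh.structureModule Y) ((Scheme.Modules.pullback f).obj L) i m + e m := by
  haveI := CurveCohLib.isNoetherian_of_proper (k := k) (X := X)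
  haveI := CurveCohLib.isNoetherian_of_proper (k := k) (X := Y)
  haveI : IsProper f := isProper_of_over k f hf
  obtain ⟨j, hj⟩ := exists_acyclic_pow f k hf hB
  have hG := InvX.isInvertible_tensorPow hB.1 j
  have hGc := AmpleVan.isCoh_invertible hG
  refine ⟨_, hG, ExistEasy.isCoh_pushforward_proper f hGc, fun i => ?_⟩
  obtain ⟨e, he, h⟩ := seq_rank_near k hn (PicClLib.isInvertible_pullback f hL) hGc
    (finrank_generic_invertible hG) i
  refine ⟨e, he, fun m => ?_⟩
  have h2 := h m
  rw [h_pullback_twist k f hf hGc.1 (hj j le_rfl) hL i m, one_mul] at h2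
  exact h2.symm

/-- Generically finite pullbacks multiply the sequences by the degree. -/
theorem seq_pullback_near [IsIntegral X] (hf : f ≫ (X ↘ Spec (CommRingCat.of k)) = Y ↘ Spec (CommRingCat.of k))
    {B : Y.Modules} (hB : CohB1.IsAmple B) {n : ℕ} (hn : topologicalKrullDim X = n)
    (hdom : f.base (genericPoint Y) = genericPoint X) {d : ℕ} (hd : f.residueDegree (genericPoint Y) = d)
    (hd0 : 0 < d) {L : X.Modules} (hL : PicF.IsInvertible L) (i : ℕ) :
    topologicalKrullDim Y = n ∧ ∃ e, SmN n e ∧ ∀ m,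
      seq k (Coh.structureModule Y) ((Scheme.Modules.pullback f).obj L) i m ≤
          d * seq k (Coh.structureModule X) L i m + e m ∧
      d * seq k (Coh.structureModule X) L i m ≤
          seq k (Coh.structureModule Y) ((Scheme.Modules.pullback f).obj L) i m + e m := by
  haveI : IsProper f := isProper_of_over k f hf
  obtain ⟨hdimY, huniq⟩ := dim_and_fibre_of_genFinite k f hf hdom (hd ▸ hd0)
  rw [hn] at hdimY
  refine ⟨hdimY, ?_⟩
  obtain ⟨G, hG, hP, hnear⟩ := exists_push_near k f hf hB hdimY.le hL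
  obtain ⟨e₁, h₁, g₁⟩ := hnear i
  obtain ⟨e₂, h₂, g₂⟩ := seq_rank_near k hn.le hL hP ((finrank_generic_push f hdom huniq hG).trans hd) i
  refine ⟨_, h₁.add h₂, fun m => ?_⟩
  have p1 := g₁ m
  have p2 := g₂ m
  simp only [Pi.add_apply]
  omega

end Groth.Agent.Growth22
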