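import Groth.Agent.Growth22.NumEmb
import Groth.Agent.Growth22.Lip
import Groth.Agent.Growth22.PullAsymp

/-!
# The volume and bigness are numerical
-/

noncomputable section

set_option linter.style.haveILetI false
set_option linter.unusedSectionVars false
set_option maxHeartbeats 1000000
set_option backward.isDefEq.respectTransparency false
set_option backward.isDefEq.respectTransparency.types false

universe u

open CategoryTheory CategoryTheory.Limits AlgebraicGeometry TopologicalSpace Opposite Filter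
open scoped Groth.Agent.H23.PicMul

namespace Groth.Agent.Growth22

open Groth.Agent

variable (k : Type u) [Field k] {X : Scheme.{u}} [X.Over (Spec (CommRingCat.of k))]
  [IsProper (X ↘ Spec (CommRingCat.of k))]

theorem limsup_nrm_le_of_le_add {K : ℝ} (hK : 0 ≤ K) {n : ℕ} {u v e : ℕ → ℕ} (hu : SmN (n + 1) u)
    (hv : SmN (n + 1) v) (he : SmN n e) (h : ∀ m, u m ≤ v m + e m) :
    limsup (nrm K n u) atTop ≤ limsup (nrm K n v) atTop := by
  obtain ⟨C, hC⟩ := nrm_abs_le (K := K) hu
  have hve : SmN (n + 1) (v + e) := hv.add (he.of_le n.le_succ)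
  obtain ⟨C', hC'⟩ := nrm_abs_le (K := K) hve
  refine (limsup_le_limsup (Eventually.of_forall fun m => ?_) (bdd_of_abs hC).2.isCoboundedUnder_le
    (bdd_of_abs hC').1).trans_eq (limsup_nrm_congr (u := v + e) hv he fun m => by simp [Pi.add_apply]; omega)
  rw [nrm, nrm]
  gcongr
  exact_mod_cast h m

theorem mono_section_ne_zero [IsIntegral X] {N : X.Modules} {t : Coh.structureModule X ⟶ N} (ht : Mono t) : t ≠ 0 := by
  intro h0
  subst h0
  have h1 : (𝟙 (Coh.structureModule X) : _ ⟶ _) = 0 :=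
    (cancel_mono (0 : Coh.structureModule X ⟶ N)).1 (by simp)
  exact one_ne_zero (α := Γ(X, ⊤))
    (congrArg (fun φ : Coh.structureModule X ⟶ Coh.structureModule X => φ.app ⊤ (1 : Γ(X, ⊤))) h1)

/-- The upper growth of sections is unchanged by a numerically trivial twist: one inequality. -/
theorem limsup_numTriv_le [IsIntegral X] (hproj : ∃ A : X.Modules, CohB1.IsAmple A)
    {d : ℕ} (hd : topologicalKrullDim X = d) {L N N' : X.Modules} (hL : PicF.IsInvertible L)
    (hN : PicF.IsInvertible N) (hN' : Pic13Lib.NumTriv k N') (hinv : PicF.cl N * PicF.cl N' = 1)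
    {M : X.Modules} (hM : PicF.IsInvertible M) (hcl : PicF.cl M = PicF.cl L * PicF.cl N) :
    limsup (nrm 1 d (seq k (Coh.structureModule X) M 0)) atTop ≤
      limsup (nrm 1 d (seq k (Coh.structureModule X) L 0)) atTop := by
  haveI := CurveCohLib.isNoetherian_of_proper (k := k) (X := X)
  obtain ⟨A, hA⟩ := hproj
  obtain ⟨b, hb⟩ := exists_h_zero_pos (k := k) hA hd
  have hAb := InvX.isInvertible_tensorPow hA.1 b
  obtain ⟨e, he, hnear⟩ := seq_rank_near k hd.le hL (AmpleVan.isCoh_invertible hAb)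
    (finrank_generic_invertible hAb) 0
  have hO := QCoh.isCoh_structureModule' (X := X)
  refine limsup_nrm_le_of_le_add zero_le_one (seq_growth k hM hO (small_top hd.le _) 0)
    (seq_growth k hL hO (small_top hd.le _) 0) he fun m => ?_
  have h1 := (hnear m).1
  rw [one_mul] at h1
  refine le_trans ?_ h1
  obtain ⟨hb1, hb2⟩ := hb b le_rfl _ (hN'.tensorPow m)
  obtain ⟨s, hs⟩ := exists_hom_of_pos k (hb1.symm ▸ hb2 : 0 < h k (CohB1.tensorMod (CohB1.tensorPow A b) (CohB1.tensorPow N' m)) 0)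
  rw [seq_structure, seq]
  refine h_zero_le_tensor k (H23.PicMul.isInvertible_tensor hAb (InvX.isInvertible_tensorPow hN'.1 m)) hs
    (InvX.isInvertible_tensorPow hM m) ?_
  simp only [H23.PicMul.cl_tensor, H23.PicMul.cl_tensorPow, hcl, mul_pow]
  calc PicF.cl A ^ b * PicF.cl L ^ m
      = PicF.cl A ^ b * (PicF.cl N * PicF.cl N') ^ m * PicF.cl L ^ m := by rw [hinv, one_pow, mul_one]
    _ = _ := by rw [mul_pow]; ac_rfl

/-- The upper growth of sections is a numerical invariant. -/
theorem limsup_numTriv_eq [IsIntegral X] (hproj : ∃ A : X.Modules, CohB1.IsAmple A)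
    {d : ℕ} (hd : topologicalKrullDim X = d) {L N : X.Modules} (hL : PicF.IsInvertible L)
    (hN : Pic13Lib.NumTriv k N) :
    limsup (nrm 1 d (seq k (Coh.structureModule X) (CohB1.tensorMod L N) 0)) atTop =
      limsup (nrm 1 d (seq k (Coh.structureModule X) L 0)) atTop := by
  obtain ⟨N', hN', hinv⟩ := H23.PicInv.exists_inverse hN.1
  have hinv' : PicF.cl N * PicF.cl N' = 1 := by
    rw [← H23.PicMul.cl_tensor, H23.PicMul.one_def]; exact H23.PicMul.cl_eq_iff.2 hinv
  have hN'' : Pic13Lib.NumTriv k N' := hN.of_inverse hinv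
  have hLN := H23.PicMul.isInvertible_tensor hL hN.1
  refine le_antisymm (limsup_numTriv_le k hproj hd hL hN.1 hN'' hinv' hLN (H23.PicMul.cl_tensor _ _)) ?_
  refine limsup_numTriv_le k hproj hd hLN hN' hN (by rw [mul_comm]; exact hinv') hL ?_
  rw [H23.PicMul.cl_tensor, mul_assoc, hinv', mul_one]

/-- Some power of a big module has sections after every numerically trivial twist. -/
theorem exists_pow_pos_of_big [IsIntegral X] (hproj : ∃ A : X.Modules, CohB1.IsAmple A)
    {d : ℕ} (hd : topologicalKrullDim X = d) {L : X.Modules} (hL : PicF.IsInvertible L)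
    (hbig : 0 < limsup (nrm 1 d (seq k (Coh.structureModule X) L 0)) atTop) :
    ∃ a : ℕ, 0 < a ∧ ∀ j : ℕ, 0 < j → ∀ N : X.Modules, Pic13Lib.NumTriv k N →
      0 < h k (CohB1.tensorMod (CohB1.tensorPow L (a * j)) N) 0 := by
  haveI := CurveCohLib.isNoetherian_of_proper (k := k) (X := X)
  obtain ⟨A, hA⟩ := hproj
  obtain ⟨b, hb⟩ := exists_h_zero_pos (k := k) hA hd
  have hAb := InvX.isInvertible_tensorPow hA.1 b
  obtain ⟨A', hA', hAA⟩ := H23.PicInv.exists_inverse hAb
  obtain ⟨a, ha, hpos⟩ := exists_hom_of_limsup_pos k hL hd hA' hbig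
  obtain ⟨s, hs⟩ := exists_hom_of_pos k hpos
  let E := CohB1.tensorMod A' (CohB1.tensorPow L a)
  have hE : PicF.IsInvertible E := H23.PicMul.isInvertible_tensor hA' (InvX.isInvertible_tensorPow hL a)
  refine ⟨a, ha, fun j hj N hN => ?_⟩
  obtain ⟨t, ht⟩ := tensorPow_section_ne_zero hE hs j
  have ht0 : t ≠ 0 := mono_section_ne_zero ht
  obtain ⟨hb1, hb2⟩ := hb (b * j) (Nat.le_mul_of_pos_right b hj) N hN
  refine (hb1.symm ▸ hb2 : 0 < h k (CohB1.tensorMod (CohB1.tensorPow A (b * j)) N) 0).trans_le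
    (h_zero_le_tensor k (InvX.isInvertible_tensorPow hE j) ht0
      (H23.PicMul.isInvertible_tensor (InvX.isInvertible_tensorPow hA.1 _) hN.1) ?_)
  have hAA' : PicF.cl A' * PicF.cl A ^ b = 1 := by
    rw [mul_comm, ← H23.PicMul.cl_tensorPow, ← H23.PicMul.cl_tensor, H23.PicMul.one_def]
    exact H23.PicMul.cl_eq_iff.2 hAA
  simp only [E, H23.PicMul.cl_tensor, H23.PicMul.cl_tensorPow, pow_mul, mul_pow]
  calc (PicF.cl L ^ a) ^ j * PicF.cl N
      = (PicF.cl A' * PicF.cl A ^ b) ^ j * ((PicF.cl L ^ a) ^ j * PicF.cl N) := by rw [hAA', one_pow, one_mul]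
    _ = _ := by rw [mul_pow]; ac_rfl

end Groth.Agent.Growth22
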