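import Groth.Agent.PBC50.PolyProj
import Groth.Agent.Proj16.Map
import Mathlib.AlgebraicGeometry.Limits

/-! Linear embeddings of projective spaces and disjoint unions. -/

noncomputable section

set_option autoImplicit false
set_option linter.style.haveILetI false
set_option backward.isDefEq.respectTransparency false
set_option backward.isDefEq.respectTransparency.types false

universe u

open CategoryTheory CategoryTheory.Limits AlgebraicGeometry HomogeneousLocalization MvPolynomial

namespace Groth.Agent.Growth22.PnSum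

variable (k : Type u) [CommRing k] {N n : ℕ} (s : Fin (N + 1) → Option (Fin (n + 1)))

/-- The values of the coordinates. -/
def val (i : Fin (N + 1)) : MvPolynomial (Fin (n + 1)) k := (s i).elim 0 X

theorem val_homog (i : Fin (N + 1)) : (val k s i).IsHomogeneous 1 := by
  rcases h : s i with _ | j
  · simp [val, h, isHomogeneous_zero]
  · simp [val, h, isHomogeneous_X]

/-- A coordinate projection, as a graded ring homomorphism. -/
def selHom : CohB1.polyGrading N k →+*ᵍ CohB1.polyGrading n k where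
  __ := (aeval (R := k) (val k s)).toRingHom
  map_mem {i x} hx := by
    refine (mem_homogeneousSubmodule _ _).2 ?_
    have h := ((mem_homogeneousSubmodule _ _).1 hx).aeval (g := val k s) (n := 1) (val_homog k s)
    rw [one_mul] at h
    exact h

theorem selHom_apply (x : MvPolynomial (Fin (N + 1)) k) : selHom k s x = aeval (val k s) x := rfl

variable {s}

theorem selHom_X {i : Fin (N + 1)} {j : Fin (n + 1)} (h : s i = some j) : selHom k s (X i) = X j := by
  simp [selHom_apply, val, h]

theorem selHom_X_none {i : Fin (N + 1)} (h : s i = none) : selHom k s (X i) = 0 := by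
  simp [selHom_apply, val, h]

variable (hs : ∀ j, ∃ i, s i = some j)
include hs

theorem selHom_surjective : Function.Surjective (selHom k s) := by
  intro p
  induction p using MvPolynomial.induction_on with
  | C a => exact ⟨C a, by simp [selHom_apply]⟩
  | add p q hp hq =>
    obtain ⟨a, rfl⟩ := hp; obtain ⟨b, rfl⟩ := hq
    exact ⟨a + b, map_add _ _ _⟩
  | mul_X p j hp =>
    obtain ⟨a, rfl⟩ := hp; obtain ⟨i, hi⟩ := hs j
    exact ⟨a * X i, by rw [map_mul, selHom_X k hi]⟩

theorem irrelevant_le :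
    HomogeneousIdeal.irrelevant (CohB1.polyGrading n k) ≤
      (HomogeneousIdeal.irrelevant (CohB1.polyGrading N k)).map (selHom k s) := by
  intro x hx
  refine (Ideal.span_le.2 ?_) (PBC50.mem_span_X_of_mem_irrelevant n hx)
  rintro _ ⟨j, rfl⟩
  obtain ⟨i, hi⟩ := hs j
  have h := Ideal.mem_map_of_mem (selHom k s) (PBC50.X_mem_irrelevant (R := k) N i)
  rwa [selHom_X k hi] at h

/-- The linear embedding. -/
def emb : CohB1.ProjSpace n k ⟶ CohB1.ProjSpace N k :=
  Proj.map (selHom k s) (irrelevant_le k hs)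

theorem isClosedImmersion_emb : IsClosedImmersion (emb k hs) :=
  Proj16.isClosedImmersion_map _ _ (selHom_surjective k hs)

theorem emb_toSpec : emb k hs ≫ CohB1.ProjSpace.toSpec N k = CohB1.ProjSpace.toSpec n k := by
  refine (Proj.mapAffineOpenCover (selHom k s) (irrelevant_le k hs)).openCover.hom_ext _ _ ?_
  rintro ⟨⟨i, hi⟩, ⟨f, hf₀⟩⟩
  have hf : f ∈ CohB1.polyGrading N k i := hf₀
  show Proj.awayι (CohB1.polyGrading n k) (selHom k s f) ((selHom k s).map_mem hf) hi ≫
      Proj.map (selHom k s) (irrelevant_le k hs) ≫ Proj.toSpecZero (CohB1.polyGrading N k) ≫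
        Spec.map (CommRingCat.ofHom (algebraMap k (CohB1.polyGrading N k 0))) =
    Proj.awayι (CohB1.polyGrading n k) (selHom k s f) ((selHom k s).map_mem hf) hi ≫
      Proj.toSpecZero (CohB1.polyGrading n k) ≫
        Spec.map (CommRingCat.ofHom (algebraMap k (CohB1.polyGrading n k 0)))
  rw [Proj.awayι_comp_map_assoc (selHom k s) (irrelevant_le k hs) hi f hf,
    Proj.awayι_toSpecZero_assoc, Proj.awayι_toSpecZero_assoc, ← Spec.map_comp, ← Spec.map_comp, ← Spec.map_comp]
  refine congrArg Spec.map ?_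
  ext r
  show (Away.map (selHom k s) _ (fromZeroRingHom _ _ (algebraMap k (CohB1.polyGrading N k 0) r))).val =
    (fromZeroRingHom (CohB1.polyGrading n k) _ (algebraMap k (CohB1.polyGrading n k 0) r)).val
  simp only [fromZeroRingHom, Away.map, RingHom.coe_mk, MonoidHom.coe_mk, OneHom.coe_mk]
  erw [HomogeneousLocalization.map_mk, HomogeneousLocalization.val_mk, HomogeneousLocalization.val_mk]
  simp [NumDenSameDeg.map, selHom_apply, MvPolynomial.algebraMap_eq]

theorem X_mem_of_range {i : Fin (N + 1)} (h : s i = none) (y : CohB1.ProjSpace n k) :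
    (X i : MvPolynomial (Fin (N + 1)) k) ∈ (emb k hs y).asHomogeneousIdeal := by
  show selHom k s (X i) ∈ y.asHomogeneousIdeal
  rw [selHom_X_none k h]
  exact zero_mem _

omit hs

/-- The morphism out of a coproduct of closed immersions with disjoint images is a closed immersion. -/
theorem isClosedImmersion_desc {X Y Z : Scheme.{u}} (f : X ⟶ Z) (g : Y ⟶ Z) [IsClosedImmersion f]
    [IsClosedImmersion g] (h : Disjoint (Set.range f) (Set.range g)) :
    IsClosedImmersion (coprod.desc f g) := by
  have hl : ∀ x : X, coprod.desc f g ((coprod.inl : X ⟶ X ⨿ Y) x) = f x := fun x => by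
    rw [← Scheme.Hom.comp_apply, coprod.inl_desc]
  have hr : ∀ y : Y, coprod.desc f g ((coprod.inr : Y ⟶ X ⨿ Y) y) = g y := fun y => by
    rw [← Scheme.Hom.comp_apply, coprod.inr_desc]
  have hfun : (coprod.desc f g : (X ⨿ Y : Scheme.{u}) → Z) = Sum.elim f g ∘ (coprodMk X Y).symm := by
    funext p
    obtain ⟨q, rfl⟩ := (coprodMk X Y).surjective p
    rcases q with x | y
    · rw [Function.comp_apply, Homeomorph.symm_apply_apply, coprodMk_inl]; exact hl x
    · rw [Function.comp_apply, Homeomorph.symm_apply_apply, coprodMk_inr]; exact hr y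
  have hs : Topology.IsClosedEmbedding (Sum.elim f g) := by
    refine Topology.IsClosedEmbedding.of_continuous_injective_isClosedMap
      (Continuous.sumElim f.continuous g.continuous) ?_ ?_
    · exact Function.Injective.sumElim f.isClosedEmbedding.injective g.isClosedEmbedding.injective
        fun a b => Set.disjoint_iff_forall_ne.1 h ⟨a, rfl⟩ ⟨b, rfl⟩
    · exact isClosedMap_sumElim.2 ⟨f.isClosedEmbedding.isClosedMap, g.isClosedEmbedding.isClosedMap⟩
  haveI : SurjectiveOnStalks (coprod.desc f g) := by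
    constructor
    intro p
    obtain ⟨q, rfl⟩ := (coprodMk X Y).surjective p
    rcases q with x | y
    · rw [coprodMk_inl]
      have h1 : Function.Surjective ((coprod.inl ≫ coprod.desc f g).stalkMap x) := by
        rw [coprod.inl_desc]; exact f.stalkMap_surjective x
      rw [Scheme.Hom.stalkMap_comp] at h1
      intro b
      obtain ⟨a, ha⟩ := h1 ((coprod.inl : X ⟶ X ⨿ Y).stalkMap x b)
      exact ⟨a, (ConcreteCategory.bijective_of_isIso ((coprod.inl : X ⟶ X ⨿ Y).stalkMap x)).1 ha⟩
    · rw [coprodMk_inr]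
      have h1 : Function.Surjective ((coprod.inr ≫ coprod.desc f g).stalkMap y) := by
        rw [coprod.inr_desc]; exact g.stalkMap_surjective y
      rw [Scheme.Hom.stalkMap_comp] at h1
      intro b
      obtain ⟨a, ha⟩ := h1 ((coprod.inr : Y ⟶ X ⨿ Y).stalkMap y b)
      exact ⟨a, (ConcreteCategory.bijective_of_isIso ((coprod.inr : Y ⟶ X ⨿ Y).stalkMap y)).1 ha⟩
  refine { isClosedEmbedding := ?_ }
  show Topology.IsClosedEmbedding (coprod.desc f g : (X ⨿ Y : Scheme.{u}) → Z)
  rw [hfun]
  exact hs.comp (coprodMk X Y).symm.isClosedEmbedding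

/-- Two projective schemes sit disjointly in one projective space. -/
theorem exists_embedding_coprod (n m : ℕ) {X₁ X₂ : Scheme.{u}}
    (i₁ : X₁ ⟶ CohB1.ProjSpace n k) [IsClosedImmersion i₁]
    (i₂ : X₂ ⟶ CohB1.ProjSpace m k) [IsClosedImmersion i₂] :
    ∃ j : X₁ ⨿ X₂ ⟶ CohB1.ProjSpace (n + m + 1) k, IsClosedImmersion j ∧
      j ≫ CohB1.ProjSpace.toSpec (n + m + 1) k =
        coprod.desc (i₁ ≫ CohB1.ProjSpace.toSpec n k) (i₂ ≫ CohB1.ProjSpace.toSpec m k) := by
  let s₁ : Fin (n + m + 1 + 1) → Option (Fin (n + 1)) := fun i => if h : (i : ℕ) < n + 1 then some ⟨i, h⟩ else none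
  let s₂ : Fin (n + m + 1 + 1) → Option (Fin (m + 1)) := fun i =>
    if h : (i : ℕ) < n + 1 then none else some ⟨(i : ℕ) - (n + 1), by omega⟩
  have h₁ : ∀ j, ∃ i, s₁ i = some j := fun j => ⟨⟨j, by omega⟩, dif_pos j.2⟩
  have h₂ : ∀ j, ∃ i, s₂ i = some j := fun j => ⟨⟨n + 1 + j, by omega⟩,
    (dif_neg (show ¬n + 1 + (j : ℕ) < n + 1 by omega)).trans (congrArg some (Fin.ext (show n + 1 + (j : ℕ) - (n + 1) = j by omega)))⟩
  haveI := isClosedImmersion_emb k h₁
  haveI := isClosedImmersion_emb k h₂
  refine ⟨coprod.desc (i₁ ≫ emb k h₁) (i₂ ≫ emb k h₂), ?_, ?_⟩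
  · refine isClosedImmersion_desc _ _ (Set.disjoint_iff_forall_ne.2 ?_)
    rintro _ ⟨a, rfl⟩ _ ⟨b, rfl⟩ hab
    rw [Scheme.Hom.comp_apply, Scheme.Hom.comp_apply] at hab
    let y := emb k h₁ (i₁ a)
    refine y.not_irrelevant_le fun x hx => ?_
    refine (Ideal.span_le.2 ?_) (PBC50.mem_span_X_of_mem_irrelevant _ hx)
    rintro _ ⟨l, rfl⟩
    by_cases hl : (l : ℕ) < n + 1
    · show X l ∈ y.asHomogeneousIdeal
      rw [show y = emb k h₂ (i₂ b) from hab]
      exact X_mem_of_range k h₂ (dif_pos hl) _
    · exact X_mem_of_range k h₁ (dif_neg hl) _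
  · refine coprod.hom_ext ?_ ?_
    · rw [coprod.inl_desc, ← Category.assoc, coprod.inl_desc, Category.assoc, emb_toSpec]
    · rw [coprod.inr_desc, ← Category.assoc, coprod.inr_desc, Category.assoc, emb_toSpec]

end Groth.Agent.Growth22.PnSum
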