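import Groth.Agent.Growth22.Generic
import Groth.Agent.KFlatLib.Scheme.ProjLocFree
import Groth.Agent.KFlatLib.Scheme.RpushQCoh
import Groth.Agent.QCoh.RpushModel
import Groth.Agent.QCoh.RpushGod
import Groth.Agent.PnCoh.PushNat
import Groth.Agent.PnCoh.Chow.Relative
import Groth.Agent.AmpleX.RelAffine
import Groth.Agent.AmpleX.Rel
import Groth.Agent.ExistEasy.PP.HatLemmas

/-!
# Cohomology of a morphism with an ample module upstairs: killing the higher direct images
-/

noncomputable section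

set_option linter.style.haveILetI false
set_option linter.unusedSectionVars false
set_option maxHeartbeats 1000000
set_option backward.isDefEq.respectTransparency false
set_option backward.isDefEq.respectTransparency.types false

universe u

open CategoryTheory CategoryTheory.Limits AlgebraicGeometry TopologicalSpace Opposite
open scoped Groth.Agent.H23.PicMul

namespace Groth.Agent.Growth22

open Groth.Agent

variable {X Y : Scheme.{u}} (f : Y ⟶ X)

/-- The higher cohomology of a module vanishes on the preimages of all affine opens. -/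
def Acyclic (M : Y.Modules) : Prop :=
  ∀ (V : X.Opens), IsAffineOpen V → ∀ q, Subsingleton (Coh.HHon Y M (f ⁻¹ᵁ V) (q + 1))

theorem acyclic_iff_isZero [QuasiCompact f] [QuasiSeparated f] [HasInjectiveResolutions Y.Modules]
    {M : Y.Modules} (hM : Coh.IsQCoh M) :
    Acyclic f M ↔ ∀ q, IsZero ((Coh.Rpush f (q + 1)).obj M) := by
  constructor
  · intro h q
    refine QCoh.isZero_of_cover (QCoh.isQCoh_Rpush f hM (q + 1)) (fun V : X.affineOpens => V.1) (fun V => V.2)
      (fun x => let ⟨_, ⟨U, hU, rfl⟩, hxU, _⟩ :=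
          X.isBasis_affineOpens.exists_subset_of_mem_open (Set.mem_univ x) isOpen_univ
        ⟨⟨U, hU⟩, hxU⟩) fun V => ?_
    obtain ⟨e⟩ := QCoh.nonempty_sections_HH (f := f) hM V.2 (q + 1)
    haveI := h V.1 V.2 q
    exact e.toEquiv.subsingleton
  · intro h V hV q
    obtain ⟨e⟩ := QCoh.nonempty_sections_HH (f := f) hM hV (q + 1)
    haveI : Subsingleton Γ((Coh.Rpush f (q + 1)).obj M, V) := subsingleton_of_forall_eq 0 fun z => by
      exact (congr(($((IsZero.iff_id_eq_zero ((Coh.Rpush f (q + 1)).obj M)).1 (h q))).app V z) :)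
    exact e.symm.toEquiv.subsingleton

/-- Over finitely many affine opens a high power of an ample module is acyclic. -/
theorem exists_acyclic_pow (k : Type u) [Field k] [X.Over (Spec (CommRingCat.of k))]
    [Y.Over (Spec (CommRingCat.of k))] [IsProper (X ↘ Spec (CommRingCat.of k))]
    [IsProper (Y ↘ Spec (CommRingCat.of k))]
    (hf : f ≫ (X ↘ Spec (CommRingCat.of k)) = Y ↘ Spec (CommRingCat.of k))
    {B : Y.Modules} (hB : CohB1.IsAmple B) : ∃ j₀, ∀ j, j₀ ≤ j → Acyclic f (CohB1.tensorPow B j) := by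
  haveI := CurveCohLib.isNoetherian_of_proper (k := k) (X := X)
  haveI := CurveCohLib.isNoetherian_of_proper (k := k) (X := Y)
  haveI : IsProper f := by
    haveI : IsProper (f ≫ (X ↘ Spec (CommRingCat.of k))) := hf ▸ inferInstance
    exact IsProper.of_comp f (X ↘ Spec (CommRingCat.of k))
  haveI := KFlatLib.hasInjectiveResolutions_modules (X := Y)
  have hrel : RelAmple.IsRelAmple f B := AmpleX.isRelAmple_of_comp (X ↘ Spec (CommRingCat.of k)) (by
    rw [hf]; exact (AmpleX.isRelAmple_iff_isAmple _ B).2 hB)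
  obtain ⟨T, hT, hcov⟩ := isCompact_iff_finite_and_eq_biUnion_affineOpens.mp
    (show IsCompact ((⊤ : X.Opens) : Set X) by simpa using isCompact_univ)
  have hloc : ∀ V : X.affineOpens, ∃ d₀, ∀ d, d₀ ≤ d → ∀ q,
      Subsingleton (Coh.HHon Y (CohB1.tensorPow B d) (f ⁻¹ᵁ V.1) (q + 1)) := fun V => by
    let W : Y.Opens := f ⁻¹ᵁ V.1
    letI : (W : Scheme.{u}).Over (Spec (CommRingCat.of Γ(X, V.1))) := ⟨QCoh.overSpec f V.2⟩
    haveI : IsProper ((W : Scheme.{u}) ↘ Spec (CommRingCat.of Γ(X, V.1))) :=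
      inferInstanceAs (IsProper ((f ∣_ V.1) ≫ V.2.isoSpec.hom))
    haveI : IsNoetherianRing Γ(X, V.1) := IsLocallyNoetherian.component_noetherian V
    haveI : IsLocallyNoetherian (W : Scheme.{u}) := inferInstance
    obtain ⟨d₀, hd₀⟩ := AmpleVan.exists_vanishing (A := Γ(X, V.1)) (hrel.2 V)
      (QCoh.isCoh_structureModule' (X := (W : Scheme.{u})))
    refine ⟨d₀, fun d hd q => ?_⟩
    obtain ⟨e⟩ := AmpleX.nonempty_restrict_tensorPow (L := B) W.ι d
    exact QCoh.subsingleton_HH_of_iso ((CurveTensor.structureTensorIso _) ≪≫ e.symm) _ (hd₀ d hd q)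
  choose d₀ hd₀ using hloc
  refine ⟨hT.toFinset.sup d₀, fun j hj => ?_⟩
  have hQ := ProjUPX.isQCoh_of_isInvertible (InvX.isInvertible_tensorPow hB.1 j)
  refine (acyclic_iff_isZero f hQ).2 fun q => ?_
  refine QCoh.isZero_of_cover (QCoh.isQCoh_Rpush f hQ (q + 1)) (fun V : T => V.1.1) (fun V => V.1.2)
    (fun x => ?_) fun V => ?_
  · have hx : x ∈ (⊤ : X.Opens) := trivial
    rw [hcov] at hx
    obtain ⟨V, hV, hxV⟩ := by simpa only [TopologicalSpace.Opens.mem_iSup, exists_prop] using hx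
    exact ⟨⟨V, hV⟩, hxV⟩
  · obtain ⟨e⟩ := QCoh.nonempty_sections_HH (f := f) hQ V.1.2 (q + 1)
    haveI := hd₀ V.1 j (le_trans (Finset.le_sup (f := d₀) (hT.mem_toFinset.2 V.2)) hj) q
    exact e.toEquiv.subsingleton

/-- Acyclicity survives twisting by modules from below. -/
theorem acyclic_tensor [QuasiCompact f] [QuasiSeparated f] {G : Y.Modules} (hG : Coh.IsQCoh G)
    (h : Acyclic f G) {P : X.Modules} (hP : PicF.IsInvertible P) :
    Acyclic f (CohB1.tensorMod ((Scheme.Modules.pullback f).obj P) G) := by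
  haveI := KFlatLib.hasInjectiveResolutions_modules (X := Y)
  have hP' : PicF.IsInvertible ((Scheme.Modules.pullback f).obj P) := PicClLib.isInvertible_pullback f hP
  refine (acyclic_iff_isZero f (KFlatLib.isQCoh_tensor (ProjUPX.isQCoh_of_isInvertible hP') hG)).2 fun q => ?_
  obtain ⟨e⟩ := KFlatLib.nonempty_rpush_tensor_finLocFree f G P (fun x => let ⟨U, hx, e⟩ := InvEnd.isFinLocFreeOfRank_one hP x; ⟨U, 1, hx, e⟩) (q + 1)
  refine IsZero.of_iso ?_ e.symm
  obtain ⟨e'⟩ := H23.PicMul.comm P ((Coh.Rpush f (q + 1)).obj G)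
  haveI := AmpleVan.isEquivalence_tw hP
  exact IsZero.of_iso ((AmpleVan.tw P).map_isZero ((acyclic_iff_isZero f hG).1 h q)) e'

/-- Acyclic modules have the cohomology of their direct images. -/
theorem h_push_eq (k : Type u) [Field k] [X.Over (Spec (CommRingCat.of k))] [Y.Over (Spec (CommRingCat.of k))]
    (hf : f ≫ (X ↘ Spec (CommRingCat.of k)) = Y ↘ Spec (CommRingCat.of k))
    {M : Y.Modules} (hM : Acyclic f M) (i : ℕ) : h k M i = h k ((Coh.push f).obj M) i := by
  obtain ⟨e⟩ := PnCoh.nonempty_linearEquiv_of_natPushEquiv k f hf M i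
    (PnCoh.H_push_equiv_natural_of_HU f.base (fun W : Opens X => IsAffineOpen W)
      (fun U x hx => let ⟨_, ⟨W, hW, rfl⟩, hxW, hWU⟩ := X.isBasis_affineOpens.exists_subset_of_mem_open hx U.2
        ⟨W, hWU, hxW, hW⟩)
      (QCoh.abSheaf M) (fun W hW q => PnCoh.Chow.subsingleton_HU_of_HHon M _ q (hM W hW q)) i)
  exact e.finrank_eq

end Groth.Agent.Growth22
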