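import Groth.Agent.Growth22.Generic
import Groth.Agent.Lib.CurveBundle
import Groth.Agent.KFlatLib.Perfect.BettiStalk
import Mathlib.Analysis.Asymptotics.Lemmas

/-!
# Coherent modules of generic rank `r` behave like `r` copies of the structure sheaf
-/

noncomputable section

set_option linter.style.haveILetI false
set_option linter.unusedSectionVars false
set_option maxHeartbeats 1000000
set_option backward.isDefEq.respectTransparency false
set_option backward.isDefEq.respectTransparency.types false

universe u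

open CategoryTheory CategoryTheory.Limits AlgebraicGeometry TopologicalSpace Opposite Filter Topology ZeroObject
open scoped Groth.Agent.H23.PicMul

namespace Groth.Agent.Growth22

open Groth.Agent

theorem SmN.add {d : ℕ} {u v : ℕ → ℕ} (h : SmN d u) (h' : SmN d v) : SmN d (u + v) := by
  cases d with
  | zero => exact fun m => show u m + v m = 0 by rw [h m, h' m]
  | succ d =>
    obtain ⟨c, hc⟩ := h
    obtain ⟨c', hc'⟩ := h'
    exact ⟨c + c', fun m => (Nat.add_le_add (hc m) (hc' m)).trans_eq (add_mul _ _ _).symm⟩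

theorem SmN.const_mul {d : ℕ} {u : ℕ → ℕ} (h : SmN d u) (r : ℕ) : SmN d (fun m => r * u m) := by
  cases d with
  | zero => exact fun m => show r * u m = 0 by rw [h m, mul_zero]
  | succ d =>
    obtain ⟨c, hc⟩ := h
    exact ⟨r * c, fun m => (Nat.mul_le_mul_left r (hc m)).trans_eq (mul_assoc _ _ _).symm⟩

theorem SmN.of_le {d e : ℕ} (hde : d ≤ e) {u : ℕ → ℕ} (h : SmN d u) : SmN e u := by
  induction hde with
  | refl => exact h
  | @step e _ ih =>
    cases e with
    | zero => exact ⟨0, fun m => le_of_eq ((ih m).trans (zero_mul _).symm)⟩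
    | succ e =>
      obtain ⟨c, hc⟩ := ih
      exact ⟨c, fun m => (hc m).trans (Nat.mul_le_mul_left c (Nat.pow_le_pow_right (by omega) (Nat.le_succ e)))⟩

theorem SmN.isBigO {d : ℕ} {u : ℕ → ℕ} (h : SmN d u) :
    (fun m : ℕ => (u m : ℝ)) =O[atTop] fun m : ℕ => (m : ℝ) ^ (d - 1) := by
  cases d with
  | zero =>
    have : (fun m : ℕ => (u m : ℝ)) = fun _ => 0 := funext fun m => by rw [h m, Nat.cast_zero]
    rw [this]
    exact Asymptotics.isBigO_zero _ _
  | succ d =>
    obtain ⟨c, hc⟩ := h
    refine Asymptotics.IsBigO.of_bound ((c : ℝ) * 2 ^ d) ?_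
    filter_upwards [eventually_ge_atTop 1] with m hm
    have h2 : u m ≤ c * (2 * m) ^ d := (hc m).trans (Nat.mul_le_mul_left c (Nat.pow_le_pow_left (by omega) d))
    have h3 : (u m : ℝ) ≤ (c : ℝ) * (2 * m) ^ d := by exact_mod_cast h2
    rw [Real.norm_eq_abs, Nat.abs_cast, norm_pow, Real.norm_eq_abs, Nat.abs_cast, Nat.add_sub_cancel]
    exact h3.trans_eq (by rw [mul_pow]; ring)

variable (X : Scheme.{u})

/-- `r` copies of the structure sheaf. -/
def opow : ℕ → X.Modules
  | 0 => 0
  | r + 1 => Coh.structureModule X ⊞ opow r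

variable {X}

/-- The map out of `r` copies given by `r` sections. -/
def fromPow {Q : X.Modules} : ∀ r, (Fin r → Γ(Q, ⊤)) → (opow X r ⟶ Q)
  | 0, _ => 0
  | r + 1, t => biprod.desc (QCoh.homOfTop (t 0)) (fromPow r fun j => t j.succ)

theorem exists_generators {Q : X.Modules} (x : X) :
    ∀ r (t : Fin r → Γ(Q, ⊤)), ∃ p : Fin r → (DerSch.stalkFunctor X x).obj (opow X r),
      Submodule.span (X.presheaf.stalk x) (Set.range p) = ⊤ ∧
        ∀ j, (DerSch.stalkFunctor X x).map (fromPow r t) (p j) =
          (DerSch.stalkFunctor X x).map (QCoh.homOfTop (t j)) (KFlatLib.gen1 x) := by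
  let F := DerSch.stalkFunctor X x
  haveI : F.Additive := Functor.additive_of_preserves_binary_products _
  intro r
  induction r with
  | zero =>
    intro t
    refine ⟨Fin.elim0, eq_top_iff.2 fun z _ => ?_, fun j => j.elim0⟩
    haveI := (ModuleCat.isZero_iff_subsingleton (M := F.obj (opow X 0))).1 (F.map_isZero (isZero_zero _))
    exact Subsingleton.elim (0 : F.obj (opow X 0)) z ▸ Submodule.zero_mem _
  | succ r ih =>
    intro t
    obtain ⟨p, hp, hp'⟩ := ih fun j => t j.succ
    let a := F.map (biprod.inl : Coh.structureModule X ⟶ Coh.structureModule X ⊞ opow X r)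
    let b := F.map (biprod.inr : opow X r ⟶ Coh.structureModule X ⊞ opow X r)
    refine ⟨Fin.cons (a (KFlatLib.gen1 x)) (fun j => b (p j)), eq_top_iff.2 fun z _ => ?_, fun j => ?_⟩
    · let S := Submodule.span (X.presheaf.stalk x)
        (Set.range (Fin.cons (a (KFlatLib.gen1 x)) (fun j => b (p j)) : Fin (r + 1) → F.obj (opow X (r + 1))))
      show z ∈ S
      have htot : z = a (F.map biprod.fst z) + b (F.map biprod.snd z) := by
        have := congrArg (fun f => F.map f z) (biprod.total (X := Coh.structureModule X) (Y := opow X r))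
        simp only [F.map_add, F.map_comp] at this
        exact (ConcreteCategory.congr_hom (F.map_id _) z).symm.trans this.symm
      rw [htot]
      refine S.add_mem ?_ ?_
      · obtain ⟨c, hc⟩ := KFlatLib.exists_smul_gen1 x (F.map biprod.fst z)
        rw [← hc, map_smul a.hom]
        exact S.smul_mem _ (Submodule.subset_span ⟨0, Fin.cons_zero _ _⟩)
      · have hmem : F.map biprod.snd z ∈ Submodule.span (X.presheaf.stalk x) (Set.range p) := hp ▸ Submodule.mem_top
        have h1 := Submodule.apply_mem_span_image_of_mem_span b.hom hmem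
        refine Submodule.span_mono ?_ h1
        rintro _ ⟨_, ⟨j, rfl⟩, rfl⟩
        exact ⟨j.succ, Fin.cons_succ _ _ _⟩
    · induction j using Fin.cases with
      | zero =>
        rw [Fin.cons_zero]
        refine (ConcreteCategory.congr_hom (F.map_comp biprod.inl
          (biprod.desc (QCoh.homOfTop (t 0)) (fromPow r fun j => t j.succ))).symm (KFlatLib.gen1 x)).trans ?_
        rw [biprod.inl_desc]
      | succ j =>
        rw [Fin.cons_succ]
        refine (ConcreteCategory.congr_hom (F.map_comp biprod.inr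
          (biprod.desc (QCoh.homOfTop (t 0)) (fromPow r fun j => t j.succ))).symm (p j)).trans ?_
        rw [biprod.inr_desc]
        exact hp' j

theorem isCoh_opow [IsNoetherian X] : ∀ r, Coh.IsCoh (opow X r)
  | 0 => KZ.isCoh_zero
  | r + 1 =>
    KZ.isCoh_X₂ (ShortComplex.Splitting.ofHasBinaryBiproduct (Coh.structureModule X) (opow X r)).shortExact
      QCoh.isCoh_structureModule' (isCoh_opow r)

/-- Modules mapping to a third by maps which are isomorphisms at `x` are linked at `x`. -/
theorem exists_link_at [IsLocallyNoetherian X] {x : X} {A B Q : X.Modules} (hA : Coh.IsCoh A) (hB : Coh.IsCoh B)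
    (hQ : Coh.IsQCoh Q) (φ : A ⟶ Q) (ψ : B ⟶ Q) [IsIso ((DerSch.stalkFunctor X x).map φ)]
    [IsIso ((DerSch.stalkFunctor X x).map ψ)] :
    ∃ (K I : X.Modules) (a : K ⟶ A) (b : K ⟶ I) (c : B ⟶ I),
      Coh.IsCoh K ∧ Coh.IsCoh I ∧ IsIso ((DerSch.stalkFunctor X x).map a) ∧
        IsIso ((DerSch.stalkFunctor X x).map b) ∧ IsIso ((DerSch.stalkFunctor X x).map c) := by
  let F := DerSch.stalkFunctor X x
  have hCo : Coh.IsQCoh (cokernel ψ) := QCoh.isQCoh_cokernel hB.1 hQ ψ
  let e := φ ≫ cokernel.π ψ
  have hK : Coh.IsCoh (kernel e) := QCoh.isCoh_of_mono (kernel.ι e) hA (QCoh.isQCoh_kernel hA.1 hCo e)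
  have hI : Coh.IsCoh (Abelian.image ψ) :=
    QCoh.isCoh_of_epi (Abelian.factorThruImage ψ) hB (QCoh.isQCoh_kernel hQ hCo _)
  let b : kernel e ⟶ Abelian.image ψ :=
    kernel.lift _ (kernel.ι e ≫ φ) (by rw [Category.assoc]; exact kernel.condition e)
  have hcoker : IsZero (F.obj (cokernel ψ)) :=
    Snapper.notMem_support_iff.1 (Snapper.notMem_support_cokernel ψ inferInstance)
  have hker : ∀ {C : X.Modules} (g : C ⟶ cokernel ψ), IsIso (F.map (kernel.ι g)) := fun {C} g => by
    have hS : (ShortComplex.mk (kernel.ι g) g (kernel.condition g)).Exact :=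
      ShortComplex.exact_of_f_is_kernel _ (kernelIsKernel g)
    haveI : Mono (F.map (kernel.ι g)) := inferInstance
    haveI : Epi (F.map (kernel.ι g)) := (hS.map F).epi_f (hcoker.eq_of_tgt _ _)
    exact isIso_of_mono_of_epi _
  haveI ha : IsIso (F.map (kernel.ι e)) := hker e
  haveI hι : IsIso (F.map (Abelian.image.ι ψ)) := hker (cokernel.π ψ)
  refine ⟨kernel e, Abelian.image ψ, kernel.ι e, b, Abelian.factorThruImage ψ, hK, hI, ha, ?_, ?_⟩
  · exact IsIso.of_isIso_fac_right (show F.map b ≫ F.map (Abelian.image.ι ψ) = F.map (kernel.ι e) ≫ F.map φ by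
      rw [← F.map_comp, ← F.map_comp]
      exact congrArg F.map (kernel.lift_ι _ _ _))
  · exact IsIso.of_isIso_fac_right (show F.map (Abelian.factorThruImage ψ) ≫ F.map (Abelian.image.ι ψ) = F.map ψ by
      rw [← F.map_comp, Abelian.image.fac])

variable [IsIntegral X]

theorem exists_link_rank [IsNoetherian X] {M : X.Modules} (hM : Coh.IsCoh M) {r : ℕ}
    (hr : Module.finrank (X.presheaf.stalk (genericPoint X)) (M.presheaf.stalk (genericPoint X)) = r) :
    ∃ (K I : X.Modules) (a : K ⟶ opow X r) (b : K ⟶ I) (c : M ⟶ I), Coh.IsCoh K ∧ Coh.IsCoh I ∧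
      IsIso ((DerSch.stalkFunctor X (genericPoint X)).map a) ∧
      IsIso ((DerSch.stalkFunctor X (genericPoint X)).map b) ∧
      IsIso ((DerSch.stalkFunctor X (genericPoint X)).map c) := by
  let η := genericPoint X
  letI : Field (X.presheaf.stalk η) := inferInstanceAs (Field X.functionField)
  haveI := CurveBundle.finite_stalk_of_coh hM η
  let B := Module.finBasisOfFinrankEq (X.presheaf.stalk η) (M.presheaf.stalk η) hr
  choose V hV s hs using fun j => TopCat.Presheaf.exists_germ_eq M.presheaf (B j)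
  let U : X.Opens := ⟨⋂ j, (V j : Set X), isOpen_iInter_of_finite fun j => (V j).2⟩
  have hU : η ∈ U := Set.mem_iInter.2 hV
  have hUV : ∀ j, U ≤ V j := fun j y hy => Set.mem_iInter.1 hy j
  let Q := (Scheme.Modules.pushforward U.ι).obj (M.restrict U.ι)
  have hQ : Coh.IsQCoh Q := QCoh.isQCoh_pushforward U.ι (QCoh.isQCoh_restrict U.ι hM.1)
  have hT : U.ι ''ᵁ (U.ι ⁻¹ᵁ (⊤ : X.Opens)) ≤ U := by
    rw [U.ι.image_preimage_eq_opensRange_inf, Scheme.Opens.opensRange_ι]
    exact inf_le_left
  let e : Fin r → Γ(M, U) := fun j => M.presheaf.map (homOfLE (hUV j)).op (s j)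
  let t : Fin r → Γ(Q, ⊤) := fun j => M.presheaf.map (homOfLE hT).op (e j)
  let F := DerSch.stalkFunctor X η
  haveI := Snapper.isoOn_resMap U M η hU
  have hb : Function.Bijective (F.map (Snapper.resMap U M)) :=
    (ConcreteCategory.isIso_iff_bijective _).1 inferInstance
  have hgen : ∀ j, F.map (QCoh.homOfTop (t j)) (KFlatLib.gen1 η) = F.map (Snapper.resMap U M) (B j) := fun j => by
    have h0 : KFlatLib.gen1 η = ((Coh.structureModule X).presheaf.germ U η hU
        (show Γ(Coh.structureModule X, U) from (1 : Γ(X, U))) : F.obj (Coh.structureModule X)) := by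
      refine (InvX.germ_res' (M := Coh.structureModule X) (le_top : U ≤ ⊤) hU _).symm.trans ?_
      exact congrArg ((Coh.structureModule X).presheaf.germ U η hU) (map_one (AModX.resR (le_top : U ≤ ⊤)))
    have h1 : (M.presheaf.germ U η hU (e j) : F.obj M) = B j := (InvX.germ_res' (hUV j) hU (s j)).trans (hs j)
    rw [h0, ← h1]
    refine (TopCat.Presheaf.stalkFunctor_map_germ_apply U η hU
      ((Scheme.Modules.toPresheaf X).map (QCoh.homOfTop (t j))) _).trans ?_
    refine Eq.trans ?_ (TopCat.Presheaf.stalkFunctor_map_germ_apply U η hU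
      ((Scheme.Modules.toPresheaf X).map (Snapper.resMap U M)) (e j)).symm
    refine congrArg (Q.presheaf.germ U η hU) ?_
    refine (QCoh.homOfTop_app (P := Q) (t j) (1 : Γ(X, U))).trans ((one_smul _ _).trans ?_)
    show _ = ((Scheme.Modules.restrictAdjunction U.ι).unit.app M).app U (e j)
    rw [Scheme.Modules.restrictAdjunction_unit_app_app]
    exact (QCoh.push_restrict_map U M (homOfLE le_top) (t j)).trans (QCoh.map_map (M := M) _ _ (e j))
  obtain ⟨p, hp, hp'⟩ := exists_generators η r t
  have hsum : ∀ c : Fin r → X.presheaf.stalk η,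
      F.map (fromPow r t) (∑ j, c j • p j) = F.map (Snapper.resMap U M) (∑ j, c j • (B j : F.obj M)) := fun c => by
    rw [map_sum (F.map (fromPow r t)).hom, map_sum (F.map (Snapper.resMap U M)).hom]
    refine Finset.sum_congr rfl fun j _ => ?_
    rw [map_smul (F.map (fromPow r t)).hom, map_smul (F.map (Snapper.resMap U M)).hom, hp' j, hgen j]
  haveI : IsIso (F.map (fromPow r t)) := by
    refine (ConcreteCategory.isIso_iff_bijective _).2 ⟨?_, fun q => ?_⟩
    · refine (injective_iff_map_eq_zero (F.map (fromPow r t)).hom).2 fun z hz => ?_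
      obtain ⟨c, rfl⟩ := (Submodule.mem_span_range_iff_exists_fun _).1 (hp ▸ Submodule.mem_top : z ∈ _)
      have h1 : (∑ j, c j • (B j : F.obj M)) = 0 :=
        hb.1 (((hsum c).symm.trans hz).trans (map_zero (F.map (Snapper.resMap U M)).hom).symm)
      have hc : ∀ j, c j = 0 := Fintype.linearIndependent_iff.1 B.linearIndependent c h1
      simp [hc]
    · obtain ⟨m, rfl⟩ := hb.2 q
      refine ⟨∑ j, B.repr m j • p j, (hsum _).trans (congrArg _ ?_)⟩
      exact B.sum_repr m
  exact exists_link_at (x := η) (isCoh_opow r) hM hQ (fromPow r t) (Snapper.resMap U M)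

variable (k : Type u) [Field k] [X.Over (Spec (CommRingCat.of k))] [IsProper (X ↘ Spec (CommRingCat.of k))]

theorem seq_opow [IsNoetherian X] {L : X.Modules} (hL : PicF.IsInvertible L) (i m : ℕ) :
    ∀ j, seq k (opow X j) L i m = j * seq k (Coh.structureModule X) L i m := by
  intro j
  induction j with
  | zero =>
    rw [seq_eq_F₀ k hL, zero_mul]
    exact F₀_isZero k _ (isZero_zero _) _ _
  | succ j ih =>
    rw [seq_eq_F₀ k hL] at ih ⊢
    rw [seq_eq_F₀ k hL] at ih ⊢
    refine (F₀_biprod k _ QCoh.isCoh_structureModule' (isCoh_opow j) (isCoh_opow (j + 1)) i _).trans ?_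
    rw [ih, add_mul, one_mul, add_comm]

/-- A coherent module differs from `r` copies of the structure sheaf below the top degree. -/
theorem seq_rank_near {n : ℕ} (hn : topologicalKrullDim X ≤ n) {L : X.Modules} (hL : PicF.IsInvertible L)
    {M : X.Modules} (hM : Coh.IsCoh M) {r : ℕ}
    (hr : Module.finrank (X.presheaf.stalk (genericPoint X)) (M.presheaf.stalk (genericPoint X)) = r) (i : ℕ) :
    ∃ e, SmN n e ∧ ∀ m, seq k M L i m ≤ r * seq k (Coh.structureModule X) L i m + e m ∧
      r * seq k (Coh.structureModule X) L i m ≤ seq k M L i m + e m := by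
  haveI := CurveCohLib.isNoetherian_of_proper (k := k) (X := X)
  obtain ⟨P, I, a, b, c, hP, hI, ha, hb, hc⟩ := exists_link_rank hM hr
  have hnear : ∀ {A B : X.Modules}, Coh.IsCoh A → Coh.IsCoh B → ∀ φ : A ⟶ B,
      IsIso ((DerSch.stalkFunctor X (genericPoint X)).map φ) →
      ∃ e, SmN n e ∧ ∀ m, seq k A L i m ≤ seq k B L i m + e m ∧ seq k B L i m ≤ seq k A L i m + e m :=
    fun {A B} hA hB φ _ => seq_near k hL hA hB φ
      (small_of_generic hn (QCoh.isCoh_kernel hA hB φ) (Snapper.notMem_support_kernel φ inferInstance))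
      (small_of_generic hn (QCoh.isCoh_cokernel hA.1 hB φ) (Snapper.notMem_support_cokernel φ inferInstance)) i
  obtain ⟨e₁, h₁, g₁⟩ := hnear hP (isCoh_opow r) a ha
  obtain ⟨e₂, h₂, g₂⟩ := hnear hP hI b hb
  obtain ⟨e₃, h₃, g₃⟩ := hnear hM hI c hc
  refine ⟨_, (h₁.add h₂).add h₃, fun m => ?_⟩
  obtain ⟨p1, q1⟩ := g₁ m
  obtain ⟨p2, q2⟩ := g₂ m
  obtain ⟨p3, q3⟩ := g₃ m
  rw [seq_opow k hL i m r] at p1 q1
  simp only [Pi.add_apply]
  omega

/-- The upper limit for a coherent module is its generic rank times that for the structure sheaf. -/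
theorem limsup_seq_rank {n : ℕ} (hn : topologicalKrullDim X ≤ n) {L : X.Modules} (hL : PicF.IsInvertible L)
    {M : X.Modules} (hM : Coh.IsCoh M) {r : ℕ}
    (hr : Module.finrank (X.presheaf.stalk (genericPoint X)) (M.presheaf.stalk (genericPoint X)) = r)
    (i : ℕ) {K : ℝ} :
    limsup (nrm K n (seq k M L i)) atTop =
      (r : ℝ) * limsup (nrm K n (seq k (Coh.structureModule X) L i)) atTop := by
  haveI := CurveCohLib.isNoetherian_of_proper (k := k) (X := X)
  obtain ⟨e, he, h⟩ := seq_rank_near k hn hL hM hr i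
  have hv : SmN (n + 1) (fun m => r * seq k (Coh.structureModule X) L i m) :=
    (seq_growth k hL QCoh.isCoh_structureModule' (small_top hn _) i).const_mul r
  rw [limsup_nrm_congr hv he h]
  obtain ⟨C, hC⟩ := nrm_abs_le (K := K) (seq_growth k hL QCoh.isCoh_structureModule' (small_top hn _) i)
  have hmono : Monotone fun x : ℝ => (r : ℝ) * x := fun x y h => mul_le_mul_of_nonneg_left h (Nat.cast_nonneg r)
  rw [hmono.map_limsup_of_continuousAt (nrm K n (seq k (Coh.structureModule X) L i))
    (continuous_const.mul continuous_id).continuousAt (bdd_of_abs hC).1 (bdd_of_abs hC).2.isCoboundedUnder_le]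
  refine congrArg (limsup · atTop) (funext fun m => ?_)
  simp only [nrm, Function.comp, Nat.cast_mul]
  ring

end Groth.Agent.Growth22
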