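import Groth.Agent.Growth22.Push
import Groth.Agent.Growth22.Rank
import Groth.Agent.VarDim.Fibre
import Groth.Agent.VarDim.Top
import Groth.Agent.Triage.GenFinite
import Groth.Agent.QCoh.Stalk

/-!
# The generic rank of a direct image along a generically finite morphism
-/

noncomputable section

set_option linter.style.haveILetI false
set_option linter.unusedSectionVars false
set_option maxHeartbeats 1000000
set_option backward.isDefEq.respectTransparency false
set_option backward.isDefEq.respectTransparency.types false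

universe u

open CategoryTheory CategoryTheory.Limits AlgebraicGeometry TopologicalSpace Opposite Filter Topology
open scoped Groth.Agent.H23.PicMul

namespace Groth.Agent.Growth22

open Groth.Agent

variable (k : Type u) [Field k] {X Y : Scheme.{u}} [X.Over (Spec (CommRingCat.of k))]
  [Y.Over (Spec (CommRingCat.of k))] [IsProper (X ↘ Spec (CommRingCat.of k))]
  [IsProper (Y ↘ Spec (CommRingCat.of k))] (f : Y ⟶ X)

include k in
theorem isProper_of_over (hf : f ≫ (X ↘ Spec (CommRingCat.of k)) = Y ↘ Spec (CommRingCat.of k)) : IsProper f := by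
  haveI : IsProper (f ≫ (X ↘ Spec (CommRingCat.of k))) := hf ▸ inferInstance
  exact IsProper.of_comp f (X ↘ Spec (CommRingCat.of k))

variable [IsIntegral X] [IsIntegral Y]

include k in
/-- A generically finite morphism keeps the dimension and has one point over the generic point. -/
theorem dim_and_fibre_of_genFinite (hf : f ≫ (X ↘ Spec (CommRingCat.of k)) = Y ↘ Spec (CommRingCat.of k))
    (hdom : f.base (genericPoint Y) = genericPoint X) (hdeg : 0 < f.residueDegree (genericPoint Y)) :
    topologicalKrullDim Y = topologicalKrullDim X ∧ ∀ y, f y = genericPoint X → y = genericPoint Y := by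
  let q := X ↘ Spec (CommRingCat.of k)
  let p := Y ↘ Spec (CommRingCat.of k)
  haveI : IsProper f := isProper_of_over k f hf
  have h0 : VarDim.fdeg f (genericPoint Y) = 0 := by
    letI := (f.residueFieldMap (genericPoint Y)).hom.toAlgebra
    haveI : Module.Finite (X.residueField (f (genericPoint Y))) (Y.residueField (genericPoint Y)) :=
      Module.finite_of_finrank_pos hdeg
    rw [VarDim.fdeg, VarDim.rdeg]
    rw [trdeg_eq_zero, map_zero]
  have hη : VarDim.deg p (genericPoint Y) = VarDim.deg q (genericPoint X) := by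
    rw [VarDim.deg_eq_add f q hf (genericPoint Y), h0, add_zero]
    exact congrArg (VarDim.deg q) hdom
  refine ⟨?_, fun y hy => ?_⟩
  · rw [VarDim.topologicalKrullDim_eq_deg_genericPoint p, VarDim.topologicalKrullDim_eq_deg_genericPoint q, hη]
  · have h1 : VarDim.deg p (genericPoint Y) ≤ VarDim.deg p y := by
      rw [hη, ← hy]
      exact VarDim.deg_map_le f q hf y
    by_contra hne
    have h2 : VarDim.deg p y < VarDim.deg p (genericPoint Y) :=
      VarDim.deg_strictMono p (lt_iff_le_not_ge.2 ⟨genericPoint_specializes y,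
        fun h => hne ((genericPoint_specializes y).antisymm h).eq.symm⟩)
    omega

/-- The stalk of a direct image at the image of a point which is alone in its fibre. -/
theorem finrank_stalk_push_of_unique {X Y : Scheme.{u}} (f : Y ⟶ X) [UniversallyClosed f] (y : Y)
    (huniq : ∀ z, f z = f y → z = y) (G : Y.Modules) :
    letI := Module.compHom (G.presheaf.stalk y) (f.stalkMap y).hom
    Module.finrank (X.presheaf.stalk (f y)) (((Coh.push f).obj G).presheaf.stalk (f y)) =
      Module.finrank (X.presheaf.stalk (f y)) (G.presheaf.stalk y) := by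
  letI := Module.compHom (G.presheaf.stalk y) (f.stalkMap y).hom
  let P := (Coh.push f).obj G
  let σ : (P.presheaf.stalk (f y) : Type u) →+ G.presheaf.stalk y :=
    (TopCat.Presheaf.stalkPushforward Ab.{u} f.base G.presheaf y).hom
  have hσ : ∀ (U : X.Opens) (hU : f y ∈ U) (v : Γ(G, f ⁻¹ᵁ U)),
      σ (P.presheaf.germ U (f y) hU v) = G.presheaf.germ (f ⁻¹ᵁ U) y hU v := fun U hU v =>
    congrArg (fun φ => φ v) (TopCat.Presheaf.stalkPushforward_germ Ab.{u} f.base G.presheaf U y hU)
  have hsmul : ∀ (a : X.presheaf.stalk (f y)) (m : P.presheaf.stalk (f y)), σ (a • m) = a • σ m := by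
    intro a m
    obtain ⟨U, hU, b, rfl⟩ := X.presheaf.exists_germ_eq (x := f y) a
    obtain ⟨V, hV, v, rfl⟩ := P.presheaf.germ_exist m
    have hW : f y ∈ U ⊓ V := ⟨hU, hV⟩
    rw [← X.presheaf.germ_res_apply (homOfLE inf_le_left : U ⊓ V ⟶ U) (f y) hW b,
      ← P.presheaf.germ_res_apply (homOfLE inf_le_right : U ⊓ V ⟶ V) (f y) hW v]
    generalize X.presheaf.map (homOfLE inf_le_left : U ⊓ V ⟶ U).op b = b'
    generalize P.presheaf.map (homOfLE inf_le_right : U ⊓ V ⟶ V).op v = v'
    rw [← QCoh.germ_smul' P hW, hσ, hσ]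
    refine (QCoh.germ_smul' G (show y ∈ f ⁻¹ᵁ (U ⊓ V) from hW) (f.app _ b') v').trans ?_
    exact congrArg (fun t => t • G.presheaf.germ (f ⁻¹ᵁ (U ⊓ V)) y hW v')
      (Scheme.Hom.germ_stalkMap_apply f (U ⊓ V) y hW b').symm
  -- neighbourhoods of `y` contain preimages of neighbourhoods of `f y`
  have hnhd : ∀ O : Y.Opens, y ∈ O → ∃ W : X.Opens, f y ∈ W ∧ f ⁻¹ᵁ W ≤ O := fun O hO => by
    refine ⟨⟨(f '' (O : Set Y)ᶜ)ᶜ, (f.isClosedMap _ O.2.isClosed_compl).isOpen_compl⟩, ?_, fun z hz => ?_⟩
    · rintro ⟨z, hz, hzy⟩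
      exact hz (huniq z hzy ▸ hO)
    · by_contra hzO
      exact hz ⟨z, hzO, rfl⟩
  refine (LinearEquiv.ofBijective ({ toFun := σ, map_add' := map_add σ, map_smul' := hsmul } :
    P.presheaf.stalk (f y) →ₗ[X.presheaf.stalk (f y)] G.presheaf.stalk y) ⟨?_, fun m => ?_⟩).finrank_eq
  · refine (injective_iff_map_eq_zero σ).2 fun m hm => ?_
    obtain ⟨V, hV, v, rfl⟩ := P.presheaf.germ_exist m
    rw [hσ, ← map_zero (G.presheaf.germ (f ⁻¹ᵁ V) y hV).hom] at hm
    obtain ⟨O, hO, i, j, e⟩ := G.presheaf.germ_eq (U := f ⁻¹ᵁ V) (V := f ⁻¹ᵁ V) y hV hV _ _ hm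
    obtain ⟨W, hW, hWO⟩ := hnhd O hO
    have e1 := congrArg (AModX.res G (show f ⁻¹ᵁ (W ⊓ V) ≤ O from fun z hz => hWO hz.1)) e
    have e2 : AModX.res P (inf_le_right : W ⊓ V ≤ V) v = 0 := by
      refine Eq.trans ?_ (e1.trans ((congrArg _ (map_zero _)).trans (map_zero _)))
      exact (AModX.res_res (M := G) i.le (show f ⁻¹ᵁ (W ⊓ V) ≤ O from fun z hz => hWO hz.1) v).symm
    rw [← InvX.germ_res' (inf_le_right : W ⊓ V ≤ V) ⟨hW, hV⟩ v, e2, map_zero]
  · obtain ⟨O, hO, t, rfl⟩ := G.presheaf.germ_exist m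
    obtain ⟨W, hW, hWO⟩ := hnhd O hO
    exact ⟨P.presheaf.germ W (f y) hW (AModX.res G hWO t), (hσ W hW _).trans (InvX.germ_res' hWO hW t)⟩

/-- The generic rank of the direct image of an invertible module is the degree. -/
theorem finrank_generic_push [UniversallyClosed f] (hdom : f.base (genericPoint Y) = genericPoint X)
    (huniq : ∀ y, f y = genericPoint X → y = genericPoint Y) {G : Y.Modules} (hG : PicF.IsInvertible G) :
    Module.finrank (X.presheaf.stalk (genericPoint X)) (((Coh.push f).obj G).presheaf.stalk (genericPoint X)) =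
      f.residueDegree (genericPoint Y) := by
  let ξ := genericPoint Y
  suffices h : Module.finrank (X.presheaf.stalk (f ξ)) (((Coh.push f).obj G).presheaf.stalk (f ξ)) =
      f.residueDegree ξ by
    have e : f ξ = genericPoint X := hdom
    rw [e] at h
    exact h
  rw [finrank_stalk_push_of_unique f ξ (fun z hz => huniq z (hz.trans hdom)) G]
  letI := (f.stalkMap ξ).hom.toAlgebra
  letI := Module.compHom (G.presheaf.stalk ξ) (f.stalkMap ξ).hom
  haveI : IsScalarTower (X.presheaf.stalk (f ξ)) (Y.presheaf.stalk ξ) (G.presheaf.stalk ξ) :=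
    IsScalarTower.of_algebraMap_smul fun _ _ => rfl
  obtain ⟨U, hU, e, he⟩ := InvX.exists_frame hG ξ
  let l : Y.presheaf.stalk ξ ≃ₗ[Y.presheaf.stalk ξ] G.presheaf.stalk ξ :=
    LinearEquiv.ofBijective (LinearMap.toSpanSingleton (Y.presheaf.stalk ξ) (G.presheaf.stalk ξ)
      (G.presheaf.germ U ξ hU e)) (he.germ_bijective hU)
  rw [← (l.restrictScalars (X.presheaf.stalk (f ξ))).finrank_eq]
  have hX : IsField (X.presheaf.stalk (f ξ)) := Triage.GenFinite.isField_stalk hdom
  have hY : IsField (Y.presheaf.stalk ξ) := Triage.GenFinite.isField_stalk rfl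
  letI := (f.residueFieldMap ξ).hom.toAlgebra
  refine Algebra.finrank_eq_of_equiv_equiv (RingEquiv.ofBijective _ (Triage.GenFinite.bijective_residue hX))
    (RingEquiv.ofBijective _ (Triage.GenFinite.bijective_residue hY)) ?_
  ext a
  exact congr($(Scheme.residue_residueFieldMap f ξ) a)

omit [IsIntegral X] [IsIntegral Y] in
/-- The direct image of a twist. -/
theorem h_pullback_twist (hf : f ≫ (X ↘ Spec (CommRingCat.of k)) = Y ↘ Spec (CommRingCat.of k))
    {G : Y.Modules} (hG : Coh.IsQCoh G) (hA : Acyclic f G) {L : X.Modules} (hL : PicF.IsInvertible L) (i m : ℕ) :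
    seq k G ((Scheme.Modules.pullback f).obj L) i m = seq k ((Coh.push f).obj G) L i m := by
  haveI : IsProper f := isProper_of_over k f hf
  have hP := InvX.isInvertible_tensorPow hL m
  have e1 : seq k G ((Scheme.Modules.pullback f).obj L) i m =
      h k (CohB1.tensorMod ((Scheme.Modules.pullback f).obj (CohB1.tensorPow L m)) G) i := by
    refine h_congr k (H23.PicMul.cl_eq_iff.1 ?_).some i
    have hc : ∀ M, PicF.cl ((Scheme.Modules.pullback f).obj M) = PicF.pullCl f (PicF.cl M) := fun M => rfl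
    simp only [H23.PicMul.cl_tensor, H23.PicMul.cl_tensorPow, hc, H23.PicMul.pullCl_pow]
    rw [mul_comm]
  rw [e1, h_push_eq f k hf (acyclic_tensor f hG hA hP) i]
  haveI := KFlatLib.hasInjectiveResolutions_modules (X := Y)
  haveI := SpObjSS.enoughInjectives_of_hasInjectiveResolutions (C := Y.Modules)
  haveI := QCoh.preservesFiniteLimits_push f
  obtain ⟨e⟩ := KFlatLib.nonempty_rpush_tensor_finLocFree f G (CohB1.tensorPow L m)
    (fun x => let ⟨U, hx, e⟩ := InvEnd.isFinLocFreeOfRank_one hP x; ⟨U, 1, hx, e⟩) 0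
  obtain ⟨e'⟩ := H23.PicMul.comm (CohB1.tensorPow L m) ((Coh.push f).obj G)
  let z := (Scheme.Modules.pushforward f).rightDerivedZeroIsoSelf
  let T : X.Modules ⥤ X.Modules := DCoh.tensorBi.obj (CohB1.tensorPow L m)
  exact (h_congr k ((z.app _).symm ≪≫ e.symm ≪≫ T.mapIso (z.app G) ≪≫ e') i)

end Groth.Agent.Growth22
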