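import Groth.Agent.S0554
import Groth.Agent.FibDim.LocDim
import Mathlib.RingTheory.QuasiFinite.Basic
import Mathlib.AlgebraicGeometry.ZariskisMainTheorem
import Mathlib.RingTheory.AlgebraicIndependent.Transcendental

/-! Dimension along generically quasi-finite morphisms from integral schemes. -/

set_option autoImplicit false
set_option linter.style.haveILetI false
set_option backward.isDefEq.respectTransparency false
set_option backward.isDefEq.respectTransparency.types false
set_option maxHeartbeats 1000000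

universe u

open CategoryTheory AlgebraicGeometry TopologicalSpace

namespace Groth.Agent.Growth22.QFDim

theorem height_le_domain {R S : Type u} [CommRing R] [IsDomain R] [IsNoetherianRing R] [CommRing S] [IsDomain S]
    [Algebra R S] [FaithfulSMul R S] [Algebra.FiniteType R S] [Algebra.QuasiFiniteAt R (⊥ : Ideal S)]
    (q : Ideal S) [q.IsPrime] : q.height ≤ (q.under R).height := by
  haveI : (⊥ : Ideal S).LiesOver (⊥ : Ideal R) :=
    ⟨(Ideal.comap_bot_of_injective _ (FaithfulSMul.algebraMap_injective R S)).symm⟩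
  haveI : Algebra.IsAlgebraic R S := by
    let := Localization.AtPrime.algebraOfLiesOver (⊥ : Ideal R) (⊥ : Ideal S)
    haveI : Module.Finite (⊥ : Ideal R).ResidueField (⊥ : Ideal S).ResidueField := inferInstance
    refine ⟨fun s => ?_⟩
    have h1 : IsAlgebraic (⊥ : Ideal R).ResidueField (algebraMap S (⊥ : Ideal S).ResidueField s) :=
      Algebra.IsAlgebraic.isAlgebraic _
    haveI : Algebra.IsAlgebraic R (R ⧸ (⊥ : Ideal R)) := Algebra.IsIntegral.isAlgebraic
    haveI : Algebra.IsAlgebraic (R ⧸ (⊥ : Ideal R)) (⊥ : Ideal R).ResidueField :=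
      IsLocalization.isAlgebraic _ (nonZeroDivisors (R ⧸ (⊥ : Ideal R)))
    haveI : Algebra.IsAlgebraic R (⊥ : Ideal R).ResidueField :=
      Algebra.IsAlgebraic.trans R (R ⧸ (⊥ : Ideal R)) _
    haveI : FaithfulSMul R (⊥ : Ideal R).ResidueField := (faithfulSMul_iff_algebraMap_injective _ _).2 (by
      rw [injective_iff_map_eq_zero]
      intro a ha
      exact Ideal.algebraMap_residueField_eq_zero.1 ha)
    have h2 : IsAlgebraic R (algebraMap S (⊥ : Ideal S).ResidueField s) := h1.restrictScalars R
    exact (isAlgebraic_algebraMap_iff (by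
      rw [injective_iff_map_eq_zero]
      intro a ha
      exact Ideal.algebraMap_residueField_eq_zero.1 ha)).1 h2
  have h := S0554.result R S (q.under R) q
  rw [trdeg_eq_zero (R := R) (A := S), add_zero] at h
  exact Cardinal.ofENat_le_ofENat.1 ((le_add_of_nonneg_right zero_le).trans h)

theorem height_le {A S : Type u} [CommRing A] [IsNoetherianRing A] [CommRing S] [IsDomain S]
    [Algebra A S] [Algebra.FiniteType A S] [Algebra.QuasiFiniteAt A (⊥ : Ideal S)]
    (q : Ideal S) [q.IsPrime] : q.height ≤ (q.under A).height := by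
  let P : Ideal A := RingHom.ker (algebraMap A S)
  haveI : P.IsPrime := RingHom.ker_isPrime _
  let R := A ⧸ P
  letI : Algebra R S := (RingHom.kerLift (algebraMap A S)).toAlgebra
  haveI : IsScalarTower A R S := IsScalarTower.of_algebraMap_eq fun _ => rfl
  haveI : FaithfulSMul R S := (faithfulSMul_iff_algebraMap_injective R S).2 (RingHom.kerLift_injective _)
  haveI : Algebra.FiniteType R S := Algebra.FiniteType.of_restrictScalars_finiteType A R S
  haveI : Algebra.QuasiFiniteAt R (⊥ : Ideal S) := Algebra.QuasiFinite.of_restrictScalars A R _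
  refine (height_le_domain (R := R) q).trans ?_
  have hc : (q.under R).comap (algebraMap A R) = q.under A := Ideal.under_under _
  rw [← hc]
  let p : PrimeSpectrum R := ⟨q.under R, inferInstance⟩
  show p.asIdeal.height ≤ (PrimeSpectrum.comap (algebraMap A R) p).asIdeal.height
  rw [PrimeSpectrum.height_eq_orderHeight, PrimeSpectrum.height_eq_orderHeight]
  refine Order.height_le_height_apply_of_strictMono _ ?_ p
  refine Monotone.strictMono_of_injective (fun a b h => Ideal.comap_mono h) ?_
  exact PrimeSpectrum.comap_injective_of_surjective _ Ideal.Quotient.mk_surjective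

/-- An integral scheme generically quasi-finite over `Y` has dimension at most that of `Y`. -/
theorem dim_le {Z Y : Scheme.{u}} [IsIntegral Z] [IsLocallyNoetherian Y] (g : Z ⟶ Y) [LocallyOfFiniteType g]
    (h : g.QuasiFiniteAt (genericPoint Z)) :
    topologicalKrullDim Z ≤ topologicalKrullDim Y := by
  haveI : IsLocallyNoetherian Z := LocallyOfFiniteType.isLocallyNoetherian g
  rw [FibDim.topologicalKrullDim_eq_iSup_codim, FibDim.topologicalKrullDim_eq_iSup_codim]
  refine iSup_le fun z => le_iSup_of_le (g z) ?_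
  refine le_trans (le_of_eq (DimFormula.ringKrullDim_stalk z).symm) (le_trans ?_
    (le_of_eq (DimFormula.ringKrullDim_stalk (g z))))
  obtain ⟨V, hV, hzV, -⟩ := exists_isAffineOpen_mem_and_subset (U := (⊤ : Y.Opens)) (x := g z) trivial
  obtain ⟨U, hU, hzU, hUV⟩ := exists_isAffineOpen_mem_and_subset (U := g ⁻¹ᵁ V) (x := z) hzV
  haveI : Nonempty U := ⟨⟨z, hzU⟩⟩
  haveI : IsNoetherianRing Γ(Y, V) := IsLocallyNoetherian.component_noetherian ⟨V, hV⟩
  have hξ : genericPoint Z ∈ U := (genericPoint_specializes z).mem_open U.2 hzU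
  have hq := h.quasiFiniteAt hU hV hUV hξ
  have hbot : (hU.primeIdealOf ⟨genericPoint Z, hξ⟩).asIdeal = ⊥ := by
    have e := hU.primeIdealOf_genericPoint
    rw [show hU.primeIdealOf ⟨genericPoint Z, hξ⟩ = genericPoint (Spec Γ(Z, U)) from e]
    exact congrArg PrimeSpectrum.asIdeal (genericPoint_eq_bot_of_affine Γ(Z, U))
  have hft : (g.appLE V U hUV).hom.FiniteType := g.finiteType_appLE hV hU hUV
  algebraize [(g.appLE V U hUV).hom]
  haveI : Algebra.QuasiFiniteAt Γ(Y, V) (⊥ : Ideal Γ(Z, U)) := by
    have hq' : Algebra.QuasiFiniteAt Γ(Y, V) (hU.primeIdealOf ⟨genericPoint Z, hξ⟩).asIdeal := hq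
    simpa only [hbot] using hq'
  letI := (Z.presheaf.germ U z hzU).hom.toAlgebra
  letI := (Y.presheaf.germ V (g z) hzV).hom.toAlgebra
  haveI : IsLocalization.AtPrime (Z.presheaf.stalk z) (hU.primeIdealOf ⟨z, hzU⟩).asIdeal :=
    hU.isLocalization_stalk ⟨z, hzU⟩
  haveI : IsLocalization.AtPrime (Y.presheaf.stalk (g z)) (hV.primeIdealOf ⟨g z, hzV⟩).asIdeal :=
    hV.isLocalization_stalk ⟨g z, hzV⟩
  rw [IsLocalization.AtPrime.ringKrullDim_eq_height (hU.primeIdealOf ⟨z, hzU⟩).asIdeal (Z.presheaf.stalk z),
    IsLocalization.AtPrime.ringKrullDim_eq_height (hV.primeIdealOf ⟨g z, hzV⟩).asIdeal (Y.presheaf.stalk (g z))]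
  have e : (hU.primeIdealOf ⟨z, hzU⟩).asIdeal.under Γ(Y, V) = (hV.primeIdealOf ⟨g z, hzV⟩).asIdeal :=
    congrArg PrimeSpectrum.asIdeal (IsAffineOpen.comap_primeIdealOf_appLE (f := g) V hV U hU hUV hzU)
  exact WithBot.coe_le_coe.2 ((height_le _).trans (le_of_eq (congrArg Ideal.height e)))

end Groth.Agent.Growth22.QFDim
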