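import Groth.Agent.Growth22.PnChi
import Groth.Agent.HQ47.MumfordInf
import Groth.Agent.Pic13Lib.Reg
import Groth.Agent.Pic13Lib.ProjNum
import Groth.Agent.Pic13Lib.EulerPush
import Groth.Agent.Pic13Lib.BddToReg
import Groth.Agent.SurfInt.Curve
import Groth.Agent.Lib.CurvePoint
import Groth.Agent.S1647

/-!
# Uniform bounds for the quotients of a free module with given Hilbert polynomial
-/

noncomputable section

set_option autoImplicit false
set_option linter.style.haveILetI false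
set_option linter.unusedSectionVars false
set_option maxHeartbeats 1000000
set_option backward.isDefEq.respectTransparency false
set_option backward.isDefEq.respectTransparency.types false

universe u

open CategoryTheory CategoryTheory.Limits AlgebraicGeometry TopologicalSpace Opposite
open Groth.Agent.H23.PicMul (cl_tensor cl_tensorPow cl_eq_iff)
open scoped Groth.Agent.H23.PicMul

attribute [local instance] HasDerivedCategory.standard

namespace Groth.Agent.Growth22

open Groth.Agent Groth.Agent.HQ47.Mumford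

/-- The short exact sequence of kernels of a composite with epimorphic first map. -/
theorem exists_shortExact_kernels {C : Type*} [Category C] [Abelian C] {A B D : C} (p : A ⟶ B) [Epi p] (g : B ⟶ D) :
    ∃ (a : kernel p ⟶ kernel (p ≫ g)) (b : kernel (p ≫ g) ⟶ kernel g) (w : a ≫ b = 0),
      (ShortComplex.mk a b w).ShortExact := by
  let a : kernel p ⟶ kernel (p ≫ g) := kernel.lift _ (kernel.ι p) (by simp)
  let b : kernel (p ≫ g) ⟶ kernel g := kernel.lift _ (kernel.ι (p ≫ g) ≫ p) (by simp)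
  have w : a ≫ b = 0 := by
    rw [← cancel_mono (kernel.ι g)]
    simp [a, b]
  haveI : Mono a := mono_of_mono_fac (kernel.lift_ι (p ≫ g) (kernel.ι p) _)
  haveI : Epi b := by
    rw [epi_iff_surjective_up_to_refinements]
    intro T y
    obtain ⟨T', r, hr, x, hx⟩ := surjective_up_to_refinements_of_epi p (y ≫ kernel.ι g)
    refine ⟨T', r, hr, kernel.lift (p ≫ g) x (by rw [← Category.assoc, ← hx]; simp), ?_⟩
    rw [← cancel_mono (kernel.ι g)]
    simp [b, hx]
  refine ⟨a, b, w, ShortComplex.ShortExact.mk' (ShortComplex.exact_of_f_is_kernel _ ?_) inferInstance inferInstance⟩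
  refine KernelFork.IsLimit.ofι a w
    (fun {W} x hx => kernel.lift p (x ≫ kernel.ι (p ≫ g)) ?_) (fun {W} x hx => ?_) (fun {W} x hx m hm => ?_)
  · have h := congrArg (· ≫ kernel.ι g) hx
    simpa [b] using h
  · rw [← cancel_mono (kernel.ι (p ≫ g))]
    simp [a]
  · rw [← cancel_mono a, hm, ← cancel_mono (kernel.ι (p ≫ g))]
    simp [a]

variable {k : Type u} [Field k] {n : ℕ}

theorem pow_hyp {X : Scheme.{u}} (j : X ⟶ CohB1.ProjSpace n k) (d : ℕ) :
    PicF.cl (Pic13Lib.hyp j 1) ^ d = PicF.cl (Pic13Lib.hyp j (d : ℤ)) := by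
  induction d with
  | zero => rw [pow_zero, Nat.cast_zero, Pic13Lib.cl_hyp_zero]
  | succ d ih => rw [pow_succ, ih, Pic13Lib.cl_hyp_add, Nat.cast_succ]

local notation "PP" => Proj (CohB1.polyGrading n k)

/-- The free module on projective space. -/
abbrev free (N : ℕ) : (PP).Modules := ∐ fun _ : Fin N => Coh.structureModule (PP)

theorem isCoh_free (N : ℕ) : Coh.IsCoh (free (k := k) (n := n) N) := by
  obtain ⟨φ⟩ := RegEpi.unitIso (k := k) (n := n)
  exact SheafHomX.isCoh_of_iso (Sigma.mapIso fun _ => φ.symm) (RegEpi.isCoh_sigma_twist N 0)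

theorem chi_free (N : ℕ) (d : ℤ) : chi (k := k) (free (n := n) N) d = chM N (n + 1) d := by
  haveI hP : IsNoetherian (PP) := Proj16.isNoetherian_proj _
  haveI := Abelian.hasFiniteBiproducts (C := (PP).Modules)
  obtain ⟨e⟩ := RegEpi.twF_sigma_unit_iso (k := k) (n := n) N d
  let A : (PP).Modules := Twist.twist (CohB1.polyGrading n k) d
  have hA : Coh.IsCoh A := CurveDeg.isCoh_of_isInvertible
    (PnCoh.Finite.isInvertible_twist (ProjRegular.coords k n) ProjRegular.coords_mem ProjRegular.coords_cover d)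
  let e' : (∐ fun _ : Fin N => A) ≅ ⨁ fun _ : ULift.{u} (Fin N) => A :=
    (biproduct.isoCoproduct _ ≪≫ (Sigma.whiskerEquiv (f := fun _ : Fin N => A)
      (g := fun _ : ULift.{u} (Fin N) => A) Equiv.ulift.symm fun _ => Iso.refl _).symm).symm
  rw [chi, euler_iso (e ≪≫ e'), Pic13Lib.additive_biproduct (HilbPoly.additive_euler k)
    (fun M hM => by rw [Euler.euler_eq_sum k M 0 fun i _ => Euler.subsingleton_HH_of_isZero hM i]; simp) hA N, chM]
  exact congrArg ((N : ℤ) * ·) (euler_twist k n d)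

theorem isMRegular_free (N : ℕ) : Curv2.IsMRegular k n (free (n := n) N) 0 := by
  intro i hi hin
  obtain ⟨e⟩ := RegEpi.twF_sigma_unit_iso (k := k) (n := n) N (0 - (i : ℤ))
  exact QCoh.subsingleton_HH_of_iso e.symm i
    (RegEpi.subsingleton_HH_sigma_twist N _ i (fun h => by omega) (fun h => by omega))

theorem exists_vanishing_pn {J : (PP).Modules} (hJ : Coh.IsCoh J) :
    ∃ d₀ : ℤ, ∀ d, d₀ ≤ d → ∀ q, 1 ≤ q → Subsingleton (Coh.HH (PP) ((RegEpi.twF d).obj J) q) := by
  have h : ∀ q : Fin n, ∃ d₀ : ℤ, ∀ d, d₀ ≤ d → Subsingleton (Coh.HH (PP) ((RegEpi.twF d).obj J) (q + 1)) :=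
    fun q => RegDescent.exists_vanishing_twF hJ _ q.1.succ_pos
  choose d₀ hd₀ using h
  refine ⟨∑ q, |d₀ q|, fun d hd q hq => ?_⟩
  rcases le_or_gt q n with hqn | hqn
  · have h1 : |d₀ ⟨q - 1, by omega⟩| ≤ ∑ q, |d₀ q| :=
      Finset.single_le_sum (fun i _ => abs_nonneg (d₀ i)) (Finset.mem_univ _)
    have h2 := hd₀ ⟨q - 1, by omega⟩ d (by have := le_abs_self (d₀ ⟨q - 1, by omega⟩); omega)
    rwa [show q - 1 + 1 = q by omega] at h2
  · exact ProjRegular.subsingleton_HH_high hJ d q hqn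

/-- Vanishing of the twists of a regular module. -/
theorem vanish_of_regular {K : (PP).Modules} (hK : Coh.IsCoh K) {m : ℤ} (h : Curv2.IsMRegular k n K m)
    (d : ℤ) (q : ℕ) (hq : 1 ≤ q) (hd : m ≤ d + q) : Subsingleton (Coh.HH (PP) ((RegEpi.twF d).obj K) q) := by
  rcases le_or_gt q n with hqn | hqn
  · obtain ⟨e, he⟩ : ∃ e : ℕ, (e : ℤ) = d + q - m := ⟨(d + q - m).toNat, Int.toNat_of_nonneg (by omega)⟩
    have := ProjRegular.isMRegular_add hK h e q hq hqn
    rwa [show m + (e : ℤ) - (q : ℤ) = d by omega] at this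
  · exact ProjRegular.subsingleton_HH_high hK d q hqn

/-- The twists of the kernel sequence of an epimorphism. -/
theorem twist_seq {A B : (PP).Modules} (ψ : A ⟶ B) [Epi ψ] (d : ℤ) :
    (RegDescent.twSeq (ShortComplex.mk (kernel.ι ψ) ψ (kernel.condition ψ)) d).ShortExact :=
  RegDescent.twSeq_exact (ProjRegular.coords k n) ProjRegular.coords_mem ProjRegular.coords_cover
    ({ exact := ShortComplex.exact_of_f_is_kernel _ (kernelIsKernel ψ) } :
      (ShortComplex.mk (kernel.ι ψ) ψ (kernel.condition ψ)).ShortExact) d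

theorem chi_add {A B : (PP).Modules} (ψ : A ⟶ B) [Epi ψ] (hA : Coh.IsCoh A) (hB : Coh.IsCoh B) (d : ℤ) :
    chi (k := k) A d = chi (k := k) (kernel ψ) d + chi (k := k) B d := by
  haveI hP : IsNoetherian (PP) := Proj16.isNoetherian_proj _
  have h := (HilbPoly.additive_euler k).add _ (twist_seq ψ d)
    (ProjRegular.isCoh_twistBy (QCoh.isCoh_kernel hA hB ψ) d) (ProjRegular.isCoh_twistBy hA d)
    (ProjRegular.isCoh_twistBy hB d)
  exact h

/-- Vanishing of the cokernel from the middle and one higher degree of the kernel. -/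
theorem vanish_of_seq {S : ShortComplex (PP).Modules} (hS : S.ShortExact) (d : ℤ) (i : ℕ)
    (h₂ : Subsingleton (Coh.HH (PP) ((RegEpi.twF d).obj S.X₂) i))
    (h₁ : Subsingleton (Coh.HH (PP) ((RegEpi.twF d).obj S.X₁) (i + 1))) :
    Subsingleton (Coh.HH (PP) ((RegEpi.twF d).obj S.X₃) i) :=
  PnCoh.Finite.subsingleton_HH_X₃
    (RegDescent.twSeq_exact (ProjRegular.coords k n) ProjRegular.coords_mem ProjRegular.coords_cover hS d) i h₂ h₁

variable {X : Scheme.{u}} [X.Over (Spec (CommRingCat.of k))] [IsProper (X ↘ Spec (CommRingCat.of k))]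
  (j : X ⟶ CohB1.ProjSpace n k) [IsClosedImmersion j]
  (hj : j ≫ CohB1.ProjSpace.toSpec n k = X ↘ Spec (CommRingCat.of k))

include hj in
/-- Quotients of `O^N` with a fixed Hilbert polynomial: they and their kernels are uniformly regular. -/
theorem exists_uniform_quot [IsAlgClosed k] (N : ℕ) (P : Polynomial ℚ) :
    ∃ l₀ : ℕ, ∀ (F : X.Modules) (q : FlatMod.freeMod X N ⟶ F), Coh.IsCoh F → Epi q →
      (∀ m : ℕ, (Curv2.euler k X (Pic13.twistOn k j F (m : ℤ)) : ℚ) = P.eval (m : ℚ)) →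
        ∀ l : ℕ, l₀ ≤ l →
          (∀ i : ℕ, 0 < i → Subsingleton (Coh.HH X (Pic13.twistOn k j F (l : ℤ)) i)) ∧
          (∀ i : ℕ, 0 < i → Subsingleton (Coh.HH X (Pic13.twistOn k j (kernel q) (l : ℤ)) i)) ∧
          Curv2.IsGloballyGenerated (Pic13.twistOn k j (kernel q) (l : ℤ)) := by
  classical
  haveI hP : IsNoetherian (PP) := Proj16.isNoetherian_proj _
  haveI : IsNoetherian (CohB1.ProjSpace n k) := hP
  haveI := Pic13Lib.isNoetherian j
  haveI : PreservesFiniteColimits (Scheme.Modules.pushforward j) :=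
    ⟨fun J _ _ => KFlatLib.preservesColimitsOfShape_push j J⟩
  haveI : (Scheme.Modules.pushforward j).Additive := Functor.additive_of_preserves_binary_products _
  let Φ := Scheme.Modules.pushforward j
  -- the projection of the free module
  obtain ⟨e₁⟩ := SurfInt.nonempty_quotMod_ker j
  let ε : Coh.structureModule (CohB1.ProjSpace n k) ⟶ Φ.obj (Coh.structureModule X) :=
    ClSub.toSubscheme j.ker ≫ e₁.hom
  haveI : Epi (ClSub.toSubscheme j.ker) := CurvePoint.epi_toSubscheme _
  haveI : Epi ε := epi_comp _ _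
  let π₀ : free (k := k) (n := n) N ⟶ Φ.obj (FlatMod.freeMod X N) :=
    Limits.Sigma.map (fun _ => ε) ≫ (PreservesCoproduct.iso Φ fun _ : Fin N => Coh.structureModule X).inv
  haveI : Epi π₀ := epi_comp _ _
  have hcM := isCoh_free (k := k) (n := n) N
  have hfree : Coh.IsCoh (FlatMod.freeMod X N) := by
    haveI := Abelian.hasFiniteBiproducts (C := X.Modules)
    exact SheafHomX.isCoh_of_iso (biproduct.isoCoproduct _ ≪≫
      (Sigma.whiskerEquiv (f := fun _ : Fin N => Coh.structureModule X)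
        (g := fun _ : ULift.{u} (Fin N) => Coh.structureModule X) Equiv.ulift.symm fun _ => Iso.refl _).symm)
      (QCoh.isCoh_biproduct _ fun _ => QCoh.isCoh_structureModule')
  have hcP : Coh.IsCoh (Φ.obj (FlatMod.freeMod X N)) := Pic13Lib.isCoh_push j hfree
  obtain ⟨d₀, hd₀⟩ := exists_vanishing_pn (QCoh.isCoh_kernel hcM hcP π₀)
  let f : ℤ → ℤ := fun d => chM N (n + 1) d - ⌊P.eval (d : ℚ)⌋
  let m₁ := Rb N (n + 1) f
  refine ⟨(max (max m₁ d₀) 0 + n).toNat, fun F q hF _ hP' l hl => ?_⟩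
  have hl1 : m₁ + n ≤ (l : ℤ) := by omega
  have hl2 : d₀ + n ≤ (l : ℤ) := by omega
  have hcG : Coh.IsCoh (kernel q) := QCoh.isCoh_kernel hfree hF q
  haveI : Epi (Φ.map q) := inferInstance
  let ψ : free (k := k) (n := n) N ⟶ Φ.obj F := π₀ ≫ Φ.map q
  haveI : Epi ψ := epi_comp _ _
  have hcK : Coh.IsCoh (kernel ψ) := QCoh.isCoh_kernel hcM (Pic13Lib.isCoh_push j hF) ψ
  -- the Hilbert polynomial at every integer
  obtain ⟨D, hD⟩ := VarBase.exists_dim_le (X := X) k
  obtain ⟨Q, -, hQ⟩ := Pic13Lib.exists_poly_int j hj hF hD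
  obtain rfl : P = Q := by
    refine Polynomial.eq_of_infinite_eval_eq P Q
      ((Set.infinite_range_of_injective (Nat.cast_injective (R := ℚ))).mono ?_)
    rintro x ⟨m, rfl⟩
    show P.eval (m : ℚ) = Q.eval (m : ℚ)
    rw [← hP' m, hQ (m : ℤ), Int.cast_natCast]
  have hchi : ∀ d : ℤ, chi (k := k) (Φ.obj F) d = ⌊P.eval (d : ℚ)⌋ := fun d => by
    rw [← hQ d, Int.floor_intCast]
    exact (Pic13Lib.euler_push_of_equiv fun r => Pic13Lib.exists_twistEquiv j hj hF d r).symm
  have hchiK : chi (k := k) (kernel ψ) = f := funext fun d => by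
    show chi (k := k) (kernel ψ) d = chM N (n + 1) d - ⌊P.eval (d : ℚ)⌋
    rw [← chi_free (k := k), chi_add ψ hcM (Pic13Lib.isCoh_push j hF) d, hchi]
    ring
  obtain ⟨-, hreg⟩ := isMRegular_of_mono N (n + 1) (kernel ψ) (free (n := n) N) hcK hcM (kernel.ι ψ) inferInstance
    (isMRegular_free N) (chi_free N)
  rw [hchiK] at hreg
  -- vanishing for `F`
  have hvF : ∀ i : ℕ, 1 ≤ i → Subsingleton (Coh.HH X (Pic13.twistOn k j F (l : ℤ)) i) := fun i hi => by
    refine (Pic13Lib.subsingleton_twistOn_iff j hj hF _ i).2 ?_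
    refine vanish_of_seq (S := ShortComplex.mk (kernel.ι ψ) ψ (kernel.condition ψ))
      { exact := ShortComplex.exact_of_f_is_kernel _ (kernelIsKernel ψ) } (l : ℤ) i ?_ ?_
    · exact vanish_of_regular hcM (isMRegular_free N) _ i hi (by omega)
    · exact vanish_of_regular hcK hreg _ (i + 1) (by omega) (by omega)
  -- vanishing and regularity for the kernel
  obtain ⟨a, b, w, hS₁⟩ := exists_shortExact_kernels π₀ (Φ.map q)
  let eG : Φ.obj (kernel q) ≅ kernel (Φ.map q) := PreservesKernel.iso Φ q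
  have hvG : ∀ (d : ℤ) (i : ℕ), 1 ≤ i → m₁ ≤ d + i → d₀ ≤ d →
      Subsingleton (Coh.HH (PP) ((RegEpi.twF d).obj (Φ.obj (kernel q))) i) := fun d i hi h1 h2 => by
    refine QCoh.subsingleton_HH_of_iso ((RegEpi.twF d).mapIso eG).symm i ?_
    refine vanish_of_seq hS₁ d i ?_ ?_
    · exact vanish_of_regular hcK hreg d i hi h1
    · exact hd₀ d h2 (i + 1) (by omega)
  refine ⟨fun i hi => hvF i hi, fun i hi =>
    (Pic13Lib.subsingleton_twistOn_iff j hj hcG _ i).2 (hvG _ i hi (by omega) (by omega)), ?_⟩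
  obtain ⟨ι, p, hp⟩ := S1647.result k n _ (Pic13Lib.isCoh_push j hcG) (l : ℤ) fun i hi hin =>
    hvG _ i hi (by omega) (by omega)
  haveI := hp
  obtain ⟨e⟩ := Pic13Lib.push_twistOn j (kernel q) (l : ℤ)
  haveI := AmpleVan.isIso_counit j (Pic13Lib.isCoh_twistOn j hcG (l : ℤ)).1
  obtain ⟨ι', p', hp'⟩ := Pic13Lib.isGloballyGenerated_pullback j
    (M := Φ.obj (Pic13.twistOn k j (kernel q) (l : ℤ))) ⟨ι, p ≫ e.hom, inferInstance⟩
  haveI := hp'
  exact ⟨ι', p' ≫ (Scheme.Modules.pullbackPushforwardAdjunction j).counit.app _, inferInstance⟩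

end Groth.Agent.Growth22
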