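import Groth.Agent.Growth22.Lip
import Groth.Agent.Snapper.DimVanish
import Groth.Agent.AmpleVan.Uniform
import Groth.Agent.InvX.GenLocus

/-!
# Growth of the cohomology above the dimension of the stable base locus
-/

noncomputable section

set_option linter.style.haveILetI false
set_option linter.unusedSectionVars false
set_option maxHeartbeats 1000000
set_option backward.isDefEq.respectTransparency false
set_option backward.isDefEq.respectTransparency.types false

universe u

open CategoryTheory CategoryTheory.Limits AlgebraicGeometry TopologicalSpace Opposite Filter Topology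
open scoped Groth.Agent.H23.PicMul

namespace Groth.Agent.Growth22

open Groth.Agent

/-- A bound on the steps of length `a` gives a bound one degree higher. -/
theorem tendsto_zero_of_step {u w : ℕ → ℕ} {a : ℕ} (ha : 0 < a) {e : ℕ}
    (hw : Tendsto (nrm 1 e w) atTop (𝓝 0)) (h : ∀ m, u (m + a) ≤ u m + w m) :
    Tendsto (nrm 1 (e + 1) u) atTop (𝓝 0) := by
  refine Metric.tendsto_atTop.2 fun ε hε => ?_
  obtain ⟨N₀, hN₀⟩ := Metric.tendsto_atTop.1 hw (ε / 2) (by linarith)
  let N := N₀ + 1
  let c := ∑ j ∈ Finset.range (N + a), u j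
  have hwle : ∀ m, N ≤ m → (w m : ℝ) ≤ ε / 2 * (m : ℝ) ^ e := fun m hm => by
    have h1 := hN₀ m (by omega)
    have hm0 : (0 : ℝ) < (m : ℝ) ^ e := pow_pos (by exact_mod_cast (by omega : 0 < m)) e
    rw [Real.dist_eq, sub_zero, nrm, mul_one, abs_of_nonneg (by positivity), div_lt_iff₀ hm0] at h1
    exact h1.le
  have key : ∀ m, (u m : ℝ) ≤ (c : ℝ) + ε / 2 * (m : ℝ) ^ (e + 1) := by
    intro m
    induction m using Nat.strong_induction_on with
    | _ m ih =>
      rcases lt_or_ge m (N + a) with hm | hm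
      · have h1 : u m ≤ c := Finset.single_le_sum (fun j _ => Nat.zero_le (u j)) (Finset.mem_range.2 hm)
        have : (u m : ℝ) ≤ c := by exact_mod_cast h1
        have : 0 ≤ ε / 2 * (m : ℝ) ^ (e + 1) := by positivity
        linarith
      · obtain ⟨j, rfl⟩ : ∃ j, m = j + a := ⟨m - a, by omega⟩
        have h1 : (u (j + a) : ℝ) ≤ u j + w j := by exact_mod_cast h j
        have h2 := ih j (by omega)
        have h3 := hwle j (by omega)
        have h4 : (j : ℝ) ^ (e + 1) + (j : ℝ) ^ e ≤ ((j + a : ℕ) : ℝ) ^ (e + 1) := by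
          have hja : (j : ℝ) + 1 ≤ ((j + a : ℕ) : ℝ) := by exact_mod_cast (by omega : j + 1 ≤ j + a)
          calc (j : ℝ) ^ (e + 1) + (j : ℝ) ^ e = ((j : ℝ) + 1) * (j : ℝ) ^ e := by ring
            _ ≤ ((j + a : ℕ) : ℝ) * ((j + a : ℕ) : ℝ) ^ e := by gcongr; linarith
            _ = _ := by ring
        nlinarith
  obtain ⟨N₁, hN₁⟩ := exists_nat_gt ((c : ℝ) * 2 / ε)
  refine ⟨N₁ + 1, fun m hm => ?_⟩
  have hm0 : (0 : ℝ) < m := by exact_mod_cast (by omega : 0 < m)
  have hp : (0 : ℝ) < (m : ℝ) ^ (e + 1) := pow_pos hm0 _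
  rw [Real.dist_eq, sub_zero, nrm, mul_one, abs_of_nonneg (by positivity), div_lt_iff₀ hp]
  have h1 : (c : ℝ) < ε / 2 * (m : ℝ) ^ (e + 1) := by
    have hlt : (c : ℝ) * 2 / ε < (m : ℝ) := lt_of_lt_of_le hN₁ (by exact_mod_cast (by omega : N₁ ≤ m))
    rw [div_lt_iff₀ hε] at hlt
    have : (m : ℝ) ≤ (m : ℝ) ^ (e + 1) := le_self_pow₀ (by exact_mod_cast (by omega : 1 ≤ m)) (by omega)
    nlinarith
  have := key m
  linarith

theorem tendsto_zero_of_le_add {u v w : ℕ → ℕ} {e : ℕ} (hv : Tendsto (nrm 1 e v) atTop (𝓝 0))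
    (hw : Tendsto (nrm 1 e w) atTop (𝓝 0)) (h : ∀ m, u m ≤ v m + w m) :
    Tendsto (nrm 1 e u) atTop (𝓝 0) := by
  refine squeeze_zero (fun m => ?_) (fun m => ?_) (by simpa using hv.add hw)
  · rw [nrm]; positivity
  · simp only [nrm, mul_one, ← add_div]
    gcongr
    exact_mod_cast h m

variable {X : Scheme.{u}}

theorem isClosed_baseLocus (L : X.Modules) : IsClosed (W4c5asymptcohfn.baseLocus X L) := by
  have : W4c5asymptcohfn.baseLocus X L =
      ⋂ s : Coh.structureModule X ⟶ L, ((CohB1.genLocus L s : X.Opens) : Set X)ᶜ := by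
    ext x; simp [W4c5asymptcohfn.baseLocus]
  rw [this]
  exact isClosed_iInter fun s => (CohB1.genLocus L s).2.isClosed_compl

theorem isClosed_stableBaseLocus (L : X.Modules) : IsClosed (W4c5asymptcohfn.stableBaseLocus X L) :=
  isClosed_iInter fun _ => isClosed_baseLocus _

/-- A section is an isomorphism on the stalks of its generating locus. -/
theorem isoOn_genLocus {L : X.Modules} (s : Coh.structureModule X ⟶ L) :
    Snapper.IsoOn (CohB1.genLocus L s) s := fun x hx => by
  obtain ⟨U, hxU, he⟩ := InvX.mem_genLocus hx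
  let F := DerSch.stalkFunctor X x
  let one : F.obj (Coh.structureModule X) :=
    (Coh.structureModule X).presheaf.germ U x hxU (show Γ(Coh.structureModule X, U) from (1 : Γ(X, U)))
  let e₀ : F.obj L := L.presheaf.germ U x hxU (AModX.res L (le_top : U ≤ ⊤) (InvX.one s))
  have h1 : F.map s one = e₀ := by
    refine (TopCat.Presheaf.stalkFunctor_map_germ_apply U x hxU ((Scheme.Modules.toPresheaf X).map s) _).trans ?_
    exact congrArg (L.presheaf.germ U x hxU) ((InvX.app_eq_smul s (1 : Γ(X, U))).trans (one_smul _ _))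
  have hval : ∀ c : X.presheaf.stalk x, F.map s (c • one) = c • e₀ := fun c => by
    rw [map_smul (F.map s).hom, h1]
  refine (ConcreteCategory.isIso_iff_bijective _).2 ⟨fun p q hpq => ?_, fun q => ?_⟩
  · obtain ⟨c, rfl⟩ := ((InvX.isFrame_one (X := X) U).germ_bijective (x := x) hxU).2 p
    obtain ⟨d, rfl⟩ := ((InvX.isFrame_one (X := X) U).germ_bijective (x := x) hxU).2 q
    rw [(he.germ_bijective hxU).1 (((hval c).symm.trans hpq).trans (hval d))]
  · obtain ⟨c, rfl⟩ := (he.germ_bijective hxU).2 q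
    exact ⟨c • one, hval c⟩

/-- A coherent module supported in `A ∪ B` is an extension of modules supported in `A` and in `B`. -/
theorem exists_split [IsNoetherian X] {M : X.Modules} (hM : Coh.IsCoh M) (A B : Closeds X)
    (hsub : CohB1.support M ⊆ ↑A ∪ ↑B) :
    ∃ (K I : X.Modules) (a : K ⟶ M) (b : M ⟶ I) (w : a ≫ b = 0), (ShortComplex.mk a b w).ShortExact ∧
      Coh.IsCoh K ∧ Coh.IsCoh I ∧ CohB1.support K ⊆ CohB1.support M ∩ ↑B ∧
      CohB1.support I ⊆ CohB1.support M ∩ ↑A := by
  let V : X.Opens := ⟨(B : Set X)ᶜ, B.isClosed.isOpen_compl⟩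
  have hQ : Coh.IsQCoh ((Scheme.Modules.pushforward V.ι).obj (M.restrict V.ι)) :=
    QCoh.isQCoh_pushforward _ (QCoh.isQCoh_restrict _ hM.1)
  let π := Abelian.factorThruImage (Snapper.resMap V M)
  have hI : Coh.IsCoh (Abelian.image (Snapper.resMap V M)) :=
    QCoh.isCoh_of_epi π hM (QCoh.isQCoh_kernel hQ (QCoh.isQCoh_cokernel hM.1 hQ _) _)
  have hK := QCoh.isCoh_kernel hM hI π
  refine ⟨kernel π, _, kernel.ι π, π, kernel.condition π,
    .mk' (ShortComplex.exact_of_f_is_kernel _ (kernelIsKernel π)) inferInstance inferInstance, hK, hI,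
    fun x hx => ⟨QCoh.mem_support_of_mono hK.1 hM.1 (kernel.ι π) hx, ?_⟩,
    fun x hx => ⟨QCoh.support_of_epi hM.1 hI.1 π hx, ?_⟩⟩
  · by_contra hxB
    haveI := Snapper.isoOn_resMap V M x hxB
    let F := DerSch.stalkFunctor X x
    haveI : Mono (F.map π) := by
      have e : F.map π ≫ F.map (Abelian.image.ι (Snapper.resMap V M)) = F.map (Snapper.resMap V M) := by
        rw [← F.map_comp, Abelian.image.fac]
      haveI : Mono (F.map π ≫ F.map (Abelian.image.ι (Snapper.resMap V M))) := e ▸ inferInstance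
      exact mono_of_mono _ (F.map (Abelian.image.ι (Snapper.resMap V M)))
    exact Snapper.notMem_support_kernel π inferInstance hx
  · by_contra hxA
    have hP := QCoh.mem_support_of_mono hI.1 hQ (Abelian.image.ι (Snapper.resMap V M)) hx
    refine Snapper.notMem_support_push (W := ⟨(A : Set X)ᶜ, A.isClosed.isOpen_compl⟩) hxA ?_ hP
    exact Set.disjoint_left.2 fun y hy hyM => (hsub hyM).elim hy.1 hy.2

theorem support_tensor_subset_left {E F : X.Modules} :
    CohB1.support (CohB1.tensorMod E F) ⊆ CohB1.support E := fun x hx => by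
  obtain ⟨e⟩ := H23.PicMul.cl_eq_iff.1 (show PicF.cl (CohB1.tensorMod E F) = PicF.cl (CohB1.tensorMod F E) by
    rw [H23.PicMul.cl_tensor, H23.PicMul.cl_tensor, mul_comm])
  exact CurveTensor.support_tensor_subset (E := F) (F := E) fun hs => hx
    (@Equiv.subsingleton _ _ (((DerSch.stalkFunctor X x).mapIso e).toLinearEquiv.toEquiv) hs)

variable (k : Type u) [Field k] [X.Over (Spec (CommRingCat.of k))] [IsProper (X ↘ Spec (CommRingCat.of k))]

/-- Only `h^{i+1}` of the kernel and `h^i` of the cokernel bound `h^i` of a target. -/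
theorem h_target_le [IsLocallyNoetherian X] {A B : X.Modules} (hA : Coh.IsCoh A) (hB : Coh.IsCoh B)
    (φ : A ⟶ B) (i : ℕ) : h k B i ≤ h k A i + (h k (kernel φ) (i + 1) + h k (cokernel φ) i) := by
  have hI := isCoh_image hA hB φ
  have b1 := h_X₂_le k (shortExact_image_cokernel φ) hI hB (QCoh.isCoh_cokernel hA.1 hB φ) i
  have b2 := h_X₃_le k (shortExact_kernel_image φ) (QCoh.isCoh_kernel hA hB φ) hA hI i
  dsimp only at b1 b2
  omega

/-- The bound for the sequences. -/
theorem seq_target_le [IsNoetherian X] {L : X.Modules} (hL : PicF.IsInvertible L) {A B : X.Modules}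
    (hA : Coh.IsCoh A) (hB : Coh.IsCoh B) (φ : A ⟶ B) (i m : ℕ) :
    seq k B L i m ≤ seq k A L i m + (seq k (kernel φ) L (i + 1) m + seq k (cokernel φ) L i m) := by
  let T := AmpleVan.tw (CohB1.tensorPow L m)
  haveI := AmpleVan.isEquivalence_tw (InvX.isInvertible_tensorPow hL m)
  haveI : T.Additive := Functor.additive_of_preserves_binary_products _
  have hTA : Coh.IsCoh (T.obj A) := AmpleVan.isCoh_tensor hA (AmpleVan.isCoh_invertible (InvX.isInvertible_tensorPow hL m))
  have hTB : Coh.IsCoh (T.obj B) := AmpleVan.isCoh_tensor hB (AmpleVan.isCoh_invertible (InvX.isInvertible_tensorPow hL m))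
  have := h_target_le k hTA hTB (T.map φ) i
  rw [h_congr k (PreservesKernel.iso T φ).symm, h_congr k (PreservesCokernel.iso T φ).symm] at this
  exact this

/-- Above the dimension of the stable base locus the cohomology of the powers grows slowly. -/
theorem tendsto_seq_stableLocus {L : X.Modules} (hL : PicF.IsInvertible L) (d : ℕ)
    (hd : topologicalKrullDim ↥(W4c5asymptcohfn.stableBaseLocus X L) ≤ (d : WithBot ℕ∞)) :
    ∀ (C : Closeds X) (e : ℕ), topologicalKrullDim ↥(C : Set X) < ((e + 1 : ℕ) : WithBot ℕ∞) →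
      ∀ M : X.Modules, Coh.IsCoh M → CohB1.support M ⊆ C → ∀ i, d < i →
        Tendsto (nrm 1 e (seq k M L i)) atTop (𝓝 0) := by
  haveI := CurveCohLib.isNoetherian_of_proper (k := k) (X := X)
  haveI : X.IsSeparated := AmpleVan.isSeparated_of_proper (A := k)
  have hpow := fun m => InvX.isInvertible_tensorPow hL m
  have hvan : ∀ (C : Closeds X) (i : ℕ), topologicalKrullDim ↥(C : Set X) < (i : WithBot ℕ∞) →
      ∀ M : X.Modules, Coh.IsCoh M → CohB1.support M ⊆ C → ∀ m, seq k M L i m = 0 := fun C i hC M hM hMC m => by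
    haveI := Snapper.subsingleton_HH_of_dim_lt i C hC _
      (AmpleVan.isCoh_tensor hM (AmpleVan.isCoh_invertible (hpow m))).1
      (fun x hx => hMC (support_tensor_subset_left hx)) i le_rfl
    exact Module.finrank_zero_of_subsingleton
  intro C
  induction C using WellFoundedLT.induction with
  | ind C IH =>
    intro e hC M hM hMC i hi
    have hzero : (∀ m, seq k M L i m = 0) → Tendsto (nrm 1 e (seq k M L i)) atTop (𝓝 0) := fun h =>
      tendsto_const_nhds.congr fun m => by simp [nrm, h m]
    rcases Set.eq_empty_or_nonempty (C : Set X) with h0 | hne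
    · refine hzero fun m => ?_
      have hz : IsZero M := CurveCohLib.isZero_of_subsingleton_stalks fun x => not_not.1 fun hx =>
        (h0 ▸ hMC hx : x ∈ (∅ : Set X)).elim
      haveI := AmpleVan.isEquivalence_tw (hpow m)
      exact h_eq_zero_of_isZero k ((AmpleVan.tw (CohB1.tensorPow L m)).map_isZero hz) i
    rcases e with _ | e
    · exact hzero (hvan C i (lt_of_lt_of_le hC (by exact_mod_cast (by omega : 0 + 1 ≤ i))) M hM hMC)
    by_cases hirr : IsIrreducible (C : Set X)
    · obtain ⟨η, hη⟩ := QuasiSober.sober hirr C.isClosed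
      by_cases hηB : η ∈ W4c5asymptcohfn.stableBaseLocus X L
      · have hCB : (C : Set X) ⊆ W4c5asymptcohfn.stableBaseLocus X L := by
          rw [← hη.def]
          exact closure_minimal (Set.singleton_subset_iff.2 hηB) (isClosed_stableBaseLocus L)
        exact hzero (hvan C i (lt_of_le_of_lt ((H23.TopDim.dim_le_dim_of_subset hCB).trans hd)
          (by exact_mod_cast hi)) M hM hMC)
      · obtain ⟨a, s, hs⟩ : ∃ (a : ℕ) (s : Coh.structureModule X ⟶ CohB1.tensorPow L (a + 1)),
            η ∈ CohB1.genLocus _ s := by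
          simpa [W4c5asymptcohfn.stableBaseLocus, W4c5asymptcohfn.baseLocus] using hηB
        let U := CohB1.genLocus _ s
        let B := (AmpleVan.tw M).obj (CohB1.tensorPow L (a + 1))
        let e₀ : M ≅ (AmpleVan.tw M).obj (Coh.structureModule X) := (CurveTensor.structureTensorIso M).symm
        let φ : M ⟶ B := e₀.hom ≫ (AmpleVan.tw M).map s
        have hφ : Snapper.IsoOn U φ := fun x hx => by
          haveI : IsIso ((DerSch.stalkFunctor X x).map ((AmpleVan.tw M).map s)) :=
            (isoOn_genLocus s).tensor M x hx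
          rw [Functor.map_comp]
          exact IsIso.comp_isIso
        have hB : Coh.IsCoh B := AmpleVan.isCoh_tensor (AmpleVan.isCoh_invertible (hpow _)) hM
        let C' : Closeds X := ⟨(C : Set X) ∩ (U : Set X)ᶜ, C.isClosed.inter U.2.isClosed_compl⟩
        have hlt : C' < C := lt_of_le_of_ne (fun x hx => hx.1) fun hEq => (hEq.ge hη.mem).2 hs
        have hC' : topologicalKrullDim ↥(C' : Set X) < ((e + 1 : ℕ) : WithBot ℕ∞) :=
          dim_lt_of_irreducible hirr hC U.2.isClosed_compl fun h => h hη.mem hs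
        obtain ⟨hk, hc⟩ := Snapper.support_subset_compl hφ
        obtain ⟨hk', hc'⟩ := Snapper.support_sub_of_map hM hB φ
        have hK := QCoh.isCoh_kernel hM hB φ
        have hQ := QCoh.isCoh_cokernel hM.1 hB φ
        have h1 := IH C' hlt e hC' _ hK (fun x hx => ⟨hMC (hk' hx), hk hx⟩) (i + 1) (by omega)
        have h2 := IH C' hlt e hC' _ hQ
          (fun x hx => ⟨hMC (CurveTensor.support_tensor_subset (hc' hx)), hc hx⟩) i hi
        refine tendsto_zero_of_step (Nat.succ_pos a) (w := fun m => seq k (kernel φ) L (i + 1) m +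
          seq k (cokernel φ) L i m) (tendsto_zero_of_le_add h1 h2 fun m => le_rfl) fun m => ?_
        refine le_trans (le_of_eq (h_congr k (H23.PicMul.cl_eq_iff.1 ?_).some i)) (seq_target_le k hL hM hB φ i m)
        show PicF.cl (CohB1.tensorMod M (CohB1.tensorPow L (m + (a + 1)))) =
          PicF.cl (CohB1.tensorMod (CohB1.tensorMod (CohB1.tensorPow L (a + 1)) M) (CohB1.tensorPow L m))
        simp only [H23.PicMul.cl_tensor, H23.PicMul.cl_tensorPow, pow_add]
        ac_rfl
    · obtain ⟨A, B, hA, hB, hsub, hnA, hnB⟩ : ∃ A B : Set X, IsClosed A ∧ IsClosed B ∧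
          (C : Set X) ⊆ A ∪ B ∧ ¬ (C : Set X) ⊆ A ∧ ¬ (C : Set X) ⊆ B := by
        by_contra! hno
        exact hirr ⟨hne, isPreirreducible_iff_isClosed_union_isClosed.2 fun A B hA hB hs =>
          or_iff_not_imp_left.2 fun hA' => hno A B hA hB hs hA'⟩
      let CA : Closeds X := ⟨(C : Set X) ∩ A, C.isClosed.inter hA⟩
      let CB : Closeds X := ⟨(C : Set X) ∩ B, C.isClosed.inter hB⟩
      have hltA : CA < C := lt_of_le_of_ne (fun x hx => hx.1) fun hEq => hnA fun x hx => (hEq.ge hx).2
      have hltB : CB < C := lt_of_le_of_ne (fun x hx => hx.1) fun hEq => hnB fun x hx => (hEq.ge hx).2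
      obtain ⟨K, I, p, q, w, hS, hK, hI, sK, sI⟩ := exists_split hM CA CB
        fun x hx => (hsub (hMC hx)).imp (fun h => ⟨hMC hx, h⟩) (fun h => ⟨hMC hx, h⟩)
      have h1 := IH CB hltB (e + 1)
        (lt_of_le_of_lt (H23.TopDim.dim_le_dim_of_subset fun x hx => hx.1) hC) K hK (fun x hx => (sK hx).2) i hi
      have h2 := IH CA hltA (e + 1)
        (lt_of_le_of_lt (H23.TopDim.dim_le_dim_of_subset fun x hx => hx.1) hC) I hI (fun x hx => (sI hx).2) i hi
      refine tendsto_zero_of_le_add h1 h2 fun m => ?_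
      let T := AmpleVan.tw (CohB1.tensorPow L m)
      haveI := AmpleVan.isEquivalence_tw (hpow m)
      haveI : T.Additive := Functor.additive_of_preserves_binary_products _
      exact h_X₂_le k (hS.map_of_exact T) (AmpleVan.isCoh_tensor hK (AmpleVan.isCoh_invertible (hpow m)))
        (AmpleVan.isCoh_tensor hM (AmpleVan.isCoh_invertible (hpow m)))
        (AmpleVan.isCoh_tensor hI (AmpleVan.isCoh_invertible (hpow m))) i

end Groth.Agent.Growth22
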