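import Groth.Agent.Lib.ProjRegularPn
import Groth.Agent.Growth22.StableLocus
import Groth.Agent.RPSM.CohSupport
import Groth.Agent.GrothVanish.Main
import Groth.Agent.QCoh.Support
import Mathlib.Algebra.Homology.ShortComplex.HomologicalComplex

/-!
# Regularity of the cokernel of a complex with small higher homology
-/

universe u

set_option backward.isDefEq.respectTransparency false
set_option backward.isDefEq.respectTransparency.types false
set_option linter.style.haveILetI false
set_option maxHeartbeats 1000000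

open CategoryTheory CategoryTheory.Limits AlgebraicGeometry TopologicalSpace Opposite
open Groth.Agent Groth.Agent.PnCoh.Finite Groth.Agent.ProjRegular

noncomputable section

namespace Groth.Agent.Growth22.RegCx

/-- Cohomology of a coherent module vanishes above the dimension of its support. -/
theorem subsingleton_HH_of_dim_support {X : Scheme.{u}} [IsNoetherian X] {M : X.Modules}
    (hM : Coh.IsCoh M) {d : ℕ} (hd : topologicalKrullDim (CohB1.support M) ≤ d) {q : ℕ} (hq : d < q) :
    Subsingleton (Coh.HH X M q) := by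
  let C : Closeds X := ⟨CohB1.support M, QCoh.isClosed_support_of_isFT hM.1 hM.2⟩
  let J := Scheme.IdealSheafData.vanishingIdeal C
  have hr : Set.range J.subschemeι = CohB1.support M := by
    rw [Scheme.IdealSheafData.range_subschemeι, Scheme.IdealSheafData.coe_support_vanishingIdeal]
    rfl
  refine RPSM.subsingleton_HH_of_support J.subschemeι (k := d) (fun G _ i hi => ?_) hM hr.ge hq
  haveI : IsLocallyNoetherian J.subscheme := LocallyOfFiniteType.isLocallyNoetherian J.subschemeι
  haveI : CompactSpace J.subscheme := J.subschemeι.isClosedEmbedding.compactSpace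
  haveI : IsNoetherian J.subscheme := {}
  haveI : NoetherianSpace J.subscheme.toPresheafedSpace.carrier := (inferInstance : NoetherianSpace J.subscheme)
  refine GrothVanish.subsingleton_H_of_dim_lt (X := J.subscheme.toPresheafedSpace.carrier) (d := d) ?_ (Coh.toAb G) hi
  refine le_trans (le_of_eq ?_) hd
  exact IsHomeomorph.topologicalKrullDim_eq _
    ((J.subschemeι.isEmbedding.toHomeomorph).trans (Homeomorph.setCongr hr)).isHomeomorph

variable {k : Type u} [Field k] {n : ℕ}

/-- The twist. -/
abbrev tw (F : (CohB1.ProjSpace n k).Modules) (t : ℤ) : (CohB1.ProjSpace n k).Modules :=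
  CohB1.tensorMod F (Twist.twistProjSpace n k t)

variable {E : ChainComplex ((CohB1.ProjSpace n k).Modules) ℕ} (hcoh : ∀ s : ℕ, Coh.IsCoh (E.X s))

theorem isCoh_image' {A B : (CohB1.ProjSpace n k).Modules} (hA : Coh.IsCoh A) (hB : Coh.IsCoh B) (φ : A ⟶ B) :
    Coh.IsCoh (Abelian.image φ) := by
  haveI : IsNoetherian (CohB1.ProjSpace n k) := Proj16.isNoetherian_proj _
  exact QCoh.isCoh_kernel hB (QCoh.isCoh_cokernel hA.1 hB φ) _

include hcoh in
/-- The descending chase. -/
theorem subsingleton_image {t : ℕ} (hbdd : ∀ s : ℕ, t < s → IsZero (E.X s)) {d : ℤ}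
    (hreg : ∀ s : ℕ, Curv2.IsMRegular k n (E.X s) (d + s))
    (hsupp : ∀ i : ℕ, 0 < i → topologicalKrullDim (CohB1.support (E.homology i)) ≤ 1) :
    ∀ (r s : ℕ), t ≤ s + r → ∀ q : ℕ, 1 ≤ q →
      Subsingleton (Coh.HH (CohB1.ProjSpace n k) (tw (Abelian.image (E.d (s + 1) s)) (d + s + 1 - q)) q) := by
  haveI hP : IsNoetherian (CohB1.ProjSpace n k) := Proj16.isNoetherian_proj _
  intro r
  induction r with
  | zero =>
    intro s hs q hq
    have hz : E.d (s + 1) s = 0 := (hbdd (s + 1) (by omega)).eq_of_src _ _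
    have hI : IsZero (Abelian.image (E.d (s + 1) s)) :=
      IsZero.of_mono_eq_zero (Abelian.image.ι (E.d (s + 1) s))
        (by rw [← cancel_epi (Abelian.factorThruImage (E.d (s + 1) s)), Abelian.image.fac, hz, comp_zero])
    exact RPSM.subsingleton_HH_of_isZero
      (M := (DCoh.tensorBi.flip.obj (Twist.twistProjSpace n k (d + (s : ℤ) + 1 - (q : ℤ)))).obj (Abelian.image (E.d (s + 1) s)))
      ((DCoh.tensorBi.flip.obj (Twist.twistProjSpace n k (d + (s : ℤ) + 1 - (q : ℤ)))).map_isZero hI) q
  | succ r ih =>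
    intro s hs q hq
    let g := E.d (s + 1) s
    let f := E.d (s + 1 + 1) (s + 1)
    have hfg : f ≫ g = 0 := E.d_comp_d _ _ _
    let T₁ : ShortComplex (CohB1.ProjSpace n k).Modules :=
      ShortComplex.mk (kernel.ι g) (Abelian.factorThruImage g) (by
        rw [← cancel_mono (Abelian.image.ι g), Category.assoc, Abelian.image.fac, kernel.condition, zero_comp])
    have hT₁ : T₁.ShortExact :=
      { exact := by
          refine ShortComplex.exact_of_f_is_kernel _ (KernelFork.IsLimit.ofι' _ _ fun a ha => ?_)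
          exact ⟨kernel.lift g a (by rw [← Abelian.image.fac g, reassoc_of% ha, zero_comp]), kernel.lift_ι _ _ _⟩ }
    let u : Abelian.image f ⟶ kernel g := kernel.lift g (Abelian.image.ι f) (by
      rw [← cancel_epi (Abelian.factorThruImage f), ← Category.assoc, Abelian.image.fac, hfg, comp_zero])
    haveI : Mono u := mono_of_mono_fac (kernel.lift_ι _ _ _)
    let T₂ : ShortComplex (CohB1.ProjSpace n k).Modules := ShortComplex.mk u (cokernel.π u) (cokernel.condition u)
    have hT₂ : T₂.ShortExact := { exact := ShortComplex.exact_of_g_is_cokernel _ (cokernelIsCokernel u) }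
    have hIf := isCoh_image' (hcoh (s + 1 + 1)) (hcoh (s + 1)) f
    have hKg : Coh.IsCoh (kernel g) := QCoh.isCoh_kernel (hcoh (s + 1)) (hcoh s) g
    have hCu : Coh.IsCoh (cokernel u) := QCoh.isCoh_cokernel hIf.1 hKg u
    have hlift : Abelian.factorThruImage f ≫ u = kernel.lift g f hfg := by
      rw [← cancel_mono (kernel.ι g), Category.assoc, kernel.lift_ι, Abelian.image.fac]
      exact (kernel.lift_ι _ _ _).symm
    let e : E.homology (s + 1) ≅ cokernel u :=
      (E.homologyIsoSc' (s + 1 + 1) (s + 1) s (by simp) (by simp)) ≪≫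
      (ShortComplex.LeftHomologyData.ofHasKernelOfHasCokernel (E.sc' (s + 1 + 1) (s + 1) s)).homologyIso ≪≫
      cokernelIsoOfEq hlift.symm ≪≫ cokernelEpiComp _ _
    have hsub : CohB1.support (cokernel u) = CohB1.support (E.homology (s + 1)) :=
      QCoh.support_iso e.symm hCu.1
    have hH : Subsingleton (Coh.HH (CohB1.ProjSpace n k) (tw (cokernel u) (d + s + 1 - q)) (q + 1)) := by
      refine subsingleton_HH_of_dim_support (isCoh_twistBy hCu _) (d := 1) ?_ (show 1 < q + 1 by omega)
      refine le_trans ?_ (hsupp (s + 1) (Nat.succ_pos s))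
      rw [← hsub]
      exact (Topology.IsEmbedding.inclusion support_tensor_subset_left).isInducing.topologicalKrullDim_le
    have hB : Subsingleton (Coh.HH (CohB1.ProjSpace n k) (tw (Abelian.image f) (d + s + 1 - q)) (q + 1)) := by
      have := ih (s + 1) (by omega) (q + 1) (by omega)
      rwa [show d + ((s + 1 : ℕ) : ℤ) + 1 - ((q + 1 : ℕ) : ℤ) = d + s + 1 - q by push_cast; ring] at this
    have hE : Subsingleton (Coh.HH (CohB1.ProjSpace n k) (tw (E.X (s + 1)) (d + s + 1 - q)) q) := by
      rcases le_or_gt q n with hqn | hqn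
      · have := hreg (s + 1) q hq hqn
        rwa [show d + ((s + 1 : ℕ) : ℤ) - (q : ℤ) = d + s + 1 - q by push_cast; ring] at this
      · exact subsingleton_HH_high (hcoh _) _ q hqn
    have hK := QCoh.subsingleton_HH_X₂ (shortExact_twistBy (coords k n) coords_mem coords_cover (d + s + 1 - q) hT₂)
      (q + 1) hB hH
    exact subsingleton_HH_X₃ (shortExact_twistBy (coords k n) coords_mem coords_cover (d + s + 1 - q) hT₁) q hE hK

include hcoh in
theorem regular {t : ℕ} (hbdd : ∀ s : ℕ, t < s → IsZero (E.X s)) {d : ℤ}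
    (hreg : ∀ s : ℕ, Curv2.IsMRegular k n (E.X s) (d + s))
    (hsupp : ∀ i : ℕ, 0 < i → topologicalKrullDim (CohB1.support (E.homology i)) ≤ 1) :
    Curv2.IsMRegular k n (cokernel (E.d 1 0)) d ∧ Curv2.IsMRegular k n (Abelian.image (E.d 1 0)) (d + 1) := by
  have h : ∀ q : ℕ, 1 ≤ q → Subsingleton (Coh.HH (CohB1.ProjSpace n k) (tw (Abelian.image (E.d 1 0)) (d + 1 - q)) q) :=
    fun q hq => by
      have := subsingleton_image hcoh hbdd hreg hsupp t 0 (by omega) q hq
      rwa [show d + ((0 : ℕ) : ℤ) + 1 - (q : ℤ) = d + 1 - q by simp] at this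
  refine ⟨fun q hq hqn => ?_, fun q hq _ => h q hq⟩
  let T : ShortComplex (CohB1.ProjSpace n k).Modules :=
    ShortComplex.mk (Abelian.image.ι (E.d 1 0)) (cokernel.π (E.d 1 0)) (kernel.condition _)
  have hT : T.ShortExact := { exact := ShortComplex.exact_of_f_is_kernel _ (kernelIsKernel _) }
  have hE : Subsingleton (Coh.HH (CohB1.ProjSpace n k) (tw (E.X 0) (d - q)) q) := by
    have := hreg 0 q hq hqn
    rwa [show d + ((0 : ℕ) : ℤ) - (q : ℤ) = d - q by simp] at this
  have hB := h (q + 1) (by omega)
  rw [show d + 1 - ((q + 1 : ℕ) : ℤ) = d - q by push_cast; ring] at hB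
  exact subsingleton_HH_X₃ (shortExact_twistBy (coords k n) coords_mem coords_cover (d - q) hT) q hE hB

end Groth.Agent.Growth22.RegCx
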