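import Groth.Agent.Growth22.Lip
import Groth.Agent.HilbPoly.Pos
import Groth.Agent.AmpleVan.Uniform
import Groth.Agent.Lib.InvEnd
import Groth.Agent.AssLib.Apply
import Mathlib.Analysis.Polynomial.Basic

/-!
# Sections of powers: monotonicity, bigness, ample lower bounds
-/

noncomputable section

set_option linter.style.haveILetI false
set_option linter.unusedSectionVars false
set_option maxHeartbeats 1000000
set_option backward.isDefEq.respectTransparency false
set_option backward.isDefEq.respectTransparency.types false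

universe u

open CategoryTheory CategoryTheory.Limits AlgebraicGeometry TopologicalSpace Opposite Filter Topology
open scoped Groth.Agent.H23.PicMul
open Groth.Agent.PnCoh.Finite (mapLin)

namespace Groth.Agent.Growth22

open Groth.Agent

variable (k : Type u) [Field k] {X : Scheme.{u}} [X.Over (Spec (CommRingCat.of k))]
  [IsProper (X ↘ Spec (CommRingCat.of k))]

theorem h_X₁_zero_le {S : ShortComplex X.Modules} (hS : S.ShortExact) (h₁ : Coh.IsCoh S.X₁)
    (h₂ : Coh.IsCoh S.X₂) : h k S.X₁ 0 ≤ h k S.X₂ 0 := by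
  haveI := finite_HH k h₁ 0
  haveI := finite_HH k h₂ 0
  have e1 := (mapLin k S.f 0).finrank_range_add_finrank_ker
  have hr : Module.finrank k (LinearMap.range (mapLin k S.f 0)) ≤ h k S.X₂ 0 := Submodule.finrank_le _
  rw [Euler.ker_mapLin_f_zero k hS, finrank_bot] at e1
  unfold h at hr ⊢
  omega

/-- Monomorphisms are injective on global sections. -/
theorem h_zero_le_of_mono {A B : X.Modules} (hA : Coh.IsCoh A) (hB : Coh.IsCoh B) (φ : A ⟶ B) [Mono φ] :
    h k A 0 ≤ h k B 0 :=
  h_X₁_zero_le k (S := ShortComplex.mk φ (cokernel.π φ) (cokernel.condition φ))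
    (.mk' (ShortComplex.exact_of_g_is_cokernel _ (cokernelIsCokernel φ)) ‹_› inferInstance) hA hB

omit [IsProper (X ↘ Spec (CommRingCat.of k))] in
/-- A nonzero class in degree zero is a nonzero map out of the structure module. -/
theorem exists_hom_of_nontrivial {M : X.Modules} (hM : Nontrivial (Coh.HH X M 0)) :
    ∃ s : Coh.structureModule X ⟶ M, s ≠ 0 := by
  haveI : Nontrivial Γ(M, ⊤) := (Sheaf.H.equiv₀ (Coh.toAb M) isTerminalTop).toEquiv.symm.nontrivial
  obtain ⟨y, hy⟩ := exists_ne (0 : Γ(M, ⊤))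
  refine ⟨QCoh.homOfTop y, fun h0 => hy ?_⟩
  have h1 := congrArg (fun φ : Coh.structureModule X ⟶ M => φ.app ⊤ (1 : Γ(X, ⊤))) h0
  refine Eq.trans ?_ h1
  refine Eq.symm ((QCoh.homOfTop_app y (1 : Γ(X, ⊤))).trans ((one_smul _ _).trans ?_))
  exact ConcreteCategory.congr_hom (M.presheaf.map_id _) y

theorem exists_hom_of_pos {M : X.Modules} (hM : 0 < h k M 0) : ∃ s : Coh.structureModule X ⟶ M, s ≠ 0 :=
  exists_hom_of_nontrivial (Module.nontrivial_of_finrank_pos (R := k) hM)

omit [IsProper (X ↘ Spec (CommRingCat.of k))] in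
theorem nontrivial_of_pos {M : X.Modules} (hM : 0 < h k M 0) : Nontrivial (Coh.HH X M 0) :=
  Module.nontrivial_of_finrank_pos (R := k) hM

/-- A nonzero section of an invertible module on an integral scheme gives monomorphisms. -/
theorem mono_tensor [IsIntegral X] {N : X.Modules} (hN : PicF.IsInvertible N)
    {s : Coh.structureModule X ⟶ N} (hs : s ≠ 0) (P : X.Modules) (hP : PicF.IsInvertible P) :
    ∃ φ : (AmpleVan.tw P).obj (Coh.structureModule X) ⟶ (AmpleVan.tw P).obj N, Mono φ := by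
  haveI hs' : Mono s := InvEnd.mono_of_ne_zero (PicLoc.isInvertible_structureModule X) hN s hs
  haveI hE := AmpleVan.isEquivalence_tw hP
  have hm : Mono ((AmpleVan.tw P).map s) := (AmpleVan.tw P).map_mono s
  exact ⟨(AmpleVan.tw P).map s, hm⟩

/-- Twisting by an effective module increases sections. -/
theorem h_zero_le_tensor [IsIntegral X] {N : X.Modules} (hN : PicF.IsInvertible N)
    {s : Coh.structureModule X ⟶ N} (hs : s ≠ 0) {A B : X.Modules} (hA : PicF.IsInvertible A)
    (hAB : PicF.cl B = PicF.cl N * PicF.cl A) : h k A 0 ≤ h k B 0 := by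
  haveI := CurveCohLib.isNoetherian_of_proper (k := k) (X := X)
  obtain ⟨φ, hφ⟩ := mono_tensor hN hs A hA
  have hNA := H23.PicMul.isInvertible_tensor hN hA
  obtain ⟨e⟩ := H23.PicMul.cl_eq_iff.1 (show PicF.cl (CohB1.tensorMod N A) = PicF.cl B by rw [hAB, H23.PicMul.cl_tensor])
  have hc1 : Coh.IsCoh ((AmpleVan.tw A).obj (Coh.structureModule X)) :=
    AmpleVan.isCoh_tensor QCoh.isCoh_structureModule' (AmpleVan.isCoh_invertible hA)
  have hc2 : Coh.IsCoh ((AmpleVan.tw A).obj N) := AmpleVan.isCoh_tensor (AmpleVan.isCoh_invertible hN) (AmpleVan.isCoh_invertible hA)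
  have := h_zero_le_of_mono k hc1 hc2 φ
  exact ((h_congr k (CurveTensor.structureTensorIso A) 0).symm.trans_le this).trans_eq (h_congr k e 0)

theorem tensorPow_section_ne_zero [IsIntegral X] {N : X.Modules} (hN : PicF.IsInvertible N)
    {s : Coh.structureModule X ⟶ N} (hs : s ≠ 0) (j : ℕ) :
    ∃ t : Coh.structureModule X ⟶ CohB1.tensorPow N j, Mono t := by
  induction j with
  | zero => exact ⟨𝟙 _, show Mono (𝟙 (Coh.structureModule X)) from inferInstance⟩
  | succ j ih =>
    obtain ⟨t, ht⟩ := ih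
    have hP := InvX.isInvertible_tensorPow hN j
    obtain ⟨φ, hφ⟩ := mono_tensor hN hs (CohB1.tensorPow N j) hP
    obtain ⟨e⟩ := H23.PicMul.cl_eq_iff.1 (show PicF.cl (CohB1.tensorMod N (CohB1.tensorPow N j)) =
      PicF.cl (CohB1.tensorPow N (j + 1)) by
        simp only [H23.PicMul.cl_tensor, H23.PicMul.cl_tensorPow, pow_succ'])
    haveI := ht
    haveI := hφ
    exact ⟨t ≫ (CurveTensor.structureTensorIso (CohB1.tensorPow N j)).inv ≫ φ ≫ e.hom, inferInstance⟩

/-- Sections grow at least like the top power on an ample polarisation. -/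
theorem exists_ample_lower {L : X.Modules} (hL : CohB1.IsAmple L) {d : ℕ} (hd : topologicalKrullDim X = d) :
    ∃ c : ℝ, 0 < c ∧ ∀ᶠ m : ℕ in atTop, c * (m : ℝ) ^ d ≤ (h k (CohB1.tensorPow L m) 0 : ℝ) := by
  haveI := CurveCohLib.isNoetherian_of_proper (k := k) (X := X)
  have hO := QCoh.isCoh_structureModule' (X := X)
  have hsupp : topologicalKrullDim ↥(CohB1.support (Coh.structureModule X)) = (d : WithBot ℕ∞) := by
    rw [show CohB1.support (Coh.structureModule X) = Set.univ from Set.eq_univ_of_forall fun x hsub => ?_]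
    · rw [← hd]; exact (Homeomorph.Set.univ ↥X).isHomeomorph.topologicalKrullDim_eq
    · obtain ⟨e⟩ := AssLib.nonempty_stalkUnitEquiv (X := X) x
      exact not_subsingleton (X.presheaf.stalk x) (@Equiv.subsingleton _ _ e.toEquiv hsub)
  obtain ⟨P, hP, hdeg, halpha⟩ :=
    HilbPoly.exists_poly (HilbPoly.additive_euler k) hL.1 hO (d := d) hsupp.le
  have hpos : 0 < HilbPoly.mult k L d (Coh.structureModule X) :=
    (HilbPoly.mult_nonneg_and_pos k hL d _ hO hsupp.le).2 hsupp
  have hcoef : 0 < P.coeff d := by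
    have h1 : 0 < StabCat.alpha d P := by rw [halpha]; exact_mod_cast hpos
    rw [StabCat.alpha] at h1
    exact (pos_iff_pos_of_mul_pos h1).1 (by exact_mod_cast d.factorial_pos)
  obtain ⟨d₀, hd₀⟩ := AmpleVan.exists_vanishing (A := k) hL hO
  have hh : ∀ m, d₀ ≤ m → (h k (CohB1.tensorPow L m) 0 : ℚ) = P.eval (m : ℚ) := fun m hm => by
    rw [← hP m]
    have h1 : Curv2.euler k X (HilbPoly.pw L (Coh.structureModule X) m) = (h k (CohB1.tensorPow L m) 0 : ℤ) := by
      rw [Euler.euler_eq_sum k _ 1 fun i hi => by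
        obtain ⟨j, rfl⟩ := Nat.exists_eq_add_of_le hi
        rw [add_comm]; exact hd₀ m hm j, Finset.sum_range_one, pow_zero, one_mul]
      exact congrArg _ (h_congr k (CurveTensor.structureTensorIso _) 0)
    rw [h1]; norm_num
  refine ⟨(P.coeff d : ℝ) / 2, by positivity, ?_⟩
  let Q := P.map (Rat.castHom ℝ)
  have hQd : Q.natDegree ≤ d := Polynomial.natDegree_map_le.trans hdeg
  have hQc : Q.coeff d = (P.coeff d : ℝ) := Polynomial.coeff_map _ _
  have hlim : Tendsto (fun m : ℕ => Q.eval (m : ℝ) / (m : ℝ) ^ d) atTop (𝓝 (P.coeff d : ℝ)) := by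
    have h1 : ∀ m : ℕ, 1 ≤ m → Q.eval (m : ℝ) / (m : ℝ) ^ d =
        ∑ j ∈ Finset.range (d + 1), Q.coeff j * ((m : ℝ)⁻¹) ^ (d - j) := fun m hm => by
      have hm' : (m : ℝ) ≠ 0 := by positivity
      rw [Polynomial.eval_eq_sum_range' (Nat.lt_succ_of_le hQd), Finset.sum_div]
      refine Finset.sum_congr rfl fun j hj => ?_
      rw [Finset.mem_range] at hj
      rw [inv_pow, mul_div_assoc]
      congr 1
      rw [div_eq_iff (pow_ne_zero _ hm'), ← div_eq_inv_mul, eq_div_iff (pow_ne_zero _ hm'), ← pow_add]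
      congr 1
      omega
    have h2 : Tendsto (fun m : ℕ => ∑ j ∈ Finset.range (d + 1), Q.coeff j * ((m : ℝ)⁻¹) ^ (d - j)) atTop
        (𝓝 (∑ j ∈ Finset.range (d + 1), Q.coeff j * (0 : ℝ) ^ (d - j))) :=
      tendsto_finsetSum _ fun j _ => (tendsto_inv_atTop_nhds_zero_nat.pow _).const_mul _
    rw [Finset.sum_eq_single d (fun j hj hne => by
      rw [Finset.mem_range] at hj
      rw [zero_pow (by omega), mul_zero]) (by simp), Nat.sub_self, pow_zero, mul_one, hQc] at h2
    exact h2.congr' ((eventually_ge_atTop 1).mono fun m hm => (h1 m hm).symm)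
  filter_upwards [(tendsto_order.1 hlim).1 _ (half_lt_self (show (0 : ℝ) < P.coeff d by exact_mod_cast hcoef)),
    eventually_ge_atTop 1, eventually_ge_atTop d₀] with m h1 hm hm0
  have hm' : (0 : ℝ) < (m : ℝ) ^ d := by positivity
  rw [lt_div_iff₀ hm'] at h1
  refine h1.le.trans (le_of_eq ?_)
  have h2 : ((h k (CohB1.tensorPow L m) 0 : ℚ) : ℝ) = ((P.eval (m : ℚ) : ℚ) : ℝ) := congrArg _ (hh m hm0)
  rw [Rat.cast_natCast] at h2
  rw [h2]
  show Polynomial.eval ((m : ℕ) : ℝ) (P.map (Rat.castHom ℝ)) = _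
  rw [← map_natCast (Rat.castHom ℝ) m, Polynomial.eval_map_apply]
  rfl

/-- Some multiple of a big module dominates any invertible module. -/
theorem exists_hom_of_limsup_pos {L : X.Modules} (hL : PicF.IsInvertible L)
    {d : ℕ} (hd : topologicalKrullDim X = d) {A' : X.Modules} (hA' : PicF.IsInvertible A') [IsIntegral X]
    (hbig : 0 < limsup (nrm 1 d (seq k (Coh.structureModule X) L 0)) atTop) :
    ∃ m, 0 < m ∧ 0 < h k (CohB1.tensorMod A' (CohB1.tensorPow L m)) 0 := by
  haveI := CurveCohLib.isNoetherian_of_proper (k := k) (X := X)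
  obtain ⟨U, hU, e, he⟩ := InvX.exists_frame hA' (genericPoint X)
  have hnear : ∃ e, SmN d e ∧ ∀ m, seq k (Coh.structureModule X) L 0 m ≤ seq k A' L 0 m + e m ∧
      seq k A' L 0 m ≤ seq k (Coh.structureModule X) L 0 m + e m := by
    obtain ⟨K, I, p, q, s, hK, hI, hp, hq, hs⟩ := Snapper.exists_link_frame hA' he
    have hd' : topologicalKrullDim ↥((Set.univ : Set X) \ U) < (d : WithBot ℕ∞) :=
      dim_lt_of_irreducible (IrreducibleSpace.isIrreducible_univ ↥X)
        (lt_of_le_of_lt ((topologicalKrullDim_subspace_le _ _).trans hd.le) (by exact_mod_cast Nat.lt_succ_self d))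
        U.2.isClosed_compl fun h => h (Set.mem_univ (genericPoint X)) hU
    have hn : ∀ {A B : X.Modules}, Coh.IsCoh A → Coh.IsCoh B → ∀ φ : A ⟶ B, Snapper.IsoOn U φ →
        ∃ e, SmN d e ∧ ∀ m, seq k A L 0 m ≤ seq k B L 0 m + e m ∧ seq k B L 0 m ≤ seq k A L 0 m + e m :=
      fun hA hB φ hφ => seq_near k hL hA hB φ
        (Small.of_subset (isClosed_univ.sdiff U.2) hd' fun x hx => ⟨trivial, (Snapper.support_subset_compl hφ).1 hx⟩)
        (Small.of_subset (isClosed_univ.sdiff U.2) hd' fun x hx => ⟨trivial, (Snapper.support_subset_compl hφ).2 hx⟩) 0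
    obtain ⟨e1, he1, h1⟩ := hn hK QCoh.isCoh_structureModule' p hp
    obtain ⟨e2, he2, h2⟩ := hn hK hI q hq
    obtain ⟨e3, he3, h3⟩ := hn (AmpleVan.isCoh_invertible hA') hI s hs
    refine ⟨fun m => e1 m + e2 m + e3 m, ?_, fun m => ?_⟩
    · cases d with
      | zero => exact fun m => by show e1 m + e2 m + e3 m = 0; rw [he1 m, he2 m, he3 m]
      | succ d =>
        obtain ⟨a, ha⟩ := he1; obtain ⟨b, hb⟩ := he2; obtain ⟨c, hc⟩ := he3
        exact ⟨a + b + c, fun m => by rw [add_mul, add_mul]; exact Nat.add_le_add (Nat.add_le_add (ha m) (hb m)) (hc m)⟩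
    · have a1 := h1 m; have a2 := h2 m; have a3 := h3 m
      show seq k (Coh.structureModule X) L 0 m ≤ seq k A' L 0 m + (e1 m + e2 m + e3 m) ∧
        seq k A' L 0 m ≤ seq k (Coh.structureModule X) L 0 m + (e1 m + e2 m + e3 m)
      omega
  obtain ⟨e', he', hcmp⟩ := hnear
  have hO := QCoh.isCoh_structureModule' (X := X)
  rw [limsup_nrm_congr (seq_growth k hL (AmpleVan.isCoh_invertible hA') (small_top hd.le A') 0) he' hcmp] at hbig
  by_contra hcon
  refine hbig.ne' (Filter.Tendsto.limsup_eq (tendsto_const_nhds.congr' ?_))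
  filter_upwards [eventually_gt_atTop 0] with m hm
  have : seq k A' L 0 m = 0 := Nat.eq_zero_of_not_pos fun hp => hcon ⟨m, hm, hp⟩
  simp [nrm, this]

/-- Domination of an ample module gives positive lower growth. -/
theorem liminf_pos_of_dominates [IsIntegral X] {L A A' : X.Modules} (hL : PicF.IsInvertible L)
    (hA : CohB1.IsAmple A) (hA' : PicF.IsInvertible A') (hinv : PicF.cl A' * PicF.cl A = 1)
    {d : ℕ} (hd : topologicalKrullDim X = d) {m : ℕ} (hm : 0 < m)
    (hsec : Nontrivial (Coh.HH X (CohB1.tensorMod A' (CohB1.tensorPow L m)) 0)) :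
    0 < liminf (nrm 1 d (seq k (Coh.structureModule X) L 0)) atTop := by
  haveI := CurveCohLib.isNoetherian_of_proper (k := k) (X := X)
  obtain ⟨s, hs⟩ := exists_hom_of_nontrivial hsec
  let N := CohB1.tensorMod A' (CohB1.tensorPow L m)
  have hN : PicF.IsInvertible N := H23.PicMul.isInvertible_tensor hA' (InvX.isInvertible_tensorPow hL m)
  obtain ⟨c, hc, hlow⟩ := exists_ample_lower k hA hd
  have hle : ∀ j, h k (CohB1.tensorPow A j) 0 ≤ seq k (Coh.structureModule X) L 0 (m * j) := fun j => by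
    obtain ⟨t, ht⟩ := tensorPow_section_ne_zero hN hs j
    have ht0 : t ≠ 0 := fun h0 => by
      haveI := ht
      subst h0
      have h1 : (𝟙 (Coh.structureModule X) : _ ⟶ _) = 0 :=
        (cancel_mono (0 : Coh.structureModule X ⟶ CohB1.tensorPow N j)).1 (by simp)
      have h2 : ((1 : Γ(X, ⊤)) : Γ(X, ⊤)) = 0 :=
        congrArg (fun φ : Coh.structureModule X ⟶ Coh.structureModule X => φ.app ⊤ (1 : Γ(X, ⊤))) h1
      exact one_ne_zero h2
    rw [seq_structure]
    refine h_zero_le_tensor k (InvX.isInvertible_tensorPow hN j) ht0 (InvX.isInvertible_tensorPow hA.1 j) ?_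
    simp only [H23.PicMul.cl_tensorPow, N, H23.PicMul.cl_tensor, pow_mul, ← mul_pow]
    rw [mul_comm (PicF.cl A'), mul_assoc, hinv, mul_one]
  obtain ⟨e, he, hstep⟩ := seq_step k hL (QCoh.isCoh_structureModule' (X := X)) (small_top hd.le _) 0
  have hgrow := seq_growth k hL (QCoh.isCoh_structureModule' (X := X)) (small_top hd.le _) 0
  have ht := tendsto_nrm_sub_mul_div (K := (1 : ℝ)) hm hgrow he hstep
  have hm' : (0 : ℝ) < m := by exact_mod_cast hm
  have hpos : 0 < c / (m : ℝ) ^ d / 2 := by positivity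
  refine lt_of_lt_of_le hpos (le_liminf_of_le (bdd_of_abs (nrm_abs_le (K := (1 : ℝ)) hgrow).choose_spec).1.isCoboundedUnder_ge ?_)
  have hdiv : Tendsto (fun n => n / m) atTop atTop := (Filter.map_div_atTop_eq_nat m hm).le
  filter_upwards [(tendsto_order.1 ht).1 _ (neg_lt_zero.2 hpos), hdiv.eventually hlow,
    hdiv.eventually (eventually_ge_atTop 1)] with n h1 h2 h3
  have hq : c / (m : ℝ) ^ d ≤ nrm 1 d (seq k (Coh.structureModule X) L 0) (m * (n / m)) := by
    have h3' : (0 : ℝ) < (n / m : ℕ) := by exact_mod_cast h3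
    rw [nrm, mul_one, Nat.cast_mul, mul_pow, div_le_div_iff₀ (by positivity) (by positivity)]
    calc c * ((m : ℝ) ^ d * ((n / m : ℕ) : ℝ) ^ d) = c * ((n / m : ℕ) : ℝ) ^ d * (m : ℝ) ^ d := by ring
      _ ≤ _ := by
        refine mul_le_mul_of_nonneg_right (h2.trans ?_) (by positivity)
        exact_mod_cast hle (n / m)
  linarith

/-- Positive upper growth gives positive lower growth. -/
theorem liminf_pos_of_limsup_pos [IsIntegral X] {L : X.Modules} (hL : PicF.IsInvertible L)
    (hproj : ∃ A : X.Modules, CohB1.IsAmple A) {d : ℕ} (hd : topologicalKrullDim X = d)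
    (hbig : 0 < limsup (nrm 1 d (seq k (Coh.structureModule X) L 0)) atTop) :
    0 < liminf (nrm 1 d (seq k (Coh.structureModule X) L 0)) atTop := by
  obtain ⟨A, hA⟩ := hproj
  obtain ⟨A', hA', hinv⟩ := H23.PicInv.exists_inverse hA.1
  obtain ⟨m, hm, hpos⟩ := exists_hom_of_limsup_pos k hL hd hA' hbig
  exact liminf_pos_of_dominates k hL hA hA'
    ((mul_comm _ _).trans (cl_mul_eq_one hinv)) hd hm (nontrivial_of_pos k hpos)

end Groth.Agent.Growth22
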