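import Groth.Agent.VarBase.NakaiCrit
import Groth.Agent.AmpleVan.AdicGen
import Groth.Agent.Growth22.CurveNef
import Groth.Agent.Pic13Lib.NonVanish

/-!
# Strictly nef semi-ample modules are ample
-/

noncomputable section

set_option linter.style.haveILetI false
set_option linter.unusedSectionVars false
set_option maxHeartbeats 1000000
set_option backward.isDefEq.respectTransparency false
set_option backward.isDefEq.respectTransparency.types false

universe u

open CategoryTheory CategoryTheory.Limits AlgebraicGeometry TopologicalSpace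
open Groth.Agent.H23.TrivBasic (Triv locus mem_locus_iff)
open Groth.Agent.VarBase (TwistVanOn twistVanOn_of_ample nonempty_pullback_tensorPow nonempty_tensorPow_mul
  exists_section_mem mem_locus_map_iso)
open scoped Groth.Agent.H23.PicMul

namespace Groth.Agent.Growth22

open Groth.Agent

variable {k : Type u} [Field k] {X : Scheme.{u}} [X.Over (Spec (CommRingCat.of k))]
  [IsProper (X ↘ Spec (CommRingCat.of k))]

include k in
/-- Ample on proper closed subvarieties, a section of a power, and nontrivial on curves: ample. -/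
theorem isAmple_of_section [IsIntegral X] {L : X.Modules} (hL : PicF.IsInvertible L)
    (hres : ∀ (Z : Scheme.{u}) (i : Z ⟶ X), IsClosedImmersion i → IsIntegral Z → Set.range i ≠ Set.univ →
      CohB1.IsAmple ((Scheme.Modules.pullback i).obj L))
    {m : ℕ} (hm : 0 < m) (s₀ : Coh.structureModule X ⟶ CohB1.tensorPow L m) (hs : s₀ ≠ 0)
    (hC : ∀ (C : Scheme.{u}) (j : C ⟶ X), IsClosedImmersion j → IsIntegral C → ∀ n, 0 < n →
      Triv ((Scheme.Modules.pullback j).obj (CohB1.tensorPow L n)) → Finite C) :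
    CohB1.IsAmple L := by
  haveI := CurveCohLib.isNoetherian_of_proper (k := k) (X := X)
  have hsub : ∀ (T : Set X), T ≠ Set.univ → ∀ (Z : Scheme.{u}) (i : Z ⟶ X), IsClosedImmersion i →
      IsIntegral Z → Set.range i ⊆ T → CohB1.IsAmple ((Scheme.Modules.pullback i).obj L) :=
    fun T hT Z i hi hZ h => hres Z i hi hZ fun he => hT (Set.univ_subset_iff.1 (he ▸ h))
  let L' := CohB1.tensorPow L m
  have hL' : PicF.IsInvertible L' := InvX.isInvertible_tensorPow hL m
  let σ := InvX.one s₀
  have hσ : σ ≠ 0 := fun h => hs (AmpleVan.one_inj (h.trans rfl))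
  let s := InvX.ofSect σ
  haveI : Mono s := InvEnd.mono_of_ne_zero CurveDeg.isInvertible_structureModule hL' s fun h0 => hσ (by
    have h1 := congrArg InvX.one h0
    rw [InvX.one_ofSect] at h1
    exact h1)
  have hD : ((CohB1.genLocus L' s : Set X)ᶜ) ≠ Set.univ := fun h => H23.TrivBasic.locus_ne_bot hL' hσ
    (show CohB1.genLocus L' s = ⊥ from SetLike.coe_injective (by simpa using h))
  have hT : TwistVanOn L' ((CohB1.genLocus L' s : Set X)ᶜ) :=
    twistVanOn_of_ample k hL' fun Z i hi hZ h => by
      obtain ⟨e⟩ := nonempty_pullback_tensorPow i L m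
      exact AmpleX.isAmple_of_iso e.symm (AmpleX.isAmple_tensorPow (hsub _ hD Z i hi hZ h) hm)
  -- generation of a common power
  have hloc : ∀ x : X, ∃ n, 0 < n ∧ ∃ t : Γ(CohB1.tensorPow L' n, ⊤), x ∈ locus t := fun x => by
    obtain ⟨z, hz, hzc⟩ := IsClosed.exists_closed_singleton (isClosed_closure (s := ({x} : Set X)))
      ⟨x, subset_closure rfl⟩
    obtain ⟨n, hn, t, ht⟩ := exists_section_mem k hL' s hT hzc
    exact ⟨n, hn, t, (specializes_iff_mem_closure.2 hz).mem_open (locus t).isOpen ht⟩
  choose n hn t ht using hloc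
  obtain ⟨S, hS⟩ := isCompact_univ.elim_finite_subcover (fun x => (locus (t x) : Set X))
    (fun x => (locus (t x)).isOpen) (fun x _ => Set.mem_iUnion.2 ⟨x, ht x⟩)
  let M := ∏ x ∈ S, n x
  have hM : 0 < M := Finset.prod_pos fun x _ => hn x
  have hgen : ∀ x : X, ∃ t' : Γ(CohB1.tensorPow L (m * M), ⊤), x ∈ locus t' := fun x => by
    obtain ⟨y, hy⟩ := Set.mem_iUnion.1 (hS (Set.mem_univ x))
    obtain ⟨hyS, hxy⟩ := Set.mem_iUnion.1 hy
    obtain ⟨j, hj⟩ : n y ∣ M := Finset.dvd_prod_of_mem _ hyS
    obtain ⟨e₁⟩ := nonempty_tensorPow_mul L' (n y) j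
    obtain ⟨e₂⟩ := nonempty_tensorPow_mul L m M
    obtain ⟨U, hxU, hU⟩ := mem_locus_iff.1 hxy
    refine ⟨_, mem_locus_map_iso (e₁ ≪≫ eqToIso (congrArg (CohB1.tensorPow L') hj.symm) ≪≫ e₂)
      (t := AmpleX.powElt (t y) j) (mem_locus_iff.2 ⟨U, hxU, ?_⟩)⟩
    rw [AmpleX.res_powElt]
    exact AmpleX.isFrame_powElt hU j
  have hmM : 0 < m * M := Nat.mul_pos hm hM
  haveI : CompactSpace X := QuasiCompact.compactSpace_of_compactSpace (X ↘ Spec (CommRingCat.of k))
  haveI : X.IsSeparated := AmpleVan.isSeparated_of_proper (A := k)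
  refine AmpleX.isAmple_of_tensorPow hL hmM (AVAmple.isAmple_of_nontriv (X ↘ Spec (CommRingCat.of k))
    (InvX.isInvertible_tensorPow hL _) hgen ?_)
  exact fun j hj hC' htriv => hC _ j hj hC' _ hmM htriv

/-- Positive degree on closed curves, for any closed immersion of a curve. -/
theorem deg_pos_of_strictlyNef {L : X.Modules} (hL : PicF.IsInvertible L)
    (hnef : ∀ C : X.IdealSheafData, IsIntegral C.subscheme → topologicalKrullDim (C.support : Set X) = 1 →
      0 < Curv2.euler k X (CohB1.tensorMod (ClSub.quotMod C) L) - Curv2.euler k X (ClSub.quotMod C))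
    {T : Scheme.{u}} [T.Over (Spec (CommRingCat.of k))] [IsProper (T ↘ Spec (CommRingCat.of k))] [IsIntegral T]
    (hT : topologicalKrullDim T = 1) (i : T ⟶ X) [IsClosedImmersion i]
    (hi : i ≫ (X ↘ Spec (CommRingCat.of k)) = T ↘ Spec (CommRingCat.of k)) :
    0 < Curv2.deg k T ((Scheme.Modules.pullback i).obj L) 1 := by
  have h := hnef i.ker (SurfInt.isIntegral_ker i) ((SurfInt.dim_support_ker i).trans hT)
  rw [SurfInt.euler_congr k (PicGrp.tensorModIso (SurfInt.nonempty_quotMod_ker i).some (Iso.refl L)),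
    SurfInt.euler_congr k (SurfInt.nonempty_quotMod_ker i).some,
    SurfInt.euler_quot_tensor k i hi (ProjUPX.isQCoh_of_isInvertible hL),
    SurfInt.euler_push k i hi QCoh.isQCoh_structureModule] at h
  rw [Curv2.deg]
  push_cast
  linarith

/-- A strictly nef module has no trivial power on a positive-dimensional subvariety. -/
theorem finite_of_triv_of_strictlyNef {L : X.Modules} (hL : PicF.IsInvertible L)
    (hnef : ∀ C : X.IdealSheafData, IsIntegral C.subscheme → topologicalKrullDim (C.support : Set X) = 1 →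
      0 < Curv2.euler k X (CohB1.tensorMod (ClSub.quotMod C) L) - Curv2.euler k X (ClSub.quotMod C))
    (C : Scheme.{u}) (j : C ⟶ X) [IsClosedImmersion j] [IsIntegral C] {n : ℕ} (hn : 0 < n)
    (htriv : Triv ((Scheme.Modules.pullback j).obj (CohB1.tensorPow L n))) : Finite C := by
  let f := j ≫ (X ↘ Spec (CommRingCat.of k))
  haveI : CompactSpace C := QuasiCompact.compactSpace_of_compactSpace f
  obtain ⟨z, -, hz⟩ := IsClosed.exists_closed_singleton (isClosed_univ (X := C)) Set.univ_nonempty
  by_cases hne : genericPoint C = z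
  · have h : ∀ x : C, x = z := fun x => by
      have hx := (genericPoint_specializes x).mem_closed hz hne
      exact hx
    haveI : Subsingleton C := ⟨fun a b => (h a).trans (h b).symm⟩
    exact inferInstance
  exfalso
  obtain ⟨T, c, hc, hT, hdim, -⟩ := Pic13Lib.exists_curve_through f hz hne
  letI : T.Over (Spec (CommRingCat.of k)) := ⟨(c ≫ j) ≫ (X ↘ Spec (CommRingCat.of k))⟩
  haveI : IsProper (T ↘ Spec (CommRingCat.of k)) :=
    show IsProper ((c ≫ j) ≫ (X ↘ Spec (CommRingCat.of k))) from inferInstance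
  haveI := CurveCohLib.isNoetherian_of_proper (k := k) (X := T)
  have hLT := PicClLib.isInvertible_pullback (c ≫ j) hL
  have hamp := (VarBase.isAmple_iff_deg_pos k hdim hLT).2 (deg_pos_of_strictlyNef hL hnef hdim (c ≫ j) rfl)
  obtain ⟨e⟩ := nonempty_pullback_tensorPow (c ≫ j) L n
  obtain ⟨φ⟩ := htriv
  obtain ⟨e'⟩ := PicClLib.nonempty_pullback_structureModule c
  haveI := VarBase.finite_of_ample_structure (X := T) k
    (AmpleX.isAmple_of_iso (e.symm ≪≫ ((Scheme.Modules.pullbackComp c j).app _).symm ≪≫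
      (Scheme.Modules.pullback c).mapIso φ ≪≫ e') (AmpleX.isAmple_tensorPow hamp hn))
  have h0 : topologicalKrullDim T ≤ 0 := by
    haveI : JacobsonSpace T := LocallyOfFiniteType.jacobsonSpace (T ↘ Spec (CommRingCat.of k))
    haveI : DiscreteTopology T := inferInstance
    exact topologicalKrullDim_zero_of_discreteTopology T
  rw [hdim] at h0
  exact absurd h0 (by norm_num)

end Groth.Agent.Growth22
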